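import Cfsg.Agent.H24.Hall4b
import Cfsg.Agent.H19.Amb5

/-! Four-transitive groups: basic vocabulary (relative 4-transitivity, Gleason, Steiner counts). -/

set_option autoImplicit false

namespace H15.FT
open MulAction Subgroup H19 H24

variable {G Ω : Type*} [Group G] [MulAction G Ω]

variable (Ω) in
/-- fixed points of a subgroup -/
def Fx (S : Subgroup G) : Set Ω := fixedPoints S Ω

theorem mem_Fx {S : Subgroup G} {x : Ω} : x ∈ Fx Ω S ↔ ∀ g ∈ S, g • x = x :=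
  ⟨fun h g hg => h ⟨g, hg⟩, fun h g => h g g.2⟩

theorem Fx_anti {S T : Subgroup G} (h : S ≤ T) : Fx Ω T ⊆ Fx Ω S :=
  fun _ hx => mem_Fx.2 fun g hg => mem_Fx.1 hx g (h hg)

theorem Fx_le {S : Subgroup G} {x : Ω} : x ∈ Fx Ω S ↔ S ≤ stabilizer G x := mem_Fx

theorem Fx_sup {S T : Subgroup G} : Fx Ω (S ⊔ T) = Fx Ω S ∩ Fx Ω T := by
  ext x; simp only [Set.mem_inter_iff, Fx_le, sup_le_iff]

theorem Fx_zp (t : G) : Fx Ω (zpowers t) = fixedBy Ω t := H17.fixedPoints_zpowers t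

theorem Fx_cj {S : Subgroup G} {g : G} {x : Ω} : g • x ∈ Fx Ω (cj g S) ↔ x ∈ Fx Ω S := by
  simp only [mem_Fx]
  refine ⟨fun h s hs => ?_, fun h s hs => ?_⟩
  · have := h _ (conj_mem_cj.2 hs)
    simpa [mul_smul] using this
  · obtain ⟨y, hy, rfl⟩ := mem_cj'.1 hs
    simp [mul_smul, h y hy]

theorem Fx_norm {S : Subgroup G} {g : G} (hg : g ∈ N(S)) {x : Ω} (hx : x ∈ Fx Ω S) :
    g • x ∈ Fx Ω S := cj_of_mem_norm hg ▸ Fx_cj.2 hx

theorem ncard_smul (g : G) {A B : Set Ω} (h : ∀ x, g • x ∈ B ↔ x ∈ A) : B.ncard = A.ncard := by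
  have : B = (fun x => g • x) '' A := by
    ext y
    exact ⟨fun hy => ⟨g⁻¹ • y, (h _).1 (by simpa using hy), by simp⟩, by
      rintro ⟨x, hx, rfl⟩; exact (h x).2 hx⟩
  rw [this, Set.ncard_image_of_injective _ (MulAction.injective g)]

theorem ncard_Fx_cj (g : G) (S : Subgroup G) : (Fx Ω (cj g S)).ncard = (Fx Ω S).ncard :=
  ncard_smul g fun _ => Fx_cj

theorem fb_conj {g t : G} {x : Ω} : g • x ∈ fixedBy Ω (g * t * g⁻¹) ↔ x ∈ fixedBy Ω t := by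
  simp [mul_smul]

theorem ncard_fb_conj (g t : G) : (fixedBy Ω (g * t * g⁻¹)).ncard = (fixedBy Ω t).ncard :=
  ncard_smul g fun _ => fb_conj

theorem fb_comm {g t : G} (h : g * t = t * g) {x : Ω} (hx : x ∈ fixedBy Ω t) :
    g • x ∈ fixedBy Ω t := by
  rw [mem_fixedBy] at hx ⊢; rw [smul_smul, ← h, mul_smul, hx]

variable (G) in
/-- stabilizer of three points -/
def St3 (a b c : Ω) : Subgroup G := stabilizer G a ⊓ stabilizer G b ⊓ stabilizer G c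

theorem mem_St3 {a b c : Ω} {g : G} : g ∈ St3 G a b c ↔ g • a = a ∧ g • b = b ∧ g • c = c := by
  simp [St3, and_assoc]

theorem St4_le (a b c d : Ω) : St4 G a b c d ≤ St3 G a b c := inf_le_left

theorem St4_eq (a b c d : Ω) : St4 G a b c d = St3 G a b c ⊓ stabilizer G d := rfl

theorem cj_St4 (g : G) (a b c d : Ω) :
    cj g (St4 G a b c d) = St4 G (g • a) (g • b) (g • c) (g • d) := by
  ext x; simp [mem_cj, mem_St4, mul_smul, inv_smul_eq_iff]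

theorem cj_St3 (g : G) (a b c : Ω) : cj g (St3 G a b c) = St3 G (g • a) (g • b) (g • c) := by
  ext x; simp [mem_cj, mem_St3, mul_smul, inv_smul_eq_iff]

theorem St4_12 (a b c d : Ω) : St4 G b a c d = St4 G a b c d := by ext; simp only [mem_St4]; tauto
theorem St4_23 (a b c d : Ω) : St4 G a c b d = St4 G a b c d := by ext; simp only [mem_St4]; tauto
theorem St4_34 (a b c d : Ω) : St4 G a b d c = St4 G a b c d := by ext; simp only [mem_St4]; tauto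
theorem St4_sw (a b c d : Ω) : St4 G c d a b = St4 G a b c d := by ext; simp only [mem_St4]; tauto
theorem St3_12 (a b c : Ω) : St3 G b a c = St3 G a b c := by ext; simp only [mem_St3]; tauto
theorem St3_23 (a b c : Ω) : St3 G a c b = St3 G a b c := by ext; simp only [mem_St3]; tauto
theorem St3_r (a b c : Ω) : St3 G b c a = St3 G a b c := by ext; simp only [mem_St3]; tauto

theorem norm_St4 {g : G} {a b c d : Ω}
    (h : St4 G (g • a) (g • b) (g • c) (g • d) = St4 G a b c d) : g ∈ N(St4 G a b c d) :=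
  mem_norm_iff_cj.2 (by rw [cj_St4, h])

theorem norm_St3 {g : G} {a b c : Ω}
    (h : St3 G (g • a) (g • b) (g • c) = St3 G a b c) : g ∈ N(St3 G a b c) :=
  mem_norm_iff_cj.2 (by rw [cj_St3, h])

theorem le_St4 {S : Subgroup G} {a b c d : Ω} :
    S ≤ St4 G a b c d ↔ a ∈ Fx Ω S ∧ b ∈ Fx Ω S ∧ c ∈ Fx Ω S ∧ d ∈ Fx Ω S := by
  simp only [St4, le_inf_iff, Fx_le, and_assoc]

theorem s23 {a b c d : Ω} (h : D4 a b c d) : D4 a c b d := ⟨h.ac, h.ab, h.ad, h.bc.symm, h.cd, h.bd⟩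

theorem D4_smul {a b c d : Ω} (h : D4 a b c d) (g : G) : D4 (g • a) (g • b) (g • c) (g • d) := by
  obtain ⟨h1, h2, h3, h4, h5, h6⟩ := h
  constructor <;> simpa

theorem D4_card {a b c d : Ω} (h : D4 a b c d) : ({a, b, c, d} : Set Ω).ncard = 4 := by
  rw [Set.ncard, h.encard]; rfl

/-- four distinct points of `Γ` -/
structure E4 (Γ : Set Ω) (a b c d : Ω) : Prop where
  d4 : D4 a b c d
  ha : a ∈ Γ
  hb : b ∈ Γ
  hc : c ∈ Γ
  hd : d ∈ Γ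

namespace E4
variable {Γ Δ : Set Ω} {a b c d : Ω} (h : E4 Γ a b c d)
include h
theorem s12 : E4 Γ b a c d := ⟨h.d4.s12, h.hb, h.ha, h.hc, h.hd⟩
theorem s23 : E4 Γ a c b d := ⟨FT.s23 h.d4, h.ha, h.hc, h.hb, h.hd⟩
theorem s34 : E4 Γ a b d c := ⟨h.d4.s34, h.ha, h.hb, h.hd, h.hc⟩
theorem sw : E4 Γ c d a b := ⟨h.d4.sw, h.hc, h.hd, h.ha, h.hb⟩
theorem mono (hs : Γ ⊆ Δ) : E4 Δ a b c d := ⟨h.d4, hs h.ha, hs h.hb, hs h.hc, hs h.hd⟩
theorem sub : ({a, b, c, d} : Set Ω) ⊆ Γ := by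
  rintro x (rfl | rfl | rfl | rfl); exacts [h.ha, h.hb, h.hc, h.hd]
theorem le [Finite Ω] : 4 ≤ Γ.ncard := D4_card h.d4 ▸ Set.ncard_le_ncard h.sub
theorem rep {e : Ω} (he : e ∈ Γ) (h1 : e ≠ a) (h2 : e ≠ b) (h3 : e ≠ c) : E4 Γ a b c e :=
  ⟨⟨h.d4.ab, h.d4.ac, h1.symm, h.d4.bc, h2.symm, h3.symm⟩, h.ha, h.hb, h.hc, he⟩
theorem five [Finite Ω] (h5 : 4 < Γ.ncard) : ∃ e ∈ Γ, e ≠ a ∧ e ≠ b ∧ e ≠ c ∧ e ≠ d := by
  by_contra hn
  push Not at hn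
  have : Γ ⊆ {a, b, c, d} := fun x hx => by
    by_contra h'; simp only [Set.mem_insert_iff, Set.mem_singleton_iff, not_or] at h'
    exact h'.2.2.2 (hn x hx h'.1 h'.2.1 h'.2.2.1)
  have := Set.ncard_le_ncard this
  rw [D4_card h.d4] at this; omega
theorem lt [Finite Ω] {e : Ω} (he : e ∈ Γ) (h1 : e ≠ a) (h2 : e ≠ b) (h3 : e ≠ c) (h4 : e ≠ d) :
    4 < Γ.ncard := by
  have : (insert e {a, b, c, d} : Set Ω) ⊆ Γ := Set.insert_subset he h.sub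
  have := Set.ncard_le_ncard this
  rw [Set.ncard_insert_of_notMem (by simp [*]), D4_card h.d4] at this; omega
theorem eq [Finite Ω] (h4 : Γ.ncard ≤ 4) {x : Ω} (hx : x ∈ Γ) : x = a ∨ x = b ∨ x = c ∨ x = d := by
  by_contra hn
  push Not at hn
  have := h.lt hx hn.1 hn.2.1 hn.2.2.1 hn.2.2.2
  omega
end E4

theorem E4_St {S : Subgroup G} {a b c d : Ω} (h : D4 a b c d) (hS : S ≤ St4 G a b c d) :
    E4 (Fx Ω S) a b c d := let ⟨h1, h2, h3, h4⟩ := le_St4.1 hS; ⟨h, h1, h2, h3, h4⟩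

theorem E4.St {S : Subgroup G} {a b c d : Ω} (h : E4 (Fx Ω S) a b c d) : S ≤ St4 G a b c d :=
  le_St4.2 ⟨h.ha, h.hb, h.hc, h.hd⟩

theorem E4_fb {t : G} {a b c d : Ω} (h : D4 a b c d) (hS : t ∈ St4 G a b c d) :
    E4 (fixedBy Ω t) a b c d := let ⟨h1, h2, h3, h4⟩ := mem_St4.1 hS; ⟨h, h1, h2, h3, h4⟩

theorem E4.st {t : G} {a b c d : Ω} (h : E4 (fixedBy Ω t) a b c d) : t ∈ St4 G a b c d :=
  mem_St4.2 ⟨h.ha, h.hb, h.hc, h.hd⟩

theorem ex4 {Γ : Set Ω} (h : 4 ≤ Γ.ncard) : ∃ a b c d, E4 Γ a b c d := by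
  obtain ⟨S, hS, h3⟩ := Set.exists_subset_card_eq h
  obtain ⟨a, b, c, d, h4, h5, h6, h7, h8, h9, rfl⟩ := Set.ncard_eq_four.1 h3
  exact ⟨a, b, c, d, ⟨h4, h5, h6, h7, h8, h9⟩, hS (by simp), hS (by simp), hS (by simp), hS (by simp)⟩

/-- extend three points to four -/
theorem ex4_3 [Finite Ω] {Γ : Set Ω} (h : 4 ≤ Γ.ncard) {a b c : Ω} (ab : a ≠ b) (ac : a ≠ c)
    (bc : b ≠ c) (ha : a ∈ Γ) (hb : b ∈ Γ) (hc : c ∈ Γ) : ∃ d, E4 Γ a b c d := by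
  obtain ⟨d, hd, h'⟩ := Set.exists_mem_notMem_of_ncard_lt_ncard (s := {a, b, c}) (t := Γ)
    (by rw [Set.ncard_eq_three.2 ⟨a, b, c, ab, ac, bc, rfl⟩]; omega)
  simp only [Set.mem_insert_iff, Set.mem_singleton_iff, not_or] at h'
  exact ⟨d, ⟨ab, ac, Ne.symm h'.1, bc, Ne.symm h'.2.1, Ne.symm h'.2.2⟩, ha, hb, hc, hd⟩

theorem ex4_2 [Finite Ω] {Γ : Set Ω} (h : 4 ≤ Γ.ncard) {a b : Ω} (ab : a ≠ b)
    (ha : a ∈ Γ) (hb : b ∈ Γ) : ∃ c d, E4 Γ a b c d := by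
  obtain ⟨c, hc, h'⟩ := Set.exists_mem_notMem_of_ncard_lt_ncard (s := {a, b}) (t := Γ)
    (by rw [Set.ncard_pair ab]; omega)
  simp only [Set.mem_insert_iff, Set.mem_singleton_iff, not_or] at h'
  exact ⟨c, ex4_3 h ab (Ne.symm h'.1) (Ne.symm h'.2) ha hb hc⟩

theorem ex4_1 [Finite Ω] {Γ : Set Ω} (h : 4 ≤ Γ.ncard) {a : Ω} (ha : a ∈ Γ) :
    ∃ b c d, E4 Γ a b c d := by
  obtain ⟨b, hb, h'⟩ := Set.exists_mem_notMem_of_ncard_lt_ncard (s := {a}) (t := Γ)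
    (by rw [Set.ncard_singleton]; omega)
  exact ⟨b, ex4_2 h (Ne.symm h') ha hb⟩

/-- the chain lemma -/
theorem chain {Γ : Set Ω} {R : Ω → Ω → Ω → Ω → Prop}
    (p12 : ∀ a b c d, E4 Γ a b c d → R a b c d → R b a c d)
    (p23 : ∀ a b c d, E4 Γ a b c d → R a b c d → R a c b d)
    (p34 : ∀ a b c d, E4 Γ a b c d → R a b c d → R a b d c)
    (rep : ∀ a b c d e, E4 Γ a b c d → E4 Γ a b c e → R a b c d → R a b c e)
    {a b c d a' b' c' d' : Ω} (h : E4 Γ a b c d) (h' : E4 Γ a' b' c' d') (r : R a b c d) :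
    R a' b' c' d' := by
  have L4 : ∀ a b c d x, E4 Γ a b c d → R a b c d → x ∈ Γ → x ≠ a → x ≠ b → x ≠ c →
      E4 Γ a b c x ∧ R a b c x := fun a b c d x h r hx h1 h2 h3 =>
    ⟨h.rep hx h1 h2 h3, rep _ _ _ _ _ h (h.rep hx h1 h2 h3) r⟩
  have L3 : ∀ a b c d x, E4 Γ a b c d → R a b c d → x ∈ Γ → x ≠ a → x ≠ b →
      ∃ d', E4 Γ a b x d' ∧ R a b x d' := fun a b c d x h r hx h1 h2 => by
    by_cases e : x = c
    · exact ⟨d, e ▸ h, e ▸ r⟩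
    · obtain ⟨h, r⟩ := L4 _ _ _ _ x h r hx h1 h2 e
      exact ⟨_, h.s34, p34 _ _ _ _ h r⟩
  have L2 : ∀ a b c d x, E4 Γ a b c d → R a b c d → x ∈ Γ → x ≠ a →
      ∃ c' d', E4 Γ a x c' d' ∧ R a x c' d' := fun a b c d x h r hx h1 => by
    by_cases e : x = b
    · exact ⟨c, d, e ▸ h, e ▸ r⟩
    · obtain ⟨_, h, r⟩ := L3 _ _ _ _ x h r hx h1 e
      exact ⟨_, _, h.s23, p23 _ _ _ _ h r⟩
  have L1 : ∃ b' c' d', E4 Γ a' b' c' d' ∧ R a' b' c' d' := by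
    by_cases e : a' = a
    · exact ⟨b, c, d, e ▸ h, e ▸ r⟩
    · obtain ⟨_, _, h, r⟩ := L2 _ _ _ _ a' h r h'.ha e
      exact ⟨_, _, _, h.s12, p12 _ _ _ _ h r⟩
  obtain ⟨_, _, _, h, r⟩ := L1
  obtain ⟨_, _, h, r⟩ := L2 _ _ _ _ b' h r h'.hb h'.d4.ab.symm
  obtain ⟨_, h, r⟩ := L3 _ _ _ _ c' h r h'.hc h'.d4.ac.symm h'.d4.bc.symm
  exact (L4 _ _ _ _ d' h r h'.hd h'.d4.ad.symm h'.d4.bd.symm h'.d4.cd.symm).2

/-- `L` leaves `Γ` invariant and is 4-transitive on it -/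
structure T4 (L : Subgroup G) (Γ : Set Ω) : Prop where
  inv : ∀ g ∈ L, ∀ x ∈ Γ, g • x ∈ Γ
  ex : ∀ {a b c d a' b' c' d' : Ω}, E4 Γ a b c d → E4 Γ a' b' c' d' →
    ∃ g ∈ L, g • a = a' ∧ g • b = b' ∧ g • c = c' ∧ g • d = d'

theorem T4.mono {L M : Subgroup G} {Γ : Set Ω} (h : T4 L Γ) (hl : L ≤ M)
    (hi : ∀ g ∈ M, ∀ x ∈ Γ, g • x ∈ Γ) : T4 M Γ :=
  ⟨hi, fun e e' => let ⟨g, hg, r⟩ := h.ex e e'; ⟨g, hl hg, r⟩⟩

/-- transitivity of three-point stabilizers gives 4-transitivity -/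
theorem T4_of_rep [Finite Ω] {L : Subgroup G} {Γ : Set Ω} (hi : ∀ g ∈ L, ∀ x ∈ Γ, g • x ∈ Γ)
    (h5 : 4 < Γ.ncard) (rep : ∀ a b c d e, E4 Γ a b c d → E4 Γ a b c e →
      ∃ g ∈ L, g • a = a ∧ g • b = b ∧ g • c = c ∧ g • d = e) : T4 L Γ := by
  refine ⟨hi, fun {a0 b0 c0 d0 a' b' c' d'} h h' => ?_⟩
  let R : Ω → Ω → Ω → Ω → Prop := fun a b c d =>
    ∃ g ∈ L, g • a0 = a ∧ g • b0 = b ∧ g • c0 = c ∧ g • d0 = d
  have tr : ∀ {a b c d a' b' c' d'}, R a b c d →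
      (∃ g ∈ L, g • a = a' ∧ g • b = b' ∧ g • c = c' ∧ g • d = d') → R a' b' c' d' := by
    rintro _ _ _ _ _ _ _ _ ⟨g, hg, rfl, rfl, rfl, rfl⟩ ⟨k, hk, rfl, rfl, rfl, rfl⟩
    exact ⟨k * g, mul_mem hk hg, by simp only [mul_smul, and_self]⟩
  have s : ∀ a b c d, E4 Γ a b c d → ∃ g ∈ L, g • a = a ∧ g • b = b ∧ g • c = d ∧ g • d = c := by
    intro a b c d h
    obtain ⟨e, he, h1, h2, h3, h4⟩ := h.five h5
    have E1 := h.rep he h1 h2 h3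
    have E2 := h.s34.rep he h1 h2 h4
    obtain ⟨g1, m1, x1, y1, z1, w1⟩ := rep _ _ _ _ _ h E1
    obtain ⟨g2, m2, x2, y2, z2, w2⟩ := rep _ _ _ _ _ E1.s34 E2.s34
    obtain ⟨g3, m3, x3, y3, z3, w3⟩ := rep _ _ _ _ _ E2 h.s34
    exact ⟨g3 * g2 * g1, mul_mem (mul_mem m3 m2) m1, by simp only [mul_smul, *, and_self]⟩
  refine chain (R := R) (fun a b c d h r => tr r ?_) (fun a b c d h r => tr r ?_)
    (fun a b c d h r => tr r (s _ _ _ _ h)) (fun a b c d e h h' r => tr r (rep _ _ _ _ _ h h')) h h'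
    ⟨1, one_mem _, by simp⟩
  · obtain ⟨g, hg, h1, h2, h3, h4⟩ := s _ _ _ _ h.sw
    exact ⟨g, hg, h3, h4, h1, h2⟩
  · obtain ⟨g, hg, h1, h2, h3, h4⟩ := s _ _ _ _ h.s34.s23
    exact ⟨g, hg, h1, h3, h4, h2⟩

/-- Gleason's lemma for 4-transitivity -/
theorem gleason4 [Finite G] [Finite Ω] {p : ℕ} (hp : p.Prime) {L : Subgroup G} {Γ : Set Ω}
    (hi : ∀ g ∈ L, ∀ x ∈ Γ, g • x ∈ Γ) (h5 : 4 < Γ.ncard)
    (h : ∀ a b c d, E4 Γ a b c d → ∃ P ≤ L, P ≤ St4 G a b c d ∧ PG p P ∧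
      ∀ x ∈ Γ, x ∈ Fx Ω P → x = a ∨ x = b ∨ x = c ∨ x = d) : T4 L Γ := by
  refine T4_of_rep hi h5 fun a b c d e h1 h2 => ?_
  obtain ⟨g, hg, e⟩ := H17.gleason_one hp (L ⊓ St3 G a b c) (Γ \ {a, b, c}) (fun g hg x hx => by
      obtain ⟨g1, g2, g3⟩ := mem_St3.1 hg.2
      refine ⟨hi g hg.1 x hx.1, fun h => hx.2 ?_⟩
      rcases h with h | h | h
      · exact Or.inl ((smul_left_cancel_iff g).1 (h.trans g1.symm))
      · exact Or.inr (Or.inl ((smul_left_cancel_iff g).1 (h.trans g2.symm)))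
      · exact Or.inr (Or.inr ((smul_left_cancel_iff g).1 (h.trans g3.symm))))
    (fun x hx => by
      have hx2 := hx.2
      simp only [Set.mem_insert_iff, Set.mem_singleton_iff, not_or] at hx2
      obtain ⟨P, l1, l2, pg, hP⟩ := h a b c x (h1.rep hx.1 hx2.1 hx2.2.1 hx2.2.2)
      refine ⟨P, le_inf l1 (l2.trans (St4_le _ _ _ _)), pg.isPGroup, ?_⟩
      ext y
      refine ⟨fun hy => ?_, fun hy => ?_⟩
      · have := hP y hy.1.1 hy.2
        have h3 := hy.1.2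
        simp only [Set.mem_insert_iff, Set.mem_singleton_iff, not_or] at h3 ⊢
        tauto
      · obtain rfl : y = x := hy
        exact ⟨hx, (le_St4.1 l2).2.2.2⟩)
    (a := d) (b := e) ⟨h1.hd, by simp [h1.d4.ad.symm, h1.d4.bd.symm, h1.d4.cd.symm]⟩
    ⟨h2.hd, by simp [h2.d4.ad.symm, h2.d4.bd.symm, h2.d4.cd.symm]⟩
  obtain ⟨g1, g2, g3⟩ := mem_St3.1 hg.2
  exact ⟨g, hg.1, g1, g2, g3, e⟩

/-! ### counting -/

theorem fib {α β : Type*} {S : Set α} {T : Set β} (hS : S.Finite) (hT : T.Finite) (g : α → β)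
    (h1 : ∀ s ∈ S, g s ∈ T) {k : ℕ} (h2 : ∀ t ∈ T, {s ∈ S | g s = t}.ncard = k) :
    S.ncard = T.ncard * k := by
  classical
  lift S to Finset α using hS
  lift T to Finset β using hT
  rw [Set.ncard_coe_finset, Set.ncard_coe_finset,
    Finset.card_eq_sum_card_fiberwise (f := g) (t := T) (fun s hs => h1 s hs),
    Finset.sum_congr rfl (g := fun _ => k) fun t ht => by
      rw [← h2 t ht, ← Set.ncard_coe_finset]; simp]
  simp

theorem part_dvd {α β : Type*} {S : Set α} (hS : S.Finite) (g : α → β) {k : ℕ}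
    (h2 : ∀ x ∈ S, {s ∈ S | g s = g x}.ncard = k) : k ∣ S.ncard := by
  rw [fib hS (hS.image g) g (fun s hs => ⟨s, hs, rfl⟩) (k := k) (by rintro _ ⟨x, hx, rfl⟩; exact h2 x hx)]
  exact Dvd.intro_left _ rfl

theorem ncard_offDiag {α : Type*} {S : Set α} (hS : S.Finite) :
    S.offDiag.ncard = S.ncard * (S.ncard - 1) := by
  classical
  lift S to Finset α using hS
  rw [← Finset.coe_offDiag, Set.ncard_coe_finset, Set.ncard_coe_finset, Finset.offDiag_card,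
    Nat.mul_sub_one]

theorem modP [Finite G] [Finite Ω] {p : ℕ} {P : Subgroup G} (hp : p.Prime) (hP : PG p P) {s : Set Ω}
    (hs : ∀ g ∈ P, ∀ x ∈ s, g • x ∈ s) : s.ncard ≡ (s ∩ Fx Ω P).ncard [MOD p] :=
  haveI := Fact.mk hp
  H17.ncard_modEq_fixed P hP.isPGroup s (Set.toFinite _) hs

theorem modE [Finite G] [Finite Ω] {p : ℕ} {t : G} (hp : p.Prime) (ht : PiE {p} t) {s : Set Ω}
    (hs : ∀ x ∈ s, t • x ∈ s) : s.ncard ≡ (s ∩ fixedBy Ω t).ncard [MOD p] := by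
  obtain ⟨k, hk⟩ := ht.exists_pow (orderOf_pos t).ne'
  exact H17.ncard_modEq_fixedBy (k := k) hp (hk ▸ pow_orderOf_eq_one t) s (Set.toFinite _) hs

/-- the `p`-part of an element, as a power with exponent `≡ 1 mod p` -/
theorem ppart [Finite G] {p : ℕ} (hp : p.Prime) (g : G) : ∃ m, PiE {p} (g ^ (p * m + 1)) := by
  obtain ⟨k, n, hn, e⟩ := Nat.exists_eq_pow_mul_and_not_dvd (orderOf_pos g).ne' p hp.ne_one
  have h1 : n ^ (p - 1) ≡ 1 [MOD p] := by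
    have := Nat.ModEq.pow_totient ((Nat.coprime_comm.1 (hp.coprime_iff_not_dvd.2 hn)))
    rwa [Nat.totient_prime hp] at this
  have h0 : 1 ≤ n ^ (p - 1) := Nat.one_le_pow _ _ (Nat.pos_of_ne_zero (by rintro rfl; simp at hn))
  obtain ⟨m, hm⟩ := (Nat.modEq_iff_dvd' h0).1 h1.symm
  refine ⟨m, (PiN.prime_pow hp k).dvd (orderOf_dvd_of_pow_eq_one ?_)⟩
  rw [show p * m + 1 = n ^ (p - 1) by omega, ← pow_mul, ← orderOf_dvd_iff_pow_eq_one, e, mul_comm]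
  exact Nat.mul_dvd_mul_right (dvd_pow_self n (by have := hp.two_le; omega)) _

theorem pow_fix {g : G} {x : Ω} {p : ℕ} (h : g ^ p • x = x) (m : ℕ) : g ^ (p * m + 1) • x = g • x := by
  rw [pow_succ', mul_smul, pow_mul, show (g ^ p) ^ m • x = x from
    pow_mem (show g ^ p ∈ stabilizer G x from h) m]

theorem pow_fix2 {g : G} {x : Ω} (h : g • g • x = x) (m : ℕ) : g ^ (2 * m + 1) • x = g • x :=
  pow_fix (by rwa [sq, mul_smul]) m

theorem pow_fix3 {g : G} {x : Ω} (h : g • g • g • x = x) (m : ℕ) : g ^ (3 * m + 1) • x = g • x :=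
  pow_fix (by rwa [pow_three, mul_smul, mul_smul]) m

/-- an element acting as an involution on an invariant set -/
theorem mod2 [Finite G] [Finite Ω] {t : G} {s : Set Ω} (hs : ∀ x ∈ s, t • x ∈ s)
    (ht : ∀ x ∈ s, t • t • x = x) : s.ncard % 2 = (s ∩ fixedBy Ω t).ncard % 2 := by
  obtain ⟨m, hm⟩ := ppart Nat.prime_two t
  have := modE Nat.prime_two hm (s := s) fun x hx => by rw [pow_fix2 (ht x hx)]; exact hs x hx
  rw [this]
  congr 2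
  ext x
  exact and_congr_right fun hx => by rw [mem_fixedBy, mem_fixedBy, pow_fix2 (ht x hx)]

theorem inv2 {t : G} (h : t * t = 1) (x : Ω) : t • t • x = x := by rw [smul_smul, h, one_smul]

theorem pi2 {t : G} (h : t * t = 1) : PiE {2} t :=
  ((piN_prime (π := {2}) Nat.prime_two).2 rfl).dvd (orderOf_dvd_of_pow_eq_one (by rwa [sq]))

theorem piE_pow {t : G} {p : ℕ} (hp : p.Prime) (h : t ^ p = 1) : PiE {p} t :=
  ((piN_prime (π := {p}) hp).2 rfl).dvd (orderOf_dvd_of_pow_eq_one h)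

/-- a subgroup acting semiregularly at `x` has order the size of the orbit -/
theorem card_le_of_reg [Finite Ω] {A : Subgroup G} {x : Ω} {s : Set Ω} (h : ∀ a ∈ A, a • x = x → a = 1)
    (hs : ∀ a ∈ A, a • x ∈ s) : #A ≤ s.ncard := by
  rw [← Nat.card_coe_set_eq]
  refine Nat.card_le_card_of_injective (fun a : A => (⟨(a : G) • x, hs a a.2⟩ : s)) fun a b e => ?_
  have e : (a : G) • x = (b : G) • x := congrArg Subtype.val e
  exact Subtype.ext (inv_mul_eq_one.1 (h _ (mul_mem (inv_mem a.2) b.2)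
    (by rw [mul_smul, ← e, inv_smul_smul])))

/-- fixed points of an element normalizing a regular subgroup -/
theorem reg_fix [Finite G] {N : Subgroup G} {Γ : Set Ω} {x : Ω} {g : G}
    (tr : ∀ y, y ∈ Γ ↔ ∃ n ∈ N, n • x = y) (h : ∀ a ∈ N, a • x = x → a = 1) (hg : g ∈ N(N))
    (hx : g • x = x) : (Γ ∩ fixedBy Ω g).ncard = #(N ⊓ C[g]) := by
  have key : ∀ n ∈ N, g • n • x = n • x ↔ n ∈ C[g] := fun n hn => by
    rw [mem_cent1]
    refine ⟨fun e => ?_, fun e => by rw [smul_smul, ← e, mul_smul, hx]⟩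
    have := h _ (mul_mem (inv_mem hn) (conj_mem_of_norm hg hn)) (by
      simp only [mul_smul]; rw [inv_smul_eq_iff.2 hx.symm, e, inv_smul_smul])
    calc n * g = n * (n⁻¹ * (g * n * g⁻¹)) * g := by rw [this, mul_one]
      _ = _ := by group
  rw [← Nat.card_coe_set_eq]
  refine (Nat.card_eq_of_bijective (fun a : ↥(N ⊓ C[g]) => (⟨(a : G) • x,
    (tr _).2 ⟨a, a.2.1, rfl⟩, (key a a.2.1).2 a.2.2⟩ : ↥(Γ ∩ fixedBy Ω g))) ⟨fun a b e => ?_, ?_⟩).symm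
  · have e : (a : G) • x = (b : G) • x := congrArg Subtype.val e
    exact Subtype.ext (inv_mul_eq_one.1 (h _ (mul_mem (inv_mem a.2.1) b.2.1)
      (by rw [mul_smul, ← e, inv_smul_smul])))
  · rintro ⟨y, h1, h2⟩
    obtain ⟨n, hn, rfl⟩ := (tr y).1 h1
    exact ⟨⟨n, hn, (key n hn).1 h2⟩, rfl⟩

/-- fixed-point-free action passes to quotients -/
theorem fpf_quo [Finite G] {K U : Subgroup G} {h k : G} (hU : U ≤ K) (hn : h ∈ N(U))
    (f : ∀ x ∈ K, h * x = x * h → x = 1) (hk : k ∈ K) (e : k⁻¹ * (h * k * h⁻¹) ∈ U) : k ∈ U := by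
  have inj : ∀ x ∈ K, ∀ y ∈ K, x⁻¹ * (h * x * h⁻¹) = y⁻¹ * (h * y * h⁻¹) → x = y := fun x hx y hy e =>
    (mul_inv_eq_one.1 (f (y * x⁻¹) (mul_mem hy (inv_mem hx)) (by
      calc h * (y * x⁻¹) = y * (y⁻¹ * (h * y * h⁻¹)) * h * x⁻¹ := by group
        _ = y * (x⁻¹ * (h * x * h⁻¹)) * h * x⁻¹ := by rw [e]
        _ = _ := by group))).symm
  obtain ⟨u, hu⟩ := (Finite.injective_iff_surjective (f := fun u : U => (⟨(u : G)⁻¹ * (h * u * h⁻¹),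
    mul_mem (inv_mem u.2) (conj_mem_of_norm hn u.2)⟩ : U))).1
    (fun x y e => Subtype.ext (inj x (hU x.2) y (hU y.2) (congrArg Subtype.val e))) ⟨_, e⟩
  exact inj u (hU u.2) k hk (congrArg Subtype.val hu) ▸ u.2

/-- an involution acting without fixed points inverts -/
theorem inverts [Finite G] {K : Subgroup G} {u k : G} (hn : u ∈ N(K)) (hu : u * u = 1)
    (f : ∀ x ∈ K, u * x = x * u → x = 1) (hk : k ∈ K) : u * k * u⁻¹ = k⁻¹ := by
  have inj : ∀ x ∈ K, ∀ y ∈ K, x⁻¹ * (u * x * u⁻¹) = y⁻¹ * (u * y * u⁻¹) → x = y := fun x hx y hy e =>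
    (mul_inv_eq_one.1 (f (y * x⁻¹) (mul_mem hy (inv_mem hx)) (by
      calc u * (y * x⁻¹) = y * (y⁻¹ * (u * y * u⁻¹)) * u * x⁻¹ := by group
        _ = y * (x⁻¹ * (u * x * u⁻¹)) * u * x⁻¹ := by rw [e]
        _ = _ := by group))).symm
  obtain ⟨v, hv⟩ := (Finite.injective_iff_surjective (f := fun v : K => (⟨(v : G)⁻¹ * (u * v * u⁻¹),
    mul_mem (inv_mem v.2) (conj_mem_of_norm hn v.2)⟩ : K))).1
    (fun x y e => Subtype.ext (inj x x.2 y y.2 (congrArg Subtype.val e))) ⟨k, hk⟩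
  obtain rfl : (v : G)⁻¹ * (u * v * u⁻¹) = k := congrArg Subtype.val hv
  calc _ = u * (v : G)⁻¹ * u⁻¹ * ((u * u) * v * (u * u)⁻¹) := by group
    _ = _ := by rw [hu]; group

end H15.FT
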