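import Cfsg.Agent.H15.FT.F9
import Cfsg.Agent.S1220
import Cfsg.Agent.S1225

/-! Four-transitive groups in which the normal Sylow 2-subgroup of a four point stabilizer is
semiregular on the remaining points. -/

set_option autoImplicit false
set_option linter.unusedSectionVars false

namespace H15.FT
open MulAction Subgroup H19 H24 Equiv

variable {G Ω : Type*} [Group G] [Finite G]

theorem bender (H : Subgroup G) (hH : Cfsg.IsStronglyEmbedded H) :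
    (∀ g₁ g₂ : G, g₁ ∉ H → g₂ ∉ H → ∃ h ∈ H, g₂⁻¹ * (h * g₁) ∈ H) ∨
      (¬ H3.Rk2 G ∧ Cfsg.pPrimeCore 2 G ⊔ H = ⊤) := by
  open H18.Be in
  by_cases hr : H3.Rk2 G
  · refine Or.inl fun g₁ g₂ h1 h2 => ?_
    obtain ⟨t, h3, h4⟩ := ex_out hH
    obtain ⟨Q, -, h5, -, -, -, h6, -⟩ := (ben_coset hH hr h3 h4).reg
    rw [stab_pt] at h5
    obtain ⟨q, hq, e⟩ := h6 _ (orb_coset _ _) (mt smul_pt.1 h1)
    obtain ⟨q', hq', e'⟩ := h6 _ (orb_coset _ _) (mt smul_pt.1 h2)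
    refine ⟨q' * q⁻¹, mul_mem (h5 hq') (inv_mem (h5 hq)), smul_pt.1 ?_⟩
    rw [mul_smul, mul_smul, mul_smul, ← e, inv_smul_smul, e', inv_smul_smul]
  · exact Or.inr ⟨hr, rank1_sup hH hr⟩

theorem ord2 {u : G} (h : u * u = 1) (h1 : u ≠ 1) : orderOf u = 2 :=
  haveI := Fact.mk Nat.prime_two; orderOf_eq_prime (by rwa [sq]) h1

variable [MulAction G Ω] [Finite Ω]

theorem card_St3 (mt : IsMultiplyPretransitive G Ω 4) {a b c d : Ω} (D : D4 a b c d) :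
    #(St3 G a b c) = (Nat.card Ω - 3) * #(St4 G a b c d) := by
  rw [← ncard_mul_card (St3 G a b c) d (s := {a, b, c}ᶜ) fun x => ⟨fun hx => ?_, ?_⟩, Set.ncard_compl,
    Set.ncard_eq_three.2 ⟨a, b, c, D.ab, D.ac, D.bc, rfl⟩, St4_eq]
  · simp only [Set.mem_compl_iff, Set.mem_insert_iff, Set.mem_singleton_iff, not_or] at hx
    obtain ⟨g, g1, g2, g3, g4⟩ := mtex mt D (D4_of D hx.1 hx.2.1 hx.2.2)
    exact ⟨g, mem_St3.2 ⟨g1, g2, g3⟩, g4⟩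
  · rintro ⟨g, hg, rfl⟩
    simpa [not_or] using St3_ne hg D

variable (G Ω) in
/-- the normal Sylow 2-subgroup of the four point stabilizer is semiregular -/
structure NO : Prop extends Ok G Ω {2} where
  ff : ∀ g : G, (∀ x : Ω, g • x = x) → g = 1
  sr : ∀ {a b c d : Ω}, D4 a b c d → ∀ g ∈ OS G {2} a b c d, ∀ x, g • x = x → x ≠ a → x ≠ b → x ≠ c →
    x ≠ d → g = 1

variable (G Ω) in
/-- elements of odd order centralizing the Sylow 2-subgroup are semiregular -/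
def NOb : Prop := ∀ a b c d : Ω, D4 a b c d → ∀ g ∈ St4 G a b c d, g ∈ C(OS G {2} a b c d) →
  PiE {2}ᶜ g → ∀ x, g • x = x → x ≠ a → x ≠ b → x ≠ c → x ≠ d → g = 1

variable (G) in
/-- 5-transitivity -/
def T5 (a b c d : Ω) : Prop := ∀ x y, D4 a b c x → D4 a b c y → x ≠ d → y ≠ d →
  ∃ g ∈ St4 G a b c d, g • x = y

theorem fix4 {g : G} {a b c d : Ω} (D : D4 a b c d) (hg : g ∈ St4 G a b c d)
    (h : ∀ x, g • x = x → x ≠ a → x ≠ b → x ≠ c → x ≠ d → False) : (fixedBy Ω g).ncard = 4 := by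
  refine le_antisymm (not_lt.1 fun e => ?_) (E4_fb D hg).le
  obtain ⟨x, hx, k⟩ := (E4_fb D hg).five e
  exact h x hx k.1 k.2.1 k.2.2.1 k.2.2.2

namespace NO
variable (h : NO G Ω) {a b c d : Ω}
include h

theorem two (D : D4 a b c d) {t : G} (ht : t ∈ St4 G a b c d) (t2 : PiE {2} t) {x : Ω} (tx : t • x = x)
    (h1 : x ≠ a) (h2 : x ≠ b) (h3 : x ≠ c) (h4 : x ≠ d) : t = 1 :=
  h.sr D t (h.mem D ht t2) x tx h1 h2 h3 h4

theorem exi (D : D4 a b c d) : ∃ u ∈ OS G {2} a b c d, u * u = 1 ∧ u ≠ 1 :=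
  exists_inv' (Oc_pi _ _) (h.ne D)

theorem even (D : D4 a b c d) : Even (Nat.card Ω) := by
  obtain ⟨u, hu, u2, u1⟩ := h.exi D
  have := mod2 (t := u) (s := (Set.univ : Set Ω)) (fun _ _ => trivial) fun x _ => inv2 u2 x
  rw [Set.ncard_univ, Set.univ_inter, fix4 D (ocm hu) fun x k1 k2 k3 k4 k5 =>
    u1 (h.sr D u hu x k1 k2 k3 k4 k5)] at this
  exact Nat.even_iff.2 this

theorem ex5 (D : D4 a b c d) : ∃ y ∈ St3 G a b c, y • d ≠ d := by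
  obtain ⟨u, hu, u2, u1⟩ := h.exi D
  obtain ⟨x, hx⟩ := not_forall.1 fun e => u1 (h.ff u e)
  obtain ⟨u3, u4, u5, u6⟩ := mem_St4.1 (ocm hu)
  obtain ⟨g, g1, g2, g3, g4⟩ := mtex h.mt D (D4_of D (x := x) (by rintro rfl; exact hx u3)
    (by rintro rfl; exact hx u4) (by rintro rfl; exact hx u5))
  exact ⟨g, mem_St3.2 ⟨g1, g2, g3⟩, by rw [g4]; rintro rfl; exact hx u6⟩

theorem se (D : D4 a b c d) :
    Cfsg.IsStronglyEmbedded ((St4 G a b c d).subgroupOf (St3 G a b c)) := by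
  obtain ⟨y, hy, y1⟩ := h.ex5 D
  obtain ⟨u, hu, u2, u1⟩ := h.exi D
  refine ⟨fun e => y1 (subgroupOf_eq_top.1 e hy).2, ?_, fun g hg => Nat.not_even_iff_odd.1 fun e => ?_⟩
  · rw [card_subgroupOf' (St4_le _ _ _ _)]; exact even_of_inv (ocm hu) u2 u1
  obtain ⟨t, ⟨t3, s, hs, rfl⟩, t2, t1⟩ := exists_inv e.two_dvd
  obtain ⟨k1, k2, k3⟩ := St3_ne g.2 D
  refine t1 (Subtype.ext (h.two D t3 (pi2 (congrArg Subtype.val t2)) (x := (g : G) • d) ?_ k1 k2 k3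
    fun e => hg ⟨g.2, e⟩))
  exact fb_conj.2 (mem_St4.1 hs).2.2.2

theorem dich (D : D4 a b c d) : T5 G a b c d ∨ (¬ H3.Rk2 (St3 G a b c) ∧ Oc {2}ᶜ (St3 G a b c) ≠ ⊥) := by
  refine (bender _ (h.se D)).imp (fun k x y X Y x1 y1 => ?_) fun k => ⟨k.1, fun e => ?_⟩
  · obtain ⟨g, g1, g2, g3, rfl⟩ := mtex h.mt D X
    obtain ⟨g', k1, k2, k3, rfl⟩ := mtex h.mt D Y
    obtain ⟨s, hs, e⟩ := k ⟨g, mem_St3.2 ⟨g1, g2, g3⟩⟩ ⟨g', mem_St3.2 ⟨k1, k2, k3⟩⟩ (fun e => x1 e.2)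
      fun e => y1 e.2
    have e : (g'⁻¹ * (s * g)) • d = d := e.2
    exact ⟨s, hs, by rwa [mul_smul, inv_smul_eq_iff, mul_smul] at e⟩
  · rw [← pPrimeCore_map_eq Nat.prime_two, map_eq_bot_iff_of_injective _ (subtype_injective _)] at e
    exact (h.se D).1 (by simpa [e] using k.2)

theorem hl (D : D4 a b c d) (k : T5 G a b c d) : HL (stabilizer G a) ({a}ᶜ : Set Ω) := by
  have k' : ∀ {a b c d : Ω}, D4 a b c d → T5 G a b c d := fun D' x y X Y x1 y1 => by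
    obtain ⟨g, rfl, rfl, rfl, rfl⟩ := mtex h.mt D D'
    obtain ⟨s, hs, e⟩ := k (g⁻¹ • x) (g⁻¹ • y) (by simpa using D4_smul X g⁻¹)
      (by simpa using D4_smul Y g⁻¹) (fun e => x1 (inv_smul_eq_iff.1 e)) fun e => y1 (inv_smul_eq_iff.1 e)
    exact ⟨g * s * g⁻¹, cj_St4 g a b c d ▸ conj_mem_cj.2 hs, by simp [mul_smul, e]⟩
  have d3 : ∀ {p q r s : Ω}, E4 ({a}ᶜ : Set Ω) p q r s → D4 a p q r ∧ D4 a p q s := fun E =>
    ⟨⟨Ne.symm E.ha, Ne.symm E.hb, Ne.symm E.hc, E.1.ab, E.1.ac, E.1.bc⟩,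
      ⟨Ne.symm E.ha, Ne.symm E.hb, Ne.symm E.hd, E.1.ab, E.1.ad, E.1.bd⟩⟩
  refine ⟨⟨fun g hg x hx e => hx ((smul_left_cancel_iff g).1 (e.trans hg.symm)), fun E E' => ?_⟩,
    fun g hg g2 p q r s E gs x hx => ?_⟩
  · obtain ⟨g, g1, rfl, rfl, rfl⟩ := mtex h.mt (d3 E).1 (d3 E').1
    obtain ⟨s, hs, e⟩ := k' (d3 E').1 _ _ (g1 ▸ D4_smul (d3 E).2 g) (d3 E').2
      (D4_smul E.d4 g).cd.symm E'.1.cd.symm
    obtain ⟨s1, s2, s3, s4⟩ := mem_St4.1 hs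
    exact ⟨s * g, by rw [mem_stabilizer_iff, mul_smul, g1, s1], by simp only [mul_smul, *, and_self]⟩
  · obtain ⟨m, hm⟩ := ppart Nat.prime_two g
    rw [← pow_fix2 (g2 x hx) m, h.two E.d4 (pow_mem gs _) hm (x := a) (pow_mem hg _) (Ne.symm E.ha)
      (Ne.symm E.hb) (Ne.symm E.hc) (Ne.symm E.hd), one_smul]

theorem E4c (D : D4 a b c d) {y : G} (hy : y ∈ St3 G a b c) (y1 : y • d ≠ d) :
    E4 ({a}ᶜ : Set Ω) b c d (y • d) :=
  let ⟨k1, k2, k3⟩ := St3_ne hy D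
  ⟨⟨D.bc, D.bd, k2.symm, D.cd, k3.symm, y1.symm⟩, D.ab.symm, D.ac.symm, D.ad.symm, k1⟩

theorem card5 (D : D4 a b c d) (k : T5 G a b c d) :
    Nat.card Ω = 6 ∨ Nat.card Ω = 8 ∨ Nat.card Ω = 12 := by
  obtain ⟨y, hy, y1⟩ := h.ex5 D
  have k1 := (h.E4c D hy y1).le
  have k2 := (h.hl D k).card k1
  rw [Set.ncard_compl, Set.ncard_singleton] at k1 k2
  obtain ⟨m, hm⟩ := h.even D
  omega

theorem N1 (D : D4 a b c d) {s t : G} (hs : s ∈ St4 G a b c d) (s2 : s * s = 1) (s1 : s ≠ 1)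
    (ht : t ∈ St4 G a b c d) (t2 : t * t = 1) (t1 : t ≠ 1) (st : s ≠ t) :
    Nat.card Ω = 8 ∧ ∃ q ∈ St4 G a b c d, q ≠ 1 ∧ PiE {2}ᶜ q := by
  obtain ⟨y, hy, y1⟩ := h.ex5 D
  obtain ⟨k1, k2, k3⟩ := St3_ne hy D
  have l := St4_le (G := G) a b c d
  have u2 : y * s * y⁻¹ * (y * s * y⁻¹) = 1 := by rw [conj_mul, s2]; simp
  have u1 : y * s * y⁻¹ ≠ 1 := by simpa using s1
  have hu : y * s * y⁻¹ ∈ St3 G a b c := mul_mem (mul_mem hy (l hs)) (inv_mem hy)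
  have ud : (y * s * y⁻¹) • d ≠ d := fun e =>
    u1 (h.two D ⟨hu, e⟩ (pi2 u2) (fb_conj.2 (mem_St4.1 hs).2.2.2) k1 k2 k3 y1)
  generalize y * s * y⁻¹ = u at *
  obtain ⟨⟨q, hq, e⟩, -⟩ := Cfsg.Agent.S1225.result _ (h.se D) ⟨u, hu⟩
    (by rw [← orderOf_coe]; exact ord2 u2 u1) (fun e => ud e.2) ⟨s, l hs⟩ ⟨t, l ht⟩
    (by rw [← orderOf_coe]; exact ord2 s2 s1) hs (by rw [← orderOf_coe]; exact ord2 t2 t1) ht
  have q1 : (q : G) ≠ 1 := fun e' => st (by simpa [e'] using congrArg Subtype.val e)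
  refine ⟨?_, q, hq.1, q1, by
    rw [PiE, orderOf_coe]; exact (pi_of_odd ((h.se D).2.2 ⟨u, hu⟩ fun e => ud e.2)).elt hq⟩
  rcases h.dich D with k | ⟨k, -⟩
  · by_contra h8
    obtain ⟨q2, q3, q4, q5⟩ := mem_St4.1 hq.1
    obtain ⟨r, hr, rfl⟩ := hq.2
    have := (h.hl D k).sharp (by rw [Set.ncard_compl, Set.ncard_singleton]; omega) (h.E4c D hu ud) q2
      (mem_St4.2 ⟨q3, q4, q5, fb_conj.2 (mem_St4.1 hr).2.2.2⟩)
    exact q1 (h.ff _ fun x => (em (x = a)).elim (fun e => e ▸ q2) (this x))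
  have pg := Oc_pi {2} (St4 G a b c d)
  obtain ⟨z, hz, z2, z1⟩ := exists_inv' (pg.infl _) (pg.center_ne_bot (h.ne D))
  have key : ∀ s ∈ St4 G a b c d, s * s = 1 → s ≠ 1 → s = z := fun s hs s2 s1 => by_contra fun e =>
    k ⟨⟨s, l hs⟩, ⟨z, l (ocm hz.1)⟩, fun e => s1 (congrArg Subtype.val e),
      fun e => z1 (congrArg Subtype.val e), fun e' => e (congrArg Subtype.val e'), Subtype.ext s2,
      Subtype.ext z2, Subtype.ext (mem_cent.1 hz.2 s (h.mem D hs (pi2 s2)))⟩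
  exact absurd ((key s hs s2 s1).trans (key t ht t2 t1).symm) st

theorem nine (hb : NOb G Ω) (D : D4 a b c d) (k : Oc {2}ᶜ (St3 G a b c) ≠ ⊥) :
    ∃ A : Subgroup G, A ⊴ St3 G a b c ∧ A ≠ ⊥ ∧ #A ∣ 9 ∧ ∀ e ∈ A, e • d = d → e = 1 := by
  obtain ⟨p, hp, p2, hA⟩ := exists_AO' (odd_of_pi (Oc_pi _ _)) k
  have n := AT_normal (G := G) p a b c
  have n' := AT_norm (G := G) p a b c
  have ab : Ab (AT G p a b c) := (AO_ab p (Oc {2}ᶜ (St3 G a b c))).1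
  replace hA : AT G p a b c ≠ ⊥ := hA
  have od : PiG {2}ᶜ (AT G p a b c) := (Oc_pi _ _).of_le (AO_le _ _)
  generalize AT G p a b c = A at n n' ab od hA
  have sr : ∀ e ∈ A, e • d = d → e = 1 := fun e he ed => by
    obtain ⟨g, hg, gd⟩ : ∃ g ∈ A, g • d ≠ d := by
      by_contra q; push Not at q
      exact hA (triv3 h.ff h.mt D n (mem_Fx.2 q))
    obtain ⟨k1, k2, k3⟩ := St3_ne (n.le hg) D
    have l := (St4_le (G := G) a b c d).trans n.norm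
    refine hb a b c d D e ⟨n.le he, ed⟩ (cents_symm ((Oc_pi {2} _).cents_of_norms
      (od.infl (St4 G a b c d)) (inf_le_right.trans (Oc_norm _ _)) ((Oc_le _ _).trans
        (inf_normal_of_norm l).norm)) ⟨he, n.le he, ed⟩) (od.elt he) (g • d)
      (fb_comm (mul_comm_of_comm ab hg he) ed) k1 k2 k3 gd
  refine ⟨A, n, hA, ?_, sr⟩
  obtain ⟨w, hw, w2, w1⟩ := h.exi D
  obtain ⟨wa, wb, wc, wd⟩ := mem_St4.1 (ocm hw)
  have fw : ∀ x, w • x = x → x ≠ a → x ≠ b → x ≠ c → x = d := fun x k1 k2 k3 k4 =>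
    by_contra fun k5 => w1 (h.sr D w hw x k1 k2 k3 k4 k5)
  have iw : ∀ e ∈ A, w * e * w⁻¹ = e⁻¹ := fun e he =>
    inverts (n.norm (St4_le _ _ _ _ (ocm hw))) w2 (fun e he q => by
      obtain ⟨k1, k2, k3⟩ := St3_ne (n.le he) D
      exact sr e he (fw _ (fb_comm q.symm wd) k1 k2 k3)) he
  obtain ⟨x, hx⟩ := not_forall.1 fun e => w1 (h.ff w e)
  have D' := d4_inv w2 D.cd wc wd hx
  obtain ⟨v, hv, v2, v1, wv⟩ := comm_inv_P (Oc_pi {2} _) (h.ne D') (pi2 w2)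
    (norm_le_norm_Oc _ _ (norm_inv wc wd (inv2 w2 x)))
  obtain ⟨vc, vd, vx, -⟩ := mem_St4.1 (ocm hv)
  have key : ∀ a b, D4 a b c d → w • a = a → (∀ x, w • x = x → x ≠ a → x ≠ b → x ≠ c → x = d) →
      v • a = b := fun a b D wa fw => by_contra fun e => by
    have D2 := D4_smul D v
    rw [vc, vd] at D2
    refine D2.ad (fw _ (fb_comm wv.symm wa) (fun e => v1 (h.sr D' v hv a e D.ac D.ad ?_ ?_)) e D2.ac)
    · rintro rfl; exact hx wa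
    · rintro rfl; exact hx ((inv2 w2 x).symm.trans wa).symm
  have va := key a b D wa fw
  have vb := key b a D.s12 wb fun x k1 k2 k3 => fw x k1 k3 k2
  have c3 : ∀ v : G, v * v = 1 → v • a = b → v • c = c → v • d = d → #(A ⊓ C[v]) ∣ 3 := by
    intro v v2 va vc vd
    have k1 := card_le_of_reg (A := A ⊓ C[v]) (s := fixedBy Ω v \ {c}) (fun e he => sr e he.1)
      fun e he => ⟨fb_comm (mem_cent1.1 he.2) vd, (St3_ne (n.le he.1) D).2.2⟩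
    rw [Set.ncard_diff_singleton_of_mem (s := fixedBy Ω v) vc] at k1
    have k2 : (fixedBy Ω v).ncard ≤ 4 := not_lt.1 fun e => by
      obtain ⟨_, _, _, _, E⟩ := ex4 e.le
      obtain ⟨y, hy, k⟩ := E.five e
      exact D.ab (by rw [← va, h.two E.d4 E.st (pi2 v2) hy k.1 k.2.1 k.2.2.1 k.2.2.2, one_smul])
    obtain ⟨m, hm⟩ := odd_of_pi (od.infl C[v])
    rcases (by omega : m = 0 ∨ m = 1) with rfl | rfl <;> rw [hm] <;> norm_num
  have vn : v ∈ N(A) := n' (norm_St3 (by rw [va, vb, vc, St3_12]))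
  have k1 : A ≤ (A ⊓ C[v]) ⊔ (A ⊓ C[w * v]) := sq_le (odd_of_pi od) fun e he => by
    have m := conj_mem_of_norm vn he
    have q := mul_comm_of_comm ab he m
    have v3 : v * (v * e * v⁻¹) * v⁻¹ = e := by
      calc _ = (v * v) * e * (v * v)⁻¹ := by group
        _ = e := by rw [v2]; group
    have e1 : e * e = e * (v * e * v⁻¹) * (e * (v * e * v⁻¹)⁻¹) := by
      rw [mul_assoc, ← mul_assoc _ e, ← q]; group
    rw [e1]
    refine mul_mem_sup (mem_inf.2 ⟨mul_mem he m, mem_cent1.2 (mul_inv_eq_iff_eq_mul.1 ?_).symm⟩)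
      (mem_inf.2 ⟨mul_mem he (inv_mem m), mem_cent1.2 (mul_inv_eq_iff_eq_mul.1 ?_).symm⟩)
    · rw [← conj_mul, v3, q]
    · calc _ = w * ((v * e * v⁻¹) * (v * (v * e * v⁻¹) * v⁻¹)⁻¹) * w⁻¹ := by group
        _ = _ := by rw [v3, iw _ (mul_mem m (inv_mem he))]; group
  exact (card_dvd k1).trans ((card_sup_dvd (norms_of_comm ab inf_le_left inf_le_left)).trans
    (mul_dvd_mul (c3 v v2 va vc vd) (c3 (w * v) (by
      rw [mul_assoc, ← mul_assoc v, ← wv, mul_assoc, v2, mul_one, w2]) (by rw [mul_smul, va, wb])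
      (by rw [mul_smul, vc, wc]) (by rw [mul_smul, vd, wd]))))

theorem N2 (hb : NOb G Ω) (D : D4 a b c d) : 3 ∣ #(St3 G a b c) := by
  rcases h.dich D with k | ⟨-, k⟩
  · rcases h.card5 D k with e | e | e
    · rw [card_St3 h.mt D, e]; exact Dvd.intro _ rfl
    · obtain ⟨y, hy, y1⟩ := h.ex5 D
      refine ((h.hl D k).seven (by rw [Set.ncard_compl, Set.ncard_singleton, e]) (h.E4c D hy y1)).trans
        (card_dvd fun g hg => ?_)
      exact mem_St3.2 ⟨hg.1, (mem_St4.1 hg.2).1, (mem_St4.1 hg.2).2.1⟩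
    · rw [card_St3 h.mt D, e]; exact Dvd.dvd.mul_right (by norm_num) _
  · obtain ⟨A, n, h1, h2, -⟩ := h.nine hb D k
    exact (((PiN.prime_pow Nat.prime_three 2).dvd h2).dvd_of_ne_bot h1).trans (card_dvd n.le)

theorem N3 (hb : NOb G Ω) (D : D4 a b c d) {q : G} (hq : q ∈ St4 G a b c d)
    (hc : q ∈ C(OS G {2} a b c d)) (qo : PiE {2}ᶜ q) : q = 1 := by
  by_contra q1
  obtain ⟨r, hr, hd⟩ := exists_prime_dvd_orderOf q1
  obtain ⟨s, hs, e⟩ := exists_orderOf_eq_prime (H := zpowers q) hr (by rwa [Nat.card_zpowers])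
  have s4 := zpowers_le.2 hq hs
  have sp : PiE {r} s := by rw [PiE, e]; exact (piN_prime hr).2 rfl
  have fs : ∀ x, s • x = x → x ≠ a → x ≠ b → x ≠ c → x ≠ d → False := fun x k1 k2 k3 k4 k5 =>
    hr.ne_one (by rw [← e, hb a b c d D s s4 (zpowers_le.2 hc hs) (qo.e_of_mem_zpowers hs) x k1 k2 k3 k4 k5,
      orderOf_one])
  have fin : ¬ r ∣ 2 ^ 3 := fun e => qo r hr hd
    ((Nat.prime_dvd_prime_iff_eq hr Nat.prime_two).1 (hr.dvd_of_dvd_pow e))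
  rcases h.dich D with k | ⟨-, k⟩
  · have := modE hr sp (s := (Set.univ : Set Ω)) fun _ _ => trivial
    rw [Set.ncard_univ, Set.univ_inter, fix4 D s4 fs] at this
    rcases h.card5 D k with e | e | e <;> rw [e] at this <;>
      exact fin (((Nat.modEq_iff_dvd' (by omega)).1 this.symm).trans (by norm_num))
  obtain ⟨A, n, h1, h2, h3⟩ := h.nine hb D k
  have sd := (mem_St4.1 s4).2.2.2
  have k1 := reg_fix (Γ := {y | ∃ e ∈ A, e • d = y}) (fun _ => Iff.rfl) h3 (one_mem _) (one_smul _ _)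
  rw [fixedBy_one_eq_univ, Set.inter_univ, inf_eq_left.2 fun g _ => mem_cent1.2 (by simp)] at k1
  have k2 := modE hr sp (s := {y | ∃ e ∈ A, e • d = y}) (by
    rintro _ ⟨e, he, rfl⟩
    exact ⟨_, conj_mem_of_norm (n.norm (St4_le _ _ _ _ s4)) he, by
      rw [mul_smul, inv_smul_eq_iff.2 sd.symm, mul_smul]⟩)
  rw [k1, show {y | ∃ e ∈ A, e • d = y} ∩ fixedBy Ω s = {d} from Set.eq_singleton_iff_unique_mem.2
    ⟨⟨⟨1, one_mem _, one_smul _ _⟩, sd⟩, by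
      rintro _ ⟨⟨e, he, rfl⟩, k⟩
      obtain ⟨k1, k2, k3⟩ := St3_ne (n.le he) D
      exact by_contra (fs _ k k1 k2 k3)⟩, Set.ncard_singleton] at k2
  have k3 := (Nat.modEq_iff_dvd' (card_pos A)).1 k2.symm
  have k4 := ne_bot_iff_one_lt_card.1 h1
  obtain ⟨i, hi, e⟩ := (Nat.dvd_prime_pow Nat.prime_three (m := 2)).1 h2
  rw [e] at k3 k4
  interval_cases i
  exacts [by omega, fin (k3.trans (by norm_num)), fin k3]

end NO

end H15.FT
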