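import Cfsg.Agent.H15.FT.F10

/-! Case B with blocks of size four: level one subgroups; reduction to a kernel which is a 2-group. -/

set_option autoImplicit false
set_option linter.unusedSectionVars false

namespace H15.FT
open MulAction Subgroup H19 H24 Equiv

variable {G Ω : Type*} [Group G] [Finite G] [MulAction G Ω] [Finite Ω]

variable (G Ω) in
/-- case B, the Sylow 2-subgroup fixes exactly four points -/
structure HB : Prop extends Hy G Ω where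
  ok : Ok G Ω {2}
  four : ∀ {a b c d : Ω}, D4 a b c d → ∀ x ∈ Fx Ω (OS G {2} a b c d), x ≠ a → x ≠ b → x ≠ c → x = d

variable (G Ω) in
/-- the kernel is a 2-group fixing exactly four points -/
structure HT : Prop extends HB G Ω where
  kp : ∀ {a b c d : Ω}, D4 a b c d → KS G a b c d = OS G {2} a b c d

variable (Ω) in
/-- level one subgroups -/
structure Lv (U : Subgroup G) : Prop where
  lt : 4 < (Fx Ω U).ncard
  le : ∀ {a b c d : Ω}, E4 (Fx Ω U) a b c d → U ≤ KS G a b c d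
  max : ∀ {a b c d : Ω}, E4 (Fx Ω U) a b c d → ∀ g ∈ KS G a b c d, ∀ x ∈ Fx Ω U, g • x = x → x ≠ a →
    x ≠ b → x ≠ c → x ≠ d → g ∈ U

section
variable {a b c d : Ω} {U L : Subgroup G}

theorem four_of (o : Ok G Ω {2}) (D : D4 a b c d) (h4 : ¬ 4 < (Fx Ω (OS G {2} a b c d)).ncard)
    {a' b' c' d' : Ω} (D' : D4 a' b' c' d') : ∀ x ∈ Fx Ω (OS G {2} a' b' c' d'), x ≠ a' → x ≠ b' →
      x ≠ c' → x = d' := fun x hx h1 h2 h3 => by_contra fun e =>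
  h4 (ncardO o.mt D D' ▸ (E4_OS D').lt hx h1 h2 h3 e)

theorem HT.of (h : Hy G Ω) (D : D4 a b c d) (pg : PG 2 (KS G a b c d))
    (h4 : ¬ 4 < (Fx Ω (KS G a b c d)).ncard) : HT G Ω := by
  have o := h.ok1 D Nat.prime_two (pg.dvd_of_ne_bot (h.fr D).ne)
  have k : ∀ {a b c d : Ω}, D4 a b c d → KS G a b c d = OS G {2} a b c d := fun D' =>
    le_antisymm (o.le D' (Fit_le _) (show PiN {2} _ from cardK h.mt D D' ▸ pg)) (o.leK D')
  exact ⟨⟨h, o, four_of o D (k D ▸ h4)⟩, k⟩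

theorem Hy.exLv (h : Hy G Ω) (D : D4 a b c d) (h4 : 4 < Nat.card Ω) : ∃ U : Subgroup G, Lv Ω U := by
  have o := h.okK D
  obtain ⟨U, -, hU, m⟩ := (Set.toFinite {U : Subgroup G | PiG (primes #(KS G a b c d)) U ∧
    4 < (Fx Ω U).ncard}).exists_le_maximal (a := ⊥) ⟨PiN.bot, by
      rwa [Set.eq_univ_of_forall (s := Fx Ω (⊥ : Subgroup G)) fun x => Fx_le.2 bot_le, Set.ncard_univ]⟩
  have l : ∀ {a b c d : Ω}, E4 (Fx Ω U) a b c d → U ≤ KS G a b c d := fun E =>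
    h.eqK D E.d4 ▸ o.le E.d4 E.St hU.1
  refine ⟨U, hU.2, l, fun {a' b' c' d'} E g hg x hx gx k1 k2 k3 k4 => ?_⟩
  have l2 : U ⊔ zpowers g ≤ KS G a' b' c' d' := sup_le (l E) (zpowers_le.2 hg)
  refine zpowers_le.1 (le_sup_right.trans (m ⟨PiN.of_le ?_ l2, (E4_St E.d4 (l2.trans (Fit_le _))).lt
    (by rw [Fx_sup, Fx_zp]; exact ⟨hx, gx⟩) k1 k2 k3 k4⟩ le_sup_left))
  rw [← h.eqK D E.d4]; exact Oc_pi _ _

theorem Lv.triv (v : Lv Ω U) (E : E4 (Fx Ω U) a b c d) {g : G} (hg : g ∈ KS G a b c d)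
    (h : ∀ x ∈ Fx Ω U, g • x = x) : g ∈ U :=
  let ⟨x, hx, k1, k2, k3, k4⟩ := E.five v.lt; v.max E g hg x hx (h x hx) k1 k2 k3 k4

theorem Lv.norm (v : Lv Ω U) (E : E4 (Fx Ω U) a b c d) {S : Subgroup G} (n : S ⊴ KS G a b c d)
    (h : ¬ 4 < (Fx Ω S).ncard) : ∃ s ∈ S, s ∈ N(U) ∧ s ∉ U := by
  obtain ⟨g, hg, g1⟩ := SetLike.exists_of_lt (nil_lt_norm (nil_mono (Fit_nil _) (sup_le (v.le E) n.le))
    (left_lt_sup.2 fun e => h (v.lt.trans_le (Set.ncard_le_ncard (Fx_anti e)))))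
  obtain ⟨u, hu, s, hs, rfl⟩ := (mem_sup_of_norm' ((v.le E).trans n.norm)).1 hg.1
  exact ⟨s, hs, (mul_mem_cancel_left (le_normalizer hu)).1 hg.2, fun e => g1 (mul_mem hu e)⟩

theorem Ok.normalK {π : Set ℕ} (o : Ok G Ω π) (D : D4 a b c d) : OS G π a b c d ⊴ KS G a b c d :=
  (Oc_normal _ _).of_le (o.leK D) (Fit_le _)

theorem HB.not4 (h : HB G Ω) (D : D4 a b c d) : ¬ 4 < (Fx Ω (OS G {2} a b c d)).ncard := fun e =>
  let ⟨x, hx, k1, k2, k3, k4⟩ := (E4_OS D).five e; k4 (h.four D x hx k1 k2 k3)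

theorem HB.lv_t4 (h : HB G Ω) (v : Lv Ω U) (hL : L ≤ N(U))
    (k : ∀ a b c d, E4 (Fx Ω U) a b c d → ∃ s ∈ OS G {2} a b c d, s ∈ L ∧ s ∉ U) : T4 L (Fx Ω U) :=
  gleason4 Nat.prime_two (fun _ hg _ => Fx_norm (hL hg)) v.lt fun a b c d E =>
    ⟨L ⊓ OS G {2} a b c d, inf_le_left, inf_le_right.trans (Oc_le _ _), (Oc_pi _ _).infr _,
      fun x hx h1 => by_contra fun e => by
        push Not at e
        obtain ⟨s, hs, s1, s2⟩ := k a b c d E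
        exact s2 (v.max E s (h.ok.leK E.d4 hs) x hx (mem_Fx.1 h1 s ⟨s1, hs⟩) e.1 e.2.1 e.2.2.1 e.2.2.2)⟩

theorem HB.lv (h : HB G Ω) (v : Lv Ω U) (hL : L ≤ N(U))
    (k : ∀ a b c d, E4 (Fx Ω U) a b c d → ∃ s ∈ OS G {2} a b c d, s ∈ L ∧ s ∉ U)
    {X : Subgroup (Perm (Fx Ω U))} {φ : L →* X} (I : Img L (Fx Ω U) X φ) :
    NO X (Fx Ω U) ∧ NOb X (Fx Ω U) ∧ ∀ a b c d : Fx Ω U, D4 a b c d → ∀ y, y ∈ OS X {2} a b c d ↔
      ∃ g : L, (g : G) ∈ OS G {2} (a : Ω) b c d ∧ φ g = y := by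
  have k1 : ∀ a b c d : Fx Ω U, D4 a b c d → Hall {2} (OS X {2} a b c d) (St4 X a b c d) ∧
      ∀ y, y ∈ OS X {2} a b c d ↔ ∃ g : L, (g : G) ∈ OS G {2} (a : Ω) b c d ∧ φ g = y := by
    intro a b c d D
    have n : St4 G (a : Ω) b c d ⊓ L ≤ N(OS G {2} (a : Ω) b c d) := inf_le_left.trans (Oc_norm _ _)
    have k1 := ((h.ok.hall (D4_coe.2 D)).inf_of_norm' inf_le_left n).im inf_le_right φ
    have k2 := ((inf_normal_of_norm n).im φ).norm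
    rw [im_inf_dom, I.im_St4, ← inf_assoc, im_inf_dom, inf_eq_left.2 (Oc_le _ _)] at k1 k2
    exact ⟨k1.Oc_hall k2, fun y => by rw [OS, ← k1.eq_Oc k2]; rfl⟩
  have ne : ∀ {x y : Fx Ω U}, x ≠ y → (x : Ω) ≠ y := Subtype.coe_ne_coe.2
  have one : ∀ g : L, (g : G) ∈ U → φ g = 1 := fun g hg => I.eq_one.2 fun x hx => mem_Fx.1 hx g hg
  refine ⟨⟨⟨I.mt (h.lv_t4 v hL k).mt, fun D => (k1 _ _ _ _ D).1, fun D => Oc_le_Fit _ _, fun D e => ?_⟩,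
    fun g e => Subtype.ext (Equiv.ext e), fun D y hy x yx k2 k3 k4 k5 => ?_⟩,
    fun a b c d D y hy hc _ x yx k2 k3 k4 k5 => ?_, fun a b c d D => (k1 a b c d D).2⟩
  · obtain ⟨s, hs, s1, s2⟩ := k _ _ _ _ (E4_coe D)
    exact s2 (v.triv (E4_coe D) (h.ok.leK (D4_coe.2 D) hs) ((I.eq_one (g := ⟨s, s1⟩)).1
      (mem_bot.1 (e ▸ ((k1 _ _ _ _ D).2 _).2 ⟨_, hs, rfl⟩))))
  · obtain ⟨g, hg, rfl⟩ := ((k1 _ _ _ _ D).2 _).1 hy
    exact one g (v.max (E4_coe D) g (h.ok.leK (D4_coe.2 D) hg) x x.2 (I.smul_eq.1 yx) (ne k2) (ne k3)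
      (ne k4) (ne k5))
  · obtain ⟨g, rfl⟩ := I.surj y
    have hg := I.mem_St4.1 hy
    refine one g (v.max (E4_coe D) g (by_contra fun e => ?_) x x.2 (I.smul_eq.1 yx) (ne k2) (ne k3)
      (ne k4) (ne k5))
    obtain ⟨s, hs, s1, s2⟩ := k _ _ _ _ (E4_coe D)
    have sK := h.ok.leK (D4_coe.2 D) hs
    refine s2 ((h.fr (D4_coe.2 D)).quo hg e (v.le (E4_coe D)) (hL g.2) sK (v.triv (E4_coe D)
      (mul_mem (inv_mem sK) ((Fit_normal _).conj_mem hg sK))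
      ((I.eq_one (g := (⟨s, s1⟩ : L)⁻¹ * (g * ⟨s, s1⟩ * g⁻¹))).1 ?_)))
    have := mem_cent.1 hc _ (((k1 _ _ _ _ D).2 _).2 ⟨⟨s, s1⟩, hs, rfl⟩)
    simp only [map_mul, map_inv]
    rw [← this]; group

theorem HB.lvN (h : HB G Ω) (v : Lv Ω U) (a b c d : Ω) (E : E4 (Fx Ω U) a b c d) :
    ∃ s ∈ OS G {2} a b c d, s ∈ N(U) ∧ s ∉ U := v.norm E (h.ok.normalK E.d4) (h.not4 E.d4)

theorem eight3 (ff : ∀ g : G, (∀ x : Ω, g • x = x) → g = 1) (mt : IsMultiplyPretransitive G Ω 4)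
    (D : D4 a b c d) (h8 : Nat.card Ω = 8) : 3 ∣ #(St4 G a b c d) := by
  classical
  have := Fintype.ofFinite Ω
  haveI : FaithfulSMul G Ω :=
    ⟨fun {g k} e => inv_mul_eq_one.1 (ff _ fun x => by rw [mul_smul, ← e, inv_smul_smul])⟩
  haveI : Nontrivial Ω := ⟨_, _, D.ab⟩
  have k := card_dvd (alt_kp mt (Or.inl rfl) h8)
  have k2 := two_mul_nat_card_alternatingGroup (α := Ω)
  rw [H17.card_range, card_G mt D, h8] at k
  rw [Nat.card_perm, h8] at k2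
  rw [show #(alternatingGroup Ω) = 20160 by simp only [Nat.factorial] at k2; omega] at k
  simp only [Nat.descFactorial] at k
  omega

theorem HB.ht (h : HB G Ω) (D : D4 a b c d)
    (t0 : ∀ (Γ : Set Ω) (X : Subgroup (Perm Γ)), 4 ≤ Γ.ncard → HT X Γ → Γ.ncard = 8) : HT G Ω := by
  have dp := nil_dprod (Fit_nil (St4 G a b c d)) {2}
  rw [Oc_Fit] at dp
  have fK : ¬ 4 < (Fx Ω (KS G a b c d)).ncard := fun e =>
    h.not4 D (e.trans_le (Set.ncard_le_ncard (Fx_anti (h.ok.leK D))))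
  refine HT.of h.toHy D (by_contra fun e => ?_) fK
  obtain ⟨p, hp, p1, p2⟩ : ∃ p, p.Prime ∧ p ∣ #(KS G a b c d) ∧ p ≠ 2 := by
    by_contra q; push Not at q; exact e q
  have o := h.toHy.ok D (π := primes #(KS G a b c d) ∩ {2}ᶜ) Set.inter_subset_left ⟨⟨hp, p1⟩, p2⟩
  have lQ := o.le D ((Oc_le {2}ᶜ (KS G a b c d)).trans (Fit_le _))
    ((piN_primes.of_le (Oc_le _ _)).inter (Oc_pi _ _))
  have cQ : ∀ {a' b' c' d' : Ω}, D4 a' b' c' d' → OS G {2} a' b' c' d' ≤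
      C(OS G (primes #(KS G a b c d) ∩ {2}ᶜ) a' b' c' d') := fun D' => nil_cents_pi (Fit_nil _)
    (h.ok.leK D') (o.leK D') (Oc_pi _ _) ((Oc_pi _ _).mono Set.inter_subset_right)
  have oQ : ∀ a' b' c' d' : Ω, PiG {2}ᶜ (OS G (primes #(KS G a b c d) ∩ {2}ᶜ) a' b' c' d') :=
    fun _ _ _ _ => (Oc_pi _ _).mono Set.inter_subset_right
  generalize primes #(KS G a b c d) ∩ {2}ᶜ = π at *
  by_cases h4 : 4 < (Fx Ω (OS G π a b c d)).ncard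
  · have E := E4_OS (G := G) (π := π) D
    obtain ⟨X, φ, I⟩ := exists_img (o.t4 D).inv
    have hL : St4 G a b c d ≤ N(OS G π a b c d) := Oc_norm _ _
    obtain ⟨k1, k2⟩ := h.img I (o.t4 D) E.lift hL fun e => fK (h4.trans_le (Set.ncard_le_ncard e))
    have pg : PG 2 (KS X (⟨a, E.ha⟩ : Fx Ω (OS G π a b c d)) ⟨b, E.hb⟩ ⟨c, E.hc⟩ ⟨d, E.hd⟩) := by
      rw [k2]
      refine ((Oc_pi {2} (St4 G a b c d)).im φ).of_le ?_
      rintro _ ⟨g, hg, rfl⟩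
      obtain ⟨s, hs, q, hq, e⟩ := dp.sd.mem hg
      refine ⟨⟨s, hL (ocm hs)⟩, hs, Subtype.ext (Equiv.ext fun x => Subtype.ext ?_)⟩
      refine (I.act _ x).trans (Eq.trans ?_ (I.act g x).symm)
      have e : (g : G) = s * q := e
      show s • (x : Ω) = (g : G) • (x : Ω)
      rw [e, mul_smul, mem_Fx.1 x.2 q (lQ hq)]
    have k3 := t0 _ X E.le (HT.of k1 E.lift pg fun e => by
      obtain ⟨x, hx, k⟩ := (E4_St E.lift (Fit_le _)).five e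
      have hx := (I.mem_Fx_im ((Fit_le _).trans hL)).1 (Fx_anti k2.ge hx)
      exact Subtype.coe_ne_coe.2 k.2.2.2 (h.four D x (Fx_anti (h.ok.leK D) hx)
        (Subtype.coe_ne_coe.2 k.1) (Subtype.coe_ne_coe.2 k.2.1) (Subtype.coe_ne_coe.2 k.2.2.1)))
    have k4 := JW (o.t4 D) (by omega) (by rw [k3]; decide) (cent_normal_norm _) (by
      obtain ⟨x, hx, k⟩ := E.five h4
      by_contra q; push Not at q
      exact k.2.2.2 (h.four D x (mem_Fx.2 fun g hg => q g (cQ D hg) x hx) k.1 k.2.1 k.2.2.1))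
    obtain ⟨y, hy, e⟩ := exists_orderOf_eq_prime Nat.prime_three (eight3 (G := im φ C(OS G π a b c d))
      (fun g e => Subtype.ext (k1.ff _ e)) (I.mt_iff.2 (by
        rw [inf_eq_left.2 (cent_le_norm _)]; exact k4.mt)) E.lift k3)
    obtain ⟨_, g, hg, rfl⟩ := y
    obtain ⟨y1, y2, y3, y4⟩ := mem_St4.1 hy
    have k5 := pg.elt (k2 ▸ mem_im_of (x := g) (o.cent h.toHy D (mem_St4.2 ⟨I.smul_eq.1 y1,
      I.smul_eq.1 y2, I.smul_eq.1 y3, I.smul_eq.1 y4⟩) hg))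
    exact absurd (k5.eq_of_dvd Nat.prime_three (by rw [← e, ← orderOf_coe])) (by norm_num)
  obtain ⟨U, v⟩ := h.exLv D ((E4_OS D).le.trans_lt (h.Fx_lt (o.ne D)))
  obtain ⟨X, φ, I⟩ := exists_img (h.lv_t4 v le_rfl (h.lvN v)).inv
  obtain ⟨k1, k2, k3⟩ := h.lv v le_rfl (h.lvN v) I
  obtain ⟨a', b', c', d', E⟩ := ex4 v.lt.le
  obtain ⟨q, hq, q1, q2⟩ := v.norm E (o.normalK E.d4) (by rwa [ncardO h.mt D E.d4])
  refine q2 (v.triv E (o.leK E.d4 hq) ((I.eq_one (g := ⟨q, q1⟩)).1 (k1.N3 k2 E.lift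
    (I.mem_St4.2 (ocm hq)) (mem_cent.2 fun y hy => ?_) ?_)))
  · obtain ⟨g, hg, rfl⟩ := (k3 _ _ _ _ E.lift y).1 hy
    rw [← map_mul, ← map_mul]
    exact congrArg φ (Subtype.ext (mem_cent.1 (cQ E.d4 hg) q hq).symm)
  · exact ((oQ _ _ _ _).elt hq).dvd ((orderOf_map_dvd φ _).trans (orderOf_coe _).symm.dvd)

end

end H15.FT
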