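import Cfsg.Agent.H15.FT.F11
import Cfsg.Agent.S0071

/-! Weight vectors for elementary abelian 2-groups; normal complements. -/

set_option autoImplicit false
set_option linter.unusedSectionVars false

namespace H15.FT
open MulAction Subgroup H19 H24 Equiv

section
variable {G : Type*} [Group G] [Finite G]

theorem fpf_surj {K : Subgroup G} {h k : G} (hn : h ∈ N(K)) (f : ∀ x ∈ K, h * x = x * h → x = 1)
    (hk : k ∈ K) : ∃ v ∈ K, v⁻¹ * (h * v * h⁻¹) = k := by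
  obtain ⟨v, hv⟩ := (Finite.injective_iff_surjective (f := fun v : K => (⟨(v : G)⁻¹ * (h * v * h⁻¹),
    mul_mem (inv_mem v.2) (conj_mem_of_norm hn v.2)⟩ : K))).1 (fun x y e => Subtype.ext
      (mul_inv_eq_one.1 (f ((y : G) * (x : G)⁻¹) (mul_mem y.2 (inv_mem x.2)) (by
      have e : (x : G)⁻¹ * (h * x * h⁻¹) = (y : G)⁻¹ * (h * y * h⁻¹) := congrArg Subtype.val e
      calc h * (y * (x : G)⁻¹) = y * ((y : G)⁻¹ * (h * y * h⁻¹)) * h * (x : G)⁻¹ := by group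
        _ = _ := by rw [← e]; group))).symm) ⟨k, hk⟩
  exact ⟨v, v.2, congrArg Subtype.val hv⟩

theorem three_le {H K : Subgroup G} (h : H < K) (o : Odd #K) : 3 * #H ≤ #K := by
  have e := card_mul_relIndex h.le
  have h1 : H.relIndex K ≠ 1 := fun q => h.not_ge (relIndex_eq_one.1 q)
  obtain ⟨m, hm⟩ := o.of_dvd_nat (Dvd.intro_left _ e)
  rw [← e, mul_comm]
  exact Nat.mul_le_mul_left _ (by omega)

theorem mem_of_cop {K : Subgroup G} {g s : G} {π : Set ℕ} (hg : g ∈ N(K)) (hs : s ∈ N(K))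
    (e : g⁻¹ * s ∈ K) (h1 : PiE π g) (h2 : PiE πᶜ s) : g ∈ K :=
  (qmk_eq_one (x := ⟨g, hg⟩)).1 (PiN.e_eq_one (π := π)
    (h1.dvd ((orderOf_map_dvd _ _).trans (orderOf_coe _).symm.dvd))
    ((qmk_eq (x := ⟨g, hg⟩) (y := ⟨s, hs⟩)).2 e ▸
      h2.dvd ((orderOf_map_dvd _ _).trans (orderOf_coe _).symm.dvd)))

theorem frobNC {p : ℕ} (hp : p.Prime) {P X : Subgroup G} (h : Syl p P X)
    (k : ∀ Q ≤ P, ∀ g ∈ X, g ∈ N(Q) → PiE {p}ᶜ g → g ∈ C(Q)) : Hall {p}ᶜ (Oc {p}ᶜ X) X := by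
  haveI := Fact.mk hp
  obtain ⟨S, rfl⟩ := h.exists_sylow
  obtain ⟨N, hN, e⟩ := (Cfsg.Agent.S0071.result S).2 fun Q hQ g hg c => by
    have := k (Q.map X.subtype) (map_mono hQ) g g.2 (le_normalizer_map _ ⟨g, hg, rfl⟩)
      (by rw [PiE, orderOf_coe]; exact PiN.of_coprime c)
    exact mem_cent.2 fun x hx => Subtype.ext (mem_cent.1 this x ⟨x, hx, rfl⟩)
  exact ((sdprod_of_isComplement' e).hall_left (by rwa [compl_compl])).Oc_hall
    (normalIn_map_subtype N).norm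

end

section
variable {V : Type*} [CommGroup V] [Finite V] {W : Subgroup (MulAut V)} [Fintype W] {v : V}
  {χ ψ : W →* ℤ}

/-- weight vectors -/
def Wt (v : V) (χ : W →* ℤ) : Prop := ∀ w : W, (w : MulAut V) v = v ^ χ w

/-- projection onto a weight space -/
def prj (χ : W →* ℤ) : V →* V where
  toFun v := ∏ w : W, ((w : MulAut V) v) ^ χ w
  map_one' := by simp
  map_mul' := by simp [mul_zpow, Finset.prod_mul_distrib]

/-- conjugate weight -/
def cw (χ : W →* ℤ) (g : N(W)) : W →* ℤ := χ.comp (W.normalizerMonoidHom g⁻¹).toMonoidHom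

theorem cw_mul (g k : N(W)) : cw χ (g * k) = cw (cw χ k) g := by
  ext w; simp [cw]

theorem cw_one : cw χ 1 = χ := by ext w; simp [cw]

theorem Wt.cw (h : Wt v χ) (g : N(W)) : Wt ((g : MulAut V) v) (cw χ g) := fun w => by
  rw [← map_zpow, FT.cw, MonoidHom.comp_apply, ← h, ← MulAut.mul_apply, ← MulAut.mul_apply]
  congr 1
  show (w : MulAut V) * g = g * ((g : MulAut V)⁻¹ * w * (g : MulAut V)⁻¹⁻¹)
  group

theorem prod_zpow' {ι : Type*} (s : Finset ι) (f : ι → ℤ) : ∏ i ∈ s, v ^ f i = v ^ ∑ i ∈ s, f i := by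
  classical
  induction s using Finset.induction with
  | empty => simp
  | insert a s h ih => rw [Finset.prod_insert h, Finset.sum_insert h, ih, zpow_add]

theorem Wt.prj (h : Wt v ψ) : prj χ v = v ^ ∑ w, (ψ * χ) w := by
  rw [← prod_zpow']
  exact Finset.prod_congr rfl fun w _ => by rw [h, ← zpow_mul]; rfl

variable (ab : Abelem 2 W)
include ab

theorem chi_sq (w : W) : χ w * χ w = 1 := by
  rw [← map_mul, show w * w = 1 from Subtype.ext (by simpa [sq] using ab.2 w w.2), map_one]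

theorem Wt.prj_eq (h : Wt v χ) : FT.prj χ v = v ^ #W := by
  rw [h.prj]; simp [chi_sq ab]

theorem Wt.prj_ne (h : Wt v ψ) (ne : ψ ≠ χ) : FT.prj χ v = 1 := by
  rw [h.prj, sum_hom_units_eq_zero _ fun e => ne ?_, zpow_zero]
  ext w
  have : ψ w * χ w = 1 := DFunLike.congr_fun e w
  rw [← mul_one (ψ w), ← chi_sq (χ := χ) ab w, ← mul_assoc, this, one_mul]

theorem exists_wt (ho : Odd (Nat.card V)) (h1 : W ≠ ⊥) : ∃ (e : V) (χ : W →* ℤ), e ≠ 1 ∧ χ ≠ 1 ∧ Wt e χ := by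
  classical
  have sq : ∀ w ∈ W, ∀ v, w (w v) = v := fun w hw v => by
    rw [← MulAut.mul_apply, ← sq, ab.2 w hw]; rfl
  have cm : ∀ w ∈ W, ∀ u ∈ W, ∀ v, w (u v) = u (w v) := fun w hw u hu v => by
    rw [← MulAut.mul_apply, mul_comm_of_comm ab.1 hw hu]; rfl
  obtain ⟨u, hu, u1⟩ := exists_ne_one h1
  obtain ⟨x, hx⟩ : ∃ x, u x ≠ x := not_forall.1 fun e => u1 (MulEquiv.ext e)
  obtain ⟨e, ⟨e1, ue⟩, m⟩ := Set.exists_max_image {e : V | e ≠ 1 ∧ u e = e⁻¹}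
    (fun e => {w : W | (w : MulAut V) e = e ∨ (w : MulAut V) e = e⁻¹}.ncard) (Set.toFinite _)
    ⟨x * (u x)⁻¹, fun e => hx (mul_inv_eq_one.1 e).symm, by simp [sq u hu]⟩
  have k : ∀ w : W, (w : MulAut V) e = e ∨ (w : MulAut V) e = e⁻¹ := fun w => by_contra fun q =>
    (m (e * (w : MulAut V) e) ⟨fun z => q (Or.inr (eq_inv_of_mul_eq_one_right z)), by
      rw [map_mul, cm u hu w w.2, ue, map_inv, mul_inv]⟩).not_gt (Set.ncard_lt_ncard ⟨fun s hs => by
        simp only [Set.mem_setOf_eq, map_mul, cm s s.2 w w.2] at hs ⊢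
        rcases hs with hs | hs <;> simp [hs, mul_comm], fun z => q (z (Or.inl (by
          rw [map_mul, sq w w.2, mul_comm])))⟩)
  have ne : e⁻¹ ≠ e := fun q => e1 (one_of_odd (K := ⊤) (by rwa [card_top]) (mem_top e)
    (pi2 (mul_eq_one_iff_eq_inv.2 q.symm)))
  refine ⟨e, ⟨⟨fun w => if (w : MulAut V) e = e then 1 else -1, by simp⟩, fun w s => ?_⟩, e1,
    fun q => ?_, fun w => ?_⟩
  · rcases k w with h | h <;> rcases k s with h' | h' <;> simp [h, h', ne]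
  · simpa [ue, ne] using DFunLike.congr_fun q ⟨u, hu⟩
  · rcases k w with h | h <;> simp [h, ne]

omit ab in
theorem cw_ne {g : N(W)} (h1 : χ ≠ 1) (f : ∀ w ∈ W, (g : MulAut V) * w = w * g → w = 1) : cw χ g ≠ χ :=
  fun e => h1 (MonoidHom.ext fun k => by
    obtain ⟨s, hs, q⟩ := fpf_surj g.2 f k.2
    have := DFunLike.congr_fun e (W.normalizerMonoidHom g ⟨s, hs⟩)
    rw [show k = (⟨s, hs⟩ : W)⁻¹ * W.normalizerMonoidHom g ⟨s, hs⟩ from Subtype.ext q.symm, map_mul, ← this]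
    simp [cw, ← map_mul])

omit ab in
theorem cw_ne_one {g : N(W)} (h1 : χ ≠ 1) : cw χ g ≠ 1 := fun e => h1 (by
  rw [← cw_one (χ := χ), ← inv_mul_cancel g, cw_mul, e]; rfl)

theorem WT (ho : Odd (Nat.card V)) (h1 : W ≠ ⊥) {c : N(W)} {r : ℕ} (h3 : 3 ≤ r) (cr : c ^ r = 1)
    (f : ∀ i, 0 < i → i < r → ∀ w ∈ W, (c : MulAut V) ^ i * w = w * c ^ i → w = 1) :
    ∃ a : V, a ≠ 1 ∧ (c : MulAut V) a = a ∧ ∀ y : N(W), y * c = c * y → (y : MulAut V) a = a →
      ∃ (j : ℕ) (B : Subgroup V), 27 ≤ #B ∧ ∀ v ∈ B, (y : MulAut V) v = ((c : MulAut V) ^ j) v := by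
  obtain ⟨e, χ, e1, χ1, he⟩ := exists_wt ab ho h1
  have ne : ∀ {ψ : W →* ℤ}, ψ ≠ 1 → ∀ i < r, ∀ j < r, i ≠ j → cw ψ (c ^ i) ≠ cw ψ (c ^ j) := by
    intro ψ h i hi j hj ij
    wlog l : j < i generalizing i j
    · exact (this j hj i hi ij.symm (by omega)).symm
    rw [show c ^ i = c ^ (i - j) * c ^ j by rw [← pow_add]; congr 1; omega, cw_mul]
    exact cw_ne (cw_ne_one h) (f _ (by omega) (by omega))
  have inj : ∀ x y : V, x ^ #W = y ^ #W → x = y := fun x y =>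
    (((abelem_pg Nat.prime_two ab).coprime (pi_of_odd ho)).symm.pow_left_bijective).1.eq_iff.1
  have key : ∀ {v : V} {ψ : W →* ℤ}, Wt v ψ → ψ ≠ 1 → ∀ j < r, prj (cw ψ (c ^ j))
      (∏ i ∈ Finset.range r, ((c : MulAut V) ^ i) v) = ((c : MulAut V) ^ j) v ^ #W := fun hv h j hj => by
    rw [map_prod]
    exact (Finset.prod_eq_single_of_mem j (Finset.mem_range.2 hj) fun i hi ij =>
      (hv.cw (c ^ i)).prj_ne ab (ne h i (Finset.mem_range.1 hi) j hj ij)).trans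
      ((hv.cw (c ^ j)).prj_eq ab)
  have nz : ∀ g : MulAut V, g e ^ #W ≠ 1 := fun g q => e1 (g.map_eq_one_iff.1 (inj _ _ (by simpa using q)))
  refine ⟨∏ i ∈ Finset.range r, ((c : MulAut V) ^ i) e, fun q => nz _ (by
    rw [← key he χ1 0 (by omega), q, map_one]), ?_, fun y yc ya => ?_⟩
  · have := Finset.prod_range_succ' (fun i => ((c : MulAut V) ^ i) e) r
    rw [Finset.prod_range_succ, show (c : MulAut V) ^ r = 1 from congrArg Subtype.val cr, pow_zero,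
      mul_left_inj] at this
    refine Eq.trans ?_ this.symm
    simp only [map_prod, pow_succ', MulAut.mul_apply]
  have cm : ∀ i (v : V), (y : MulAut V) (((c : MulAut V) ^ i) v) = ((c : MulAut V) ^ i) ((y : MulAut V) v) :=
    fun i v => by
      rw [← MulAut.mul_apply, (Commute.pow_right (congrArg Subtype.val yc) i).eq]; rfl
  have k1 := key (he.cw y) (cw_ne_one χ1) 0 (by omega)
  rw [← Finset.prod_congr rfl fun i _ => cm i e, ← map_prod, ya, pow_zero, cw_one] at k1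
  obtain ⟨j, hj, k2⟩ : ∃ j < r, cw χ (c ^ j) = cw χ y := by
    by_contra q
    push Not at q
    refine nz y (k1.symm.trans ?_)
    rw [map_prod]
    exact Finset.prod_eq_one fun i hi => (he.cw (c ^ i)).prj_ne ab (q i (Finset.mem_range.1 hi))
  rw [← k2, key he χ1 j hj] at k1
  have k3 : (y : MulAut V) e = ((c : MulAut V) ^ j) e := (inj _ _ k1).symm
  refine ⟨j, (y : MulAut V).toMonoidHom.eqLocus ((c : MulAut V) ^ j).toMonoidHom, ?_, fun v hv => hv⟩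
  generalize hB : (y : MulAut V).toMonoidHom.eqLocus ((c : MulAut V) ^ j).toMonoidHom = B
  have m : ∀ i, ((c : MulAut V) ^ i) e ∈ B := fun i => hB ▸ (cm i e).trans (by
    rw [k3, ← MulAut.mul_apply, pow_mul_comm]; rfl)
  have od : ∀ S : Subgroup V, Odd #S := fun S => ho.of_dvd_nat S.card_subgroup_dvd_card
  have z : ∀ i < r, ∀ j < r, i ≠ j → ((c : MulAut V) ^ i) e ∈ (prj (cw χ (c ^ j))).ker :=
    fun i hi j hj ij => (he.cw (c ^ i)).prj_ne ab (ne χ1 i hi j hj ij)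
  have z' : ∀ i, ((c : MulAut V) ^ i) e ∉ (prj (cw χ (c ^ i))).ker := fun i q =>
    nz _ (((he.cw (c ^ i)).prj_eq ab).symm.trans q)
  have s2 := three_le (H := B ⊓ (prj (cw χ (c ^ 2))).ker) (K := B) (inf_lt_left.2 fun q => z' 2 (q (m 2))) (od _)
  have s1 := three_le (H := B ⊓ (prj (cw χ (c ^ 2))).ker ⊓ (prj (cw χ (c ^ 1))).ker)
    (inf_lt_left.2 fun q => z' 1 (q ⟨m 1, z 1 (by omega) 2 (by omega) (by omega)⟩)) (od _)
  have s0 := three_le (H := ⊥) (K := B ⊓ (prj (cw χ (c ^ 2))).ker ⊓ (prj (cw χ (c ^ 1))).ker)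
    (bot_lt_iff_ne_bot.2 (ne_bot_of_mem ⟨⟨m 0, z 0 (by omega) 2 (by omega) (by omega)⟩,
      z 0 (by omega) 1 (by omega) (by omega)⟩ e1)) (od _)
  rw [card_bot] at s0
  omega

end

end H15.FT
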