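import Cfsg.Agent.H15.FT.F12
import Cfsg.Agent.S0120
import Cfsg.Agent.H25.FB7

/-! The kernel is a 2-group: elements of least odd prime order. -/

set_option autoImplicit false
set_option linter.unusedSectionVars false

namespace H15.FT
open MulAction Subgroup H19 H24 Equiv

variable {G Ω : Type*} [Group G] [Finite G] [MulAction G Ω] [Finite Ω] {a b c d : Ω} {g q s x y : G}
  {p r : ℕ}

variable (G Ω) in
/-- `r` is the least odd prime dividing the order of a four point stabilizer -/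
structure HR (r : ℕ) : Prop extends HT G Ω where
  hr : r.Prime
  r2 : r ≠ 2
  dv : ∀ {a b c d : Ω}, D4 a b c d → r ∣ #(St4 G a b c d)
  mn : ∀ {a b c d : Ω}, D4 a b c d → ∀ p, p.Prime → p ∣ #(St4 G a b c d) → p = 2 ∨ r ≤ p

variable (G) in
/-- the stabilizer of `{a, b, c}` and `d` -/
abbrev JS (a b c d : Ω) : Subgroup G := N(St3 G a b c) ⊓ stabilizer G d

theorem St4_JS : St4 G a b c d ≤ JS G a b c d := fun _ hg => ⟨le_normalizer hg.1, hg.2⟩

theorem JS_St4 : JS G a b c d ≤ N(St4 G a b c d) := norms_inf inf_le_left (norms_of_le inf_le_right)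

theorem JS_OS {π : Set ℕ} : JS G a b c d ≤ N(OS G π a b c d) := norms_Oc _ JS_St4

theorem relIndex_St4 (mt : IsMultiplyPretransitive G Ω 4) (D : D4 a b c d) :
    (St4 G a b c d).relIndex (St3 G a b c) = Nat.card Ω - 3 :=
  Nat.eq_of_mul_eq_mul_left (card_pos _) (by
    rw [card_mul_relIndex (St4_le _ _ _ _), card_St3 mt D, mul_comm])

/-- a 3-element acting as a given 3-cycle -/
theorem part3 (h1 : y • a = c) (h2 : y • b = a) (h3 : y • c = b) (h4 : y • d = d) :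
    ∃ z ∈ zpowers y, PiE {3} z ∧ z • a = c ∧ z • b = a ∧ z • c = b ∧ z • d = d := by
  obtain ⟨m, hm⟩ := ppart Nat.prime_three y
  refine ⟨_, pow_mem (mem_zpowers y) _, hm, ?_⟩
  rw [pow_fix3, pow_fix3, pow_fix3, pow_fix3] <;> simp only [*, and_self]

theorem nmh_eq_one {A : Subgroup G} {g : N(A)} : A.normalizerMonoidHom g = 1 ↔ (g : G) ∈ C(A) := by
  rw [← MonoidHom.mem_ker, normalizerMonoidHom_ker]; rfl

theorem ord_of_pi (hp : PiE {p} y) (h1 : y ≠ 1) : ∃ z ∈ zpowers y, orderOf z = p :=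
  have k := hp.dvd_of_ne_one (mt orderOf_eq_one_iff.1 h1)
  exists_orderOf_eq_prime k.1 (by rw [Nat.card_zpowers]; exact k.2)

theorem HB.fx4 (h : HB G Ω) (D : D4 a b c d) : (Fx Ω (OS G {2} a b c d)).ncard = 4 :=
  le_antisymm (not_lt.1 (h.not4 D)) (E4_OS D).le

theorem HB.gt4 (h : HB G Ω) (D : D4 a b c d) : 4 < Nat.card Ω := h.fx4 D ▸ h.Fx_lt (h.ok.ne D)

theorem HB.syl (h : HB G Ω) (D : D4 a b c d) : Syl 2 (OS G {2} a b c d) (St3 G a b c) := by
  refine (h.ok.hall D).of_idx (St4_le _ _ _ _) (PiN.of_not_dvd ?_)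
  have := modP Nat.prime_two (Oc_pi {2} (St4 G a b c d)) (s := (Set.univ : Set Ω)) fun _ _ _ _ => trivial
  rw [Set.ncard_univ, Set.univ_inter, h.fx4 D, Nat.ModEq] at this
  have := h.gt4 D
  rw [relIndex_St4 h.mt D]; omega

theorem HB.fixd (h : HB G Ω) (D : D4 a b c d) (hg : g ∈ St3 G a b c) (hn : g ∈ N(OS G {2} a b c d)) :
    g • d = d :=
  let ⟨k1, k2, k3⟩ := St3_ne hg D; h.four D _ (Fx_norm hn (E4_OS D).hd) k1 k2 k3

namespace HT
variable (h : HT G Ω)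
include h

theorem cent (D : D4 a b c d) (hg : g ∈ St4 G a b c d) (hx : x ∈ OS G {2} a b c d) (x1 : x ≠ 1)
    (e : g * x = x * g) : g ∈ OS G {2} a b c d := h.kp D ▸ (h.fr D).cent hg (h.ok.leK D hx) x1 e

theorem fpf (D : D4 a b c d) (hq : q ∈ St4 G a b c d) (qo : PiE {2}ᶜ q) (q1 : q ≠ 1) :
    ∀ x ∈ OS G {2} a b c d, q * x = x * q → x = 1 := fun _ hx e => by_contra fun x1 =>
  q1 (((Oc_pi _ _).elt (h.cent D hq hx x1 e)).e_eq_one qo)

theorem exr (D : D4 a b c d) : ∃ r, HR G Ω r := by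
  have e := (h.ok.hall D).card_mul
  have k : (OS G {2} a b c d).relIndex (St4 G a b c d) ≠ 1 := fun q => (h.fr D).nt
    (le_antisymm (Fit_le _) ((relIndex_eq_one.1 q).trans (h.ok.leK D)))
  have hp := Nat.minFac_prime k
  refine ⟨_, h, hp, (h.ok.hall D).idx _ hp (Nat.minFac_dvd _), fun D' => ?_, fun D' p pp hd => ?_⟩
  · rw [cardH h.mt D D', ← e]; exact (Nat.minFac_dvd _).mul_left _
  · rw [cardH h.mt D D', ← e] at hd
    exact ((Nat.Prime.dvd_mul pp).1 hd).imp (Oc_pi _ _ p pp) (Nat.minFac_le_of_dvd pp.two_le)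

theorem cyc (D : D4 a b c d) {R : Subgroup G} (hR : R ≤ St4 G a b c d) (pg : PG p R) (p2 : p ≠ 2) :
    Cyc R := pg.cyc_of_prk (odd_of_pi (pg.sing_ne p2)) (prk_le fun A hA => by
  obtain ⟨X, hX, k⟩ := hA.exists_cent_ne_bot ((hA.le.trans hR).trans (Oc_norm {2} _))
    ((Oc_pi _ _).sing_ne p2.symm) (h.ok.ne D)
  obtain ⟨x, x1, -, rfl⟩ := hX.exists_gen
  obtain ⟨k, hk, k1⟩ := exists_ne_one k
  have m := hA.le (hX.le (mem_zpowers x))
  exact k1 (h.fpf D (hR m) ((pg.sing_ne p2).elt m) x1 k hk.1 (mem_cent.1 hk.2 x (mem_zpowers x))))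

end HT

namespace HR
variable (h : HR G Ω r)
include h

theorem qr (ho : orderOf q = r) : PiE {r} q := by rw [PiE, ho]; exact (piN_prime h.hr).2 rfl

theorem qo (ho : orderOf q = r) : PiE {2}ᶜ q := (h.qr ho).sing_ne h.r2

theorem q1 (ho : orderOf q = r) : q ≠ 1 := fun e => h.hr.ne_one (by rw [← ho, e, orderOf_one])

theorem exq (D : D4 a b c d) : ∃ q ∈ St4 G a b c d, orderOf q = r := exists_orderOf_eq_prime h.hr (h.dv D)

theorem conj (D : D4 a b c d) (hq : q ∈ St4 G a b c d) (ho : orderOf q = r) (hs : s ∈ St4 G a b c d)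
    (so : orderOf s = r) : ∃ g ∈ St4 G a b c d, cj g (zpowers q) = zpowers s := by
  obtain ⟨R, hR, l⟩ := (piG_zpowers.2 (h.qr so)).exists_syl (zpowers_le.2 hs)
  obtain ⟨g, hg, k⟩ := hR.scj_le (zpowers_le.2 hq) (piG_zpowers.2 (h.qr ho))
  exact ⟨g, hg, ((el1_zpowers h.hr (mem_zpowers q) ho).Jle g k).eq_of_cyc
    (el1_zpowers h.hr (l (mem_zpowers s)) so) (h.cyc D hR.le hR.pi h.r2)⟩

theorem two (ho : orderOf q = r) (E : E4 (fixedBy Ω q) a b c d) (hs : s ∈ St4 G a b c d)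
    (s2 : PiE {2} s) (hn : s ∈ N(zpowers q)) : s = 1 :=
  have m := h.ok.mem E.d4 hs s2
  h.fpf E.d4 E.st (h.qo ho) (h.q1 ho) s m (mem_cent.1 (((Oc_pi {2} _).infl N(zpowers q)).cents_of_norms
    (piG_zpowers.2 (h.qo ho)) (norms_inf ((zpowers_le.2 E.st).trans (Oc_norm _ _))
      (norms_of_le le_normalizer)) inf_le_right ⟨m, hn⟩) q (mem_zpowers q))

theorem hl (ho : orderOf q = r) : HL N(zpowers q) (fixedBy Ω q) := by
  refine ⟨⟨fun g hg x hx => ?_, fun E E' => ?_⟩, fun g hg g2 a b c d E k x hx => ?_⟩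
  · rw [← Fx_zp] at hx ⊢; exact Fx_norm hg hx
  · obtain ⟨g, rfl, rfl, rfl, rfl⟩ := mtex h.mt E.d4 E'.d4
    obtain ⟨k, hk, e⟩ := h.conj E'.d4 (by rw [← cj_St4]; exact conj_mem_cj.2 E.st)
      ((H19.orderOf_conj' g q).trans ho) E'.st ho
    obtain ⟨k1, k2, k3, k4⟩ := mem_St4.1 hk
    exact ⟨k * g, mem_norm_iff_cj.2 (by rw [cj_mul, cj_zpowers g, e]), by simp only [mul_smul, *, and_self]⟩
  · obtain ⟨m, hm⟩ := ppart Nat.prime_two g
    rw [← pow_fix2 (g2 x hx) m, h.two ho E (pow_mem k _) hm (pow_mem hg _), one_smul]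

theorem le11 (ho : orderOf q = r) : (fixedBy Ω q).ncard ≤ 11 := by
  by_contra e
  have := (h.hl ho).card (by omega)
  omega

theorem mc (ho : orderOf q = r) (E : E4 (fixedBy Ω q) a b c d) (hn : g ∈ N(zpowers q))
    (hg : g ∈ St4 G a b c d) : g ∈ C[q] := by
  rw [← cent_zpowers]
  refine (nmh_eq_one (g := ⟨g, hn⟩)).1
    (orderOf_eq_one_iff.1 (Nat.eq_one_iff_not_exists_prime_dvd.2 fun p hp hd => ?_))
  have k1 := hd.trans (orderOf_dvd_natCard _)
  have k2 := hd.trans ((orderOf_map_dvd _ _).trans (orderOf_coe _).symm.dvd)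
  rw [IsCyclic.card_mulAut, Nat.card_zpowers, ho, Nat.totient_prime h.hr] at k1
  have := h.hr.two_le
  have := Nat.le_of_dvd (by omega) k1
  obtain rfl := (h.mn E.d4 p hp (k2.trans (orderOf_dvd_card' hg))).resolve_right (by omega)
  obtain ⟨u, hu, u2, u1⟩ := exists_inv (H := zpowers g) (by rwa [Nat.card_zpowers])
  exact u1 (h.two ho E (zpowers_le.2 hg hu) (pi2 u2) (zpowers_le.2 hn hu))

theorem cyc3 (ho : orderOf q = r) (E : E4 (fixedBy Ω q) a b c d) : ∃ y ∈ C[q], y • a = c ∧ y • b = a ∧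
    y • c = b ∧ y • d = d ∧ ∀ x, N(zpowers q) ⊓ JS G a b c d ≤ N(zpowers x) → y ∈ C[x] := by
  obtain ⟨m, hm, m1, m2, m3, m4⟩ := (h.hl ho).t4.ex E E.s12
  obtain ⟨n, hn, n1, n2, n3, n4⟩ := (h.hl ho).t4.ex E E.s23
  refine ⟨(n * m)⁻¹ * (m * n), mem_cent1.2 (H17.comm_of_normalizer_zpowers hm hn), ?_, ?_, ?_, ?_,
    fun x hx => mem_cent1.2 (H17.comm_of_normalizer_zpowers
      (hx ⟨hm, norm_St3 (by rw [m1, m2, m3, St3_12]), m4⟩)
      (hx ⟨hn, norm_St3 (by rw [n1, n2, n3, St3_23]), n4⟩))⟩ <;>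
    simp only [mul_smul, inv_smul_eq_iff, *]

theorem big (ho : orderOf q = r) (h6 : 6 ≤ (fixedBy Ω q).ncard) : N(zpowers q) ≤ C[q] := fun l hl => by
  obtain ⟨a, b, c, d, E⟩ := ex4 (Γ := fixedBy Ω q) (by omega)
  obtain ⟨y, hy, y1, -⟩ := h.cyc3 ho E
  obtain ⟨e, he, k⟩ := (h.hl ho).norm h6 (cent_normal_norm _) ⟨y, cent_zpowers q ▸ hy, a, E.ha,
    y1 ▸ E.d4.ac.symm⟩ hl
  refine (mul_mem_cancel_left (inv_mem (cent_zpowers q ▸ he))).1 (h.mc ho E
    (mul_mem (inv_mem (cent_le_norm _ he)) hl) (mem_St4.2 ?_))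
  simp only [mul_smul, inv_smul_eq_iff, k _ E.ha, k _ E.hb, k _ E.hc, k _ E.hd, and_self]

theorem three (D : D4 a b c d) (hy : y ∈ St4 G a b c d) (y3 : PiE {3} y) (y1 : y ≠ 1) : r = 3 := by
  have := (h.mn D 3 Nat.prime_three ((y3.dvd_of_ne_one (mt orderOf_eq_one_iff.1 y1)).2.trans
    (orderOf_dvd_card' hy))).resolve_left (by norm_num)
  have := h.hr.two_le
  have := h.r2
  omega

theorem AA (D : D4 a b c d) {A : Subgroup G} (ab : Ab A) (od : Odd #A) (l : A ≤ St3 G a b c)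
    (hJ : JS G a b c d ≤ N(A)) (sr : ∀ e ∈ A, e • d = d → e = 1) : A = ⊥ := by
  by_contra hA
  letI : CommGroup A := { A.toGroup with mul_comm := ab.is_comm.comm }
  obtain ⟨q, hq, ho⟩ := h.exq D
  have E := E4_fb D hq
  have lH := St4_JS.trans hJ
  have lP := (Oc_le {2} _).trans lH
  set φ := A.normalizerMonoidHom with hφ
  have ker : ∀ g : N(A), φ g = 1 ↔ (g : G) ∈ C(A) := fun g => nmh_eq_one
  have app : ∀ (g : N(A)) (v : A), (φ g v : G) = g * v * (g : G)⁻¹ := fun g v => rfl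
  have pg := (Oc_pi {2} (St4 G a b c d)).im φ
  have nW : ∀ g : N(A), (g : G) ∈ JS G a b c d → φ g ∈ N(Ohm1 2 Z(im φ (OS G {2} a b c d))) :=
    fun g hg => norm_le_norm_Ohm1_center _ _ (im_norm_le (mem_im_of (JS_OS hg)))
  haveI := Fintype.ofFinite (Ohm1 2 Z(im φ (OS G {2} a b c d)))
  obtain ⟨v, v1, qv, k⟩ := WT (abelem_Ohm1_center 2 _) od (pg.Ohm1_center_ne_bot fun e => hA
      (eq_bot_iff.2 fun x hx => sr x hx (h.fixd D (l hx) (cent_le_norm _ (mem_cent.2 fun s hs =>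
        (mem_cent.1 ((ker ⟨s, lP hs⟩).1 (mem_bot.1 (e ▸ mem_im_of hs))) x hx).symm)))))
    (c := ⟨φ ⟨q, lH hq⟩, nW _ (St4_JS hq)⟩) (r := r) (by have := h.hr.two_le; have := h.r2; omega)
    (Subtype.ext (by
      rw [coe_pow, ← map_pow, show (⟨q, lH hq⟩ : N(A)) ^ r = 1 from
        Subtype.ext (ho ▸ pow_orderOf_eq_one q), map_one]; rfl)) fun i i0 ir w hw e => by
      obtain ⟨s, hs, rfl⟩ := (Ohm1_le _ _ hw).1
      refine (ker s).2 (fpf_quo (U := OS G {2} a b c d ⊓ C(A)) inf_le_left (norms_inf (Oc_norm _ _)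
        (norms_cent lH) (pow_mem hq i)) (h.fpf D (pow_mem hq i) ((h.qo ho).e_pow i)
          (pow_ne_one_of_lt_orderOf i0.ne' (ho ▸ ir))) hs (mem_inf.2 ⟨mul_mem (inv_mem hs)
            ((Oc_normal _ _).conj_mem (pow_mem hq i) hs), (ker (s⁻¹ * ((⟨q, lH hq⟩ : N(A)) ^ i * s *
              ((⟨q, lH hq⟩ : N(A)) ^ i)⁻¹))).1 ?_⟩)).2
      simp only [map_mul, map_inv, map_pow]
      rw [e]; group
  have vq : (v : G) ∈ A ⊓ C[q] := ⟨v.2, mem_cent1.2 (mul_inv_eq_iff_eq_mul.1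
    ((app _ v).symm.trans (congrArg Subtype.val qv))).symm⟩
  have v1 : (v : G) ≠ 1 := fun e => v1 (Subtype.ext e)
  have k1 := card_le_of_reg (A := A ⊓ C[q]) (s := fixedBy Ω q \ {a, b, c}) (fun e he => sr e he.1)
    fun e he => ⟨fb_comm (mem_cent1.1 he.2) E.hd, by simpa [not_or] using St3_ne (l he.1) D⟩
  rw [Set.ncard_diff (by rintro _ (rfl | rfl | rfl); exacts [E.ha, E.hb, E.hc]),
    Set.ncard_eq_three.2 ⟨a, b, c, D.ab, D.ac, D.bc, rfl⟩] at k1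
  have k2 := h.le11 ho
  have k3 := ne_bot_iff_one_lt_card.1 (ne_bot_of_mem vq v1)
  obtain ⟨m, hm⟩ := odd_mono od (inf_le_left (b := C[q]))
  have k4 := eq_zpowers_of_prime (by
    rcases (by omega : m = 1 ∨ m = 2 ∨ m = 3) with rfl | rfl | rfl <;> rw [hm] <;> norm_num) vq v1
  obtain ⟨y, hy, y1, y2, y3, y4, k5⟩ := h.cyc3 ho E
  have yJ : y ∈ JS G a b c d := ⟨norm_St3 (by rw [y1, y2, y3, ← St3_r]), y4⟩
  obtain ⟨j, B, hB, k6⟩ := k ⟨φ ⟨y, hJ yJ⟩, nW _ yJ⟩ (Subtype.ext (by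
    simp only [coe_mul, ← map_mul]; exact congrArg φ (Subtype.ext (mem_cent1.1 hy))))
    (Subtype.ext ((app _ v).trans (mul_inv_eq_iff_eq_mul.2 (mem_cent1.1 (k5 v (by
      rw [k4, ← cent_zpowers]
      exact norms_inf (inf_le_right.trans hJ) (norms_cent inf_le_left)))))))
  obtain ⟨q1, q2, q3, q4⟩ := mem_St4.1 (inv_mem (pow_mem hq j))
  obtain ⟨z, hz, z3, z1, -, -, z4⟩ := part3 (y := (q ^ j)⁻¹ * y) (a := a) (b := b) (c := c) (d := d)
    (by rw [mul_smul, y1, q3]) (by rw [mul_smul, y2, q1]) (by rw [mul_smul, y3, q2])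
    (by rw [mul_smul, y4, q4])
  obtain ⟨t, ht, t3⟩ := ord_of_pi z3 (by rintro rfl; exact D.ac (by simpa using z1))
  have k7 := card_le_of_reg (A := B.map A.subtype) (s := fixedBy Ω t) (x := d)
    (by rintro _ ⟨e, -, rfl⟩; exact sr e e.2) (by
      rintro _ ⟨e, he, rfl⟩
      refine fb_comm (mem_cent1.1 (zpowers_le.2 (zpowers_le.2 (mem_cent1.2 ?_) hz) ht)).symm
        (zpowers_le.2 (show z ∈ stabilizer G d from z4) ht)
      have := congrArg Subtype.val (k6 e he)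
      rw [← map_pow, app, app] at this
      have e1 : y * e * y⁻¹ = q ^ j * e * (q ^ j)⁻¹ := this
      calc _ = (q ^ j)⁻¹ * (y * e * y⁻¹) * y := by simp [mul_assoc]
        _ = _ := by rw [e1]; simp [mul_assoc])
  rw [card_map_of_injective A.subtype_injective] at k7
  obtain ⟨_, _, _, _, E'⟩ := ex4 (Γ := fixedBy Ω t) (by omega)
  obtain rfl := h.three E'.d4 E'.st (z3.e_of_mem_zpowers ht) (by rintro rfl; simp at t3)
  have := h.le11 t3
  omega

theorem AA' (D : D4 a b c d) {X : Subgroup G} (hP : OS G {2} a b c d ≤ X) (l : X ≤ St3 G a b c)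
    (hH : ∀ g ∈ X, g • d = d → g ∈ OS G {2} a b c d) (hJ : JS G a b c d ≤ N(X))
    (nc : Hall {2}ᶜ (Oc {2}ᶜ X) X) : X ≤ OS G {2} a b c d := by
  by_cases e : Oc {2}ᶜ X = ⊥
  · have := ((h.syl D).of_le hP l).sup_compl nc
    rw [e, sup_bot_eq] at this
    exact this.ge
  obtain ⟨p, -, -, k⟩ := exists_AO' (odd_of_pi nc.pi) e
  have l1 := AO_le p (Oc {2}ᶜ X)
  exact absurd (h.AA D (AO_ab _ _).1 (odd_of_pi (nc.pi.of_le l1)) ((l1.trans nc.le).trans l)
    ((norms_Oc _ hJ).trans (AO_norm _ _)) fun e he ed =>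
      ((Oc_pi _ _).elt (hH e (nc.le (l1 he)) ed)).e_eq_one (nc.pi.elt (l1 he))) k

theorem r3 (D : D4 a b c d) : r = 3 := by
  by_contra r3
  have r5 : 5 ≤ r := h.hr.five_le_of_ne_two_of_ne_three h.r2 r3
  have n4 := h.gt4 D
  obtain ⟨q, hq, ho⟩ := h.exq D
  have E := E4_fb D hq
  have d3 : 3 ∣ Nat.card Ω - 3 := by
    obtain ⟨U, v⟩ := h.exLv D n4
    obtain ⟨X, φ, I⟩ := exists_img (h.lv_t4 v le_rfl (h.lvN v)).inv
    obtain ⟨k1, k2, -⟩ := h.lv v le_rfl (h.lvN v) I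
    obtain ⟨a', b', c', d', E⟩ := ex4 v.lt.le
    have := ((k1.N2 k2 E.lift).trans (card_dvd (K := im φ (St3 G a' b' c')) fun y hy => by
      obtain ⟨g, rfl⟩ := I.surj y
      exact mem_im_of (I.mem_St3.1 hy))).trans (card_im_dvd _ _)
    rw [card_St3 h.mt E.d4] at this
    refine ((Nat.Prime.dvd_mul Nat.prime_three).1 this).resolve_right fun e => ?_
    have := h.mn E.d4 3 Nat.prime_three e
    omega
  have h6 : 6 ≤ (fixedBy Ω q).ncard := by
    obtain ⟨y, hy, y1, y2, y3, y4, -⟩ := h.cyc3 ho E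
    obtain ⟨z, hz, z3, z1, z2, z4, z5⟩ := part3 y1 y2 y3 y4
    have k1 := modE Nat.prime_three z3 (s := (Set.univ : Set Ω)) fun _ _ => trivial
    have k2 : ¬ 4 ≤ (fixedBy Ω z).ncard := fun e =>
      let ⟨_, _, _, _, E'⟩ := ex4 e
      r3 (h.three E'.d4 E'.st z3 (by rintro rfl; exact D.ac (by simpa using z1)))
    have k3 := (Set.ncard_pos (s := fixedBy Ω z)).2 ⟨d, z5⟩
    rw [Set.ncard_univ, Set.univ_inter, Nat.ModEq] at k1
    have k4 := modE h.hr (h.qr ho) (s := fixedBy Ω z)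
      fun x hx => fb_comm (mem_cent1.1 (zpowers_le.2 hy hz)).symm hx
    have k5 := Set.ncard_le_ncard (Set.inter_subset_left (s := fixedBy Ω z) (t := fixedBy Ω q))
    have k6 := k4.eq_of_lt_of_lt (by omega) (by omega)
    have k7 := Set.ncard_le_ncard (s := {a, b, c} ∪ fixedBy Ω z ∩ fixedBy Ω q) (Set.union_subset
      (by rintro _ (rfl | rfl | rfl); exacts [E.ha, E.hb, E.hc]) Set.inter_subset_right)
    rw [Set.ncard_union_eq (Set.disjoint_left.2 (by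
      rintro _ (rfl | rfl | rfl) e
      exacts [D.ac (e.1.symm.trans z1), D.ab (z2.symm.trans e.1), D.bc (z4.symm.trans e.1)])),
      Set.ncard_eq_three.2 ⟨a, b, c, D.ab, D.ac, D.bc, rfl⟩] at k7
    omega
  have nd : ¬ r ∣ Nat.card Ω - 3 := fun e => by
    have k1 := modE h.hr (h.qr ho) (s := (Set.univ : Set Ω)) fun _ _ => trivial
    rw [Set.ncard_univ, Set.univ_inter] at k1
    have k2 : r ∣ (fixedBy Ω q).ncard - 3 := (Nat.modEq_iff_dvd' (by omega)).1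
      (((Nat.modEq_iff_dvd' (by omega)).2 e).trans k1)
    have k3 : r ∣ 2 ^ 3 * 3 := k2.trans (by
      rcases (h.hl ho).card E.le with e | e | e | e | e <;> rw [e] at h6 ⊢ <;> omega)
    rcases (Nat.Prime.dvd_mul h.hr).1 k3 with e | e
    · have := Nat.le_of_dvd two_pos (h.hr.dvd_of_dvd_pow e); omega
    · have := Nat.le_of_dvd three_pos e; omega
  obtain ⟨R, hR, l⟩ := (piG_zpowers.2 (h.qr ho)).exists_syl (zpowers_le.2 hq)
  have cy := h.cyc D hR.le hR.pi h.r2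
  have nc := frobNC h.hr (hR.of_idx (St4_le _ _ _ _) (PiN.of_not_dvd (by rwa [relIndex_St4 h.mt D])))
    fun Q hQ g _ hn g' => by
      by_cases e : Q = ⊥
      · simp [e]
      haveI := Fact.mk h.hr
      have e1 := el1_zpowers h.hr (l (mem_zpowers q)) ho
      have lQ := e1.le_of_cyc cy hQ ((hR.pi.of_le hQ).dvd_of_ne_bot e)
      have cQ := cyc_mono cy hQ
      have k := cent_zpowers q ▸ h.big ho h6 (cyc_norm cQ lQ hn)
      refine (nmh_eq_one (g := ⟨g, hn⟩)).1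
        (Cfsg.Agent.S0120.result h.r2 (hR.pi.of_le hQ).isPGroup _ ((g'.dvd ((orderOf_map_dvd _ _).trans
          (orderOf_coe _).symm.dvd)).coprime_prime h.hr) fun x hx => Subtype.ext
            (mul_inv_eq_iff_eq_mul.2 (mem_cent.1 k x ?_).symm))
      rw [← (e1.of_le lQ).eq_Ohm1 cQ]
      exact mem_Ohm1 x.2 (congrArg Subtype.val hx)
  have lP := nc.le_Oc (h.syl D).le ((Oc_pi _ _).sing_ne h.r2.symm)
  have n1 : zpowers q ≤ N(Oc {r}ᶜ (St3 G a b c)) :=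
    (zpowers_le.2 (St4_le _ _ _ _ hq)).trans (Oc_norm _ _)
  have cp := (piG_zpowers.2 (h.qr ho)).coprime nc.pi
  have k1 := inv_syl_inf_cent n1 cp.symm (Or.inl (sol_zpowers q)) ((h.syl D).of_le lP nc.le)
    ((zpowers_le.2 hq).trans (Oc_norm _ _))
  rw [show OS G {2} a b c d ⊓ C(zpowers q) = ⊥ from eq_bot_iff.2 fun x hx =>
    h.fpf D hq (h.qo ho) (h.q1 ho) x hx.1 (mem_cent.1 hx.2 q (mem_zpowers q))] at k1
  obtain ⟨p, hp, k⟩ := exists_AO (H25.FB.Fx.sol ⟨n1, cp, fun x hx hc x2 =>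
    x2.e_eq_one (k1.pi'_of_eq_bot.elt ⟨hx, hc⟩)⟩) (ne_bot_mono lP (h.ok.ne D))
  have l1 := (AO_le p _).trans nc.le
  have n2 := (norm_le_norm_Oc {r}ᶜ (St3 G a b c)).trans (AO_norm p _)
  have pg := abelem_pg hp (AO_ab p (Oc {r}ᶜ (St3 G a b c)))
  have n3 := (St4_le a b c d).trans (le_normalizer.trans n2)
  by_cases p2 : p = 2
  · subst p2
    exact k (triv3 h.ff h.mt D ⟨l1, le_normalizer.trans n2⟩ (Fx_anti
      ((h.syl D).le_of_norm' l1 pg ((Oc_le _ _).trans n3)) (E4_OS D).hd))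
  exact k (h.AA D (AO_ab _ _).1 (odd_of_pi (pg.sing_ne p2)) l1 (inf_le_left.trans n2) fun e he ed =>
    ((Oc_pi _ _).elt (h.kp D ▸ h.AK D pg n3 ⟨he, l1 he, ed⟩)).e_eq_one ((pg.sing_ne p2).elt he))

end HR

end H15.FT
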