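import Cfsg.Agent.H15.FT.F13
import Cfsg.Agent.H10.FixAut

/-! The kernel is a 2-group, `r = 3`: the centre of the kernel fixes more than four points. -/

set_option autoImplicit false
set_option linter.unusedSectionVars false

namespace H15.FT
open MulAction Subgroup H19 H24 Equiv
open scoped commutatorElement

theorem fpf3 {V : Type*} [Group V] [Finite V] {α : MulAut V} (h3 : α ^ 3 = 1)
    (hf : ∀ g, α g = g → g = 1) : (∀ a b c : V, c * ⁅a, b⁆ = ⁅a, b⁆ * c) ∧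
      ∀ a y : V, a * y = y * a → a * α y = α y * a := by
  haveI : Fact (Nat.Prime 3) := ⟨Nat.prime_three⟩
  have hc : ∀ a b c : V, c * ⁅a, b⁆ = ⁅a, b⁆ * c := fun a b c => by
    have : ⁅⁅a, b⁆, c⁆ ∈ (⊤ : Subgroup V).lowerCentralSeries 2 :=
      commutator_mem_commutator (commutator_mem_commutator (mem_top a) (mem_top b)) (mem_top c)
    rw [show (⊤ : Subgroup V).lowerCentralSeries 2 = ⊥ from
      H10.higman_fpf (p := 3) (Or.inr ⟨rfl, rfl⟩) h3 hf, mem_bot,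
      commutatorElement_eq_one_iff_mul_comm] at this
    exact this.symm
  have a3 : ∀ x, α (α (α x)) = x := fun x => by
    rw [← MulAut.mul_apply, ← MulAut.mul_apply, ← pow_three', h3]; rfl
  have key : ∀ x, x * α x * α (α x) = 1 := fun x => by
    obtain ⟨v, rfl⟩ := (Finite.injective_iff_surjective (f := fun v => v⁻¹ * α v)).1 (fun x y e =>
      (mul_inv_eq_one.1 (hf (y * x⁻¹) (by
        have e : x⁻¹ * α x = y⁻¹ * α y := e
        rw [map_mul, map_inv, show α y = y * (x⁻¹ * α x) by rw [e]; group]; group))).symm) x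
    simp [a3]
  have cm : ∀ x, ⁅x, α x⁆ = 1 := fun x => commutatorElement_eq_one_iff_mul_comm.2 (by
    have h1 := eq_inv_of_mul_eq_one_left (key x)
    have h2 := eq_inv_of_mul_eq_one_left (key x⁻¹)
    rw [map_inv, map_inv, inv_inv, ← mul_inv_rev] at h2
    rw [h1, ← h2, inv_inv])
  have bL : ∀ a b c : V, ⁅a * b, c⁆ = ⁅b, c⁆ * ⁅a, c⁆ := fun a b c => by
    calc ⁅a * b, c⁆ = a * ⁅b, c⁆ * a⁻¹ * ⁅a, c⁆ := by simp only [commutatorElement_def]; group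
      _ = _ := by rw [hc b c a]; group
  have bR : ∀ a b c : V, ⁅a, b * c⁆ = ⁅a, b⁆ * ⁅a, c⁆ := fun a b c => by
    calc ⁅a, b * c⁆ = ⁅a, b⁆ * (b * ⁅a, c⁆ * b⁻¹) := by simp only [commutatorElement_def]; group
      _ = _ := by rw [hc a c b]; group
  have k2 : ∀ a y : V, a * y = y * a → a * α (α y) = α (α y) * a := fun a y e => by
    have := cm (a * α y)
    rw [map_mul, bL, bR, bR, cm, cm, ← map_commutatorElement,
      commutatorElement_eq_one_iff_mul_comm.2 e.symm] at this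
    exact commutatorElement_eq_one_iff_mul_comm.1 (by simpa using this)
  exact ⟨hc, fun a y e => by simpa [a3] using k2 a _ (k2 a y e)⟩

variable {G Ω : Type*} [Group G] [Finite G] [MulAction G Ω] [Finite Ω] {a b c d : Ω} {g q s x y : G}
  {U : Subgroup G}

theorem real3 (ho : orderOf q = 3) (pg : PG 2 U) (hn : q ∈ N(U)) (e : g * q * g⁻¹ * q ∈ U) :
    ∃ k ∈ U, k * g ∈ N(zpowers q) := by
  obtain ⟨k, hk, l⟩ := exists_cj_le_of_le_sup (zpowers_le.2 hn) (B := zpowers (g * q * g⁻¹))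
    (zpowers_le.2 (by simpa using mul_mem_sup e (inv_mem (mem_zpowers q))))
    (pg.coprime (by rw [Nat.card_zpowers, H19.orderOf_conj', ho]; exact PiN.of_not_dvd (by norm_num)))
    (Or.inl (sol_zpowers _))
  exact ⟨k, hk, mem_norm_of_cj_le (by rwa [cj_mul, cj_zpowers g])⟩

variable (G) in
/-- the centre of the Sylow 2-subgroup of a four point stabilizer -/
abbrev ZS (a b c d : Ω) : Subgroup G := Z(OS G {2} a b c d)

theorem ZS_pg : PG 2 (ZS G a b c d) := (Oc_pi _ _).infl _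

theorem ZS_le : ZS G a b c d ≤ St4 G a b c d := inf_le_left.trans (Oc_le _ _)

variable (Ω) in
/-- level one subgroups containing the centres -/
structure Gd (U : Subgroup G) : Prop extends Lv Ω U where
  z : ∀ {a b c d : Ω}, E4 (Fx Ω U) a b c d → ZS G a b c d ≤ U

namespace HR
variable (h : HR G Ω 3)
include h

theorem f3 (D : D4 a b c d) (hq : q ∈ St4 G a b c d) (ho : orderOf q = 3) :
    ⁅OS G {2} a b c d, OS G {2} a b c d⁆ ≤ ZS G a b c d ∧ ∀ x ∈ OS G {2} a b c d,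
      ∀ y ∈ OS G {2} a b c d, x * y = y * x → x * (q * y * q⁻¹) = q * y * q⁻¹ * x := by
  obtain ⟨k1, k2⟩ := fpf3 (α := (OS G {2} a b c d).normalizerMonoidHom ⟨q, Oc_norm _ _ hq⟩)
    (by rw [← map_pow, ← map_one (OS G {2} a b c d).normalizerMonoidHom]
        exact congrArg _ (Subtype.ext (ho ▸ pow_orderOf_eq_one q)))
    fun g e => Subtype.ext (h.fpf D hq (h.qo ho) (h.q1 ho) g g.2
      (mul_inv_eq_iff_eq_mul.1 (congrArg Subtype.val e)))
  exact ⟨le_inf (der_le _) (commutator_le.2 fun x hx y hy => mem_cent.2 fun z hz =>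
    congrArg Subtype.val (k1 ⟨x, hx⟩ ⟨y, hy⟩ ⟨z, hz⟩)), fun x hx y hy e =>
    congrArg Subtype.val (k2 ⟨x, hx⟩ ⟨y, hy⟩ (Subtype.ext e))⟩

theorem cls (D : D4 a b c d) : ⁅OS G {2} a b c d, OS G {2} a b c d⁆ ≤ ZS G a b c d :=
  let ⟨_, hq, ho⟩ := h.exq D; (h.f3 D hq ho).1

theorem a3 (D : D4 a b c d) : St3 G a b c ⊓ C(ZS G a b c d) ≤ OS G {2} a b c d := by
  obtain ⟨z, hz, z1⟩ := exists_ne_one ((Oc_pi _ _).center_ne_bot (h.ok.ne D))
  have hP : OS G {2} a b c d ≤ St3 G a b c ⊓ C(ZS G a b c d) :=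
    le_inf (h.syl D).le (cents_symm inf_le_right)
  have hH : ∀ g ∈ St3 G a b c ⊓ C(ZS G a b c d), g • d = d → g ∈ OS G {2} a b c d := fun g hg e =>
    h.cent D ⟨hg.1, e⟩ hz.1 z1 (mem_cent.1 hg.2 z hz).symm
  have sy := (h.syl D).of_le hP inf_le_left
  refine h.AA' D hP inf_le_left hH (norms_inf inf_le_left (norms_cent (JS_OS.trans
    (norm_le_norm_center _)))) (frobNC Nat.prime_two sy fun Q hQ g hg hn go => ?_)
  have cl := h.cls D
  have fd := fun g hg => h.fixd D (g := g) hg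
  have pz : PG 2 (ZS G a b c d) := ZS_pg
  have lZ : ZS G a b c d ≤ OS G {2} a b c d := inf_le_left
  have lX : St3 G a b c ⊓ C(ZS G a b c d) ≤ St3 G a b c := inf_le_left
  have cX : St3 G a b c ⊓ C(ZS G a b c d) ≤ C(ZS G a b c d) := inf_le_right
  generalize St3 G a b c ⊓ C(ZS G a b c d) = X at *
  generalize ZS G a b c d = Z at *
  generalize OS G {2} a b c d = P at *
  have nX := norms_of_cents cX
  have l1 : Q ⊔ Z ≤ P := sup_le hQ lZ
  have l2 : P ≤ X ⊓ N(Q ⊔ Z) := le_inf hP (norms_of_der_le (cl.trans le_sup_right) l1)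
  have l3 : P ≤ X ⊓ N(Q ⊔ Z) ⊓ qpre Z C(quo Z (Q ⊔ Z)) := le_inf l2 ((quo_le_iff (hP.trans nX)).1
    ((quo_cents_iff (hP.trans nX) ((l1.trans hP).trans nX)).2 ((commutator_mono le_rfl l1).trans cl)))
  have k := (sy.of_le l3 (inf_le_left.trans inf_le_left)).frattini (inf_normal_of_norm'
    (norms_qpre (inf_le_left.trans nX) (norms_cent (quo_norms inf_le_right))))
  have l4 : zpowers g ≤ qpre Z C(quo Z (Q ⊔ Z)) := zpowers_le.2 ((k.ge.trans (sup_le le_rfl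
    (le_trans (fun s hs => hH s hs.1.1 (fd s (lX hs.1.1) hs.2)) l3)))
      ⟨hg, norms_sup (zpowers_le.2 hn) (zpowers_le.2 (nX hg)) (mem_zpowers g)⟩).2
  have l5 := zpowers_le.2 (nX hg)
  refine cent_mono (K := Q ⊔ Z) le_sup_left (cents_of_stable (pz.coprime (piG_zpowers.2 go)) (zpowers_le.2 (cX hg))
    ?_ (mem_zpowers g))
  rw [commutator_comm]
  exact (quo_cents_iff l5 ((l1.trans hP).trans nX)).1 ((quo_le_iff l5).2 l4)

theorem exGd (D : D4 a b c d) (h4 : 4 < (Fx Ω (ZS G a b c d)).ncard) : ∃ U : Subgroup G, Gd Ω U := by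
  obtain ⟨U, -, ⟨pg, hU, a, b, c, d, E, l⟩, m⟩ := (Set.toFinite {U : Subgroup G | PG 2 U ∧
    4 < (Fx Ω U).ncard ∧ ∃ a b c d, E4 (Fx Ω U) a b c d ∧ ZS G a b c d ≤ U}).exists_le_maximal
    (a := ZS G a b c d) ⟨ZS_pg, h4, a, b, c, d, E4_St D ZS_le, le_rfl⟩
  have le : ∀ {a b c d : Ω}, E4 (Fx Ω U) a b c d → U ≤ OS G {2} a b c d := fun E => h.ok.le E.d4 E.St pg
  have mx : ∀ {a b c d : Ω}, E4 (Fx Ω U) a b c d → ∀ S ≤ OS G {2} a b c d, ∀ x ∈ Fx Ω U, x ∈ Fx Ω S →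
      x ≠ a → x ≠ b → x ≠ c → x ≠ d → ∀ a' b' c' d', E4 (Fx Ω (U ⊔ S)) a' b' c' d' →
      ZS G a' b' c' d' ≤ U → S ≤ U := fun E S hS x hx xS k1 k2 k3 k4 a' b' c' d' E' l =>
    le_sup_right.trans (m ⟨(Oc_pi _ _).of_le (sup_le (le E) hS), (E4_St E.d4 (sup_le E.St
      (hS.trans (Oc_le _ _)))).lt (by rw [Fx_sup]; exact ⟨hx, xS⟩) k1 k2 k3 k4, _, _, _, _, E',
      l.trans le_sup_left⟩ le_sup_left)
  have z : ∀ {a b c d : Ω}, E4 (Fx Ω U) a b c d → ZS G a b c d ≤ U := fun E' =>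
    chain (R := fun a b c d => ZS G a b c d ≤ U) (fun a b c d _ r => by rwa [ZS, OS, St4_12])
      (fun a b c d _ r => by rwa [ZS, OS, St4_23]) (fun a b c d _ r => by rwa [ZS, OS, St4_34])
      (fun a b c d e E E' r => by
        by_cases q : d = e
        · exact q ▸ r
        have k : ZS G a b c e ≤ OS G {2} a b c d := le_trans (le_inf (ZS_le.trans (St4_le _ _ _ _))
          (inf_le_right.trans (cent_mono (r.trans (le E'))))) (h.a3 E.d4)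
        have k2 := k.trans (Oc_le _ _)
        exact mx E' _ inf_le_left d E.hd (le_St4.1 k2).2.2.2 E.d4.ad.symm E.d4.bd.symm E.d4.cd.symm q
          a b c d (E4_St E.d4 (sup_le E.St k2)) r) E E' l
  refine ⟨U, ⟨hU, fun E => (le E).trans (h.ok.leK E.d4), fun E g hg x hx gx k1 k2 k3 k4 => ?_⟩, z⟩
  have l := zpowers_le.2 (h.kp E.d4 ▸ hg)
  exact zpowers_le.1 (mx E _ l x hx (by rwa [Fx_zp]) k1 k2 k3 k4 _ _ _ _
    (E4_St E.d4 (sup_le E.St (l.trans (Oc_le _ _)))) (z E))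

variable (v : Gd Ω U) (E : E4 (Fx Ω U) a b c d)
include v E

theorem gle : U ≤ OS G {2} a b c d := h.kp E.d4 ▸ v.le E

theorem gP : OS G {2} a b c d ≤ N(U) := norms_of_der_le ((h.cls E.d4).trans (v.z E)) (h.gle v E)

theorem gq (hq : q ∈ St4 G a b c d) (ho : orderOf q = 3) : q ∈ N(U) := by
  obtain ⟨x, hx, k1, k2, k3, k4⟩ := E.five v.lt
  have E' := E.rep hx k1 k2 k3
  refine mem_norm_of_cj_le fun _ hu0 => ?_
  obtain ⟨u, hu, rfl⟩ := mem_cj'.1 hu0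
  have m := (Oc_normal _ _).conj_mem hq (h.gle v E hu)
  refine v.max E _ (h.ok.leK E.d4 m) x hx (mem_St4.1 (ocm (h.a3 E'.d4 ⟨(h.syl E.d4).le m,
    mem_cent.2 fun z hz => ?_⟩))).2.2.2 k1 k2 k3 k4
  exact (h.f3 E.d4 hq ho).2 z (h.gle v E (v.z E' hz)) u (h.gle v E hu)
    (mem_cent.1 hz.2 u (h.gle v E' hu)).symm

theorem glt : U < OS G {2} a b c d := (h.gle v E).lt_of_ne fun e => h.not4 E.d4 (e ▸ v.lt)

theorem gker {k : G} (hk : k ∈ N(U)) (f : ∀ x ∈ Fx Ω U, k • x = x) : k ∈ U := by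
  have k4 : k ∈ St4 G a b c d := mem_St4.2 ⟨f _ E.ha, f _ E.hb, f _ E.hc, f _ E.hd⟩
  refine v.triv E (by_contra fun e => ?_) f
  obtain ⟨w, hw, w1⟩ := SetLike.exists_of_lt (h.glt v E)
  have wK := h.ok.leK E.d4 hw
  refine w1 ((h.fr E.d4).quo k4 e (v.le E) hk wK (v.triv E (mul_mem (inv_mem wK)
    ((Fit_normal _).conj_mem k4 wK)) fun x hx => ?_))
  simp only [mul_smul]
  rw [inv_smul_eq_iff.2 (f x hx).symm, f _ (Fx_norm (h.gP v E hw) hx), inv_smul_smul]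

theorem g8 : (Fx Ω U).ncard = 8 := by
  obtain ⟨X, φ, I⟩ := exists_img (h.lv_t4 v.toLv le_rfl (h.lvN v.toLv)).inv
  obtain ⟨k1, -⟩ := h.lv v.toLv le_rfl (h.lvN v.toLv) I
  obtain ⟨q, hq, ho⟩ := h.exq E.d4
  obtain ⟨w, hw, wn, w1, w2⟩ := exists_sq_norm (Oc_pi _ _) (h.glt v E)
  have qn := h.gq v E hq ho
  have ker : ∀ g : N(U), φ g = 1 ↔ (g : G) ∈ U := fun g =>
    I.eq_one.trans ⟨h.gker v E g.2, fun e x hx => mem_Fx.1 hx _ e⟩
  have s2 : φ ⟨w, wn⟩ * φ ⟨w, wn⟩ = 1 := by rw [← map_mul, ker]; exact w2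
  have s1 : φ ⟨w, wn⟩ ≠ 1 := mt (ker _).1 w1
  rw [← Nat.card_coe_set_eq]
  refine (k1.N1 E.lift (I.mem_St4.2 (ocm hw)) s2 s1 (t := φ (⟨q, qn⟩ * ⟨w, wn⟩ * (⟨q, qn⟩)⁻¹))
    (I.mem_St4.2 (mul_mem (mul_mem hq (ocm hw)) (inv_mem hq))) (by rw [map_mul, map_mul, map_inv, conj_mul, s2]; simp)
    (by rw [map_mul, map_mul, map_inv]; simpa using s1) fun e => w1 (fpf_quo (h.gle v E) qn (h.fpf E.d4 hq (h.qo ho) (h.q1 ho)) hw
      ((ker ((⟨w, wn⟩)⁻¹ * (⟨q, qn⟩ * ⟨w, wn⟩ * (⟨q, qn⟩)⁻¹))).1 ?_))).1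
  rw [map_mul, ← e, map_inv, inv_mul_cancel]

theorem g5 (hq : q ∈ St4 G a b c d) (ho : orderOf q = 3) :
    fixedBy Ω q ⊆ Fx Ω U ∧ (fixedBy Ω q).ncard = 5 := by
  have qn := h.gq v E hq ho
  have pg := (Oc_pi _ _).of_le (h.gle v E)
  have i1 : ∀ x ∈ Fx Ω U, q • x ∈ Fx Ω U := fun _ => Fx_norm qn
  obtain ⟨x, hx, qx⟩ : ∃ x ∈ Fx Ω U, q • x ≠ x := by
    by_contra e; push Not at e
    exact h.q1 ho ((pg.elt (h.gker v E qn e)).e_eq_one (h.qo ho))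
  have q3 : ∀ x : Ω, q • q • q • x = x := fun x => by
    rw [smul_smul, smul_smul, ← pow_three', ← ho, pow_orderOf_eq_one, one_smul]
  have n2 : q • q • x ≠ x := fun e => qx ((congrArg (q • ·) e).symm.trans (q3 x))
  have n3 : q • q • x ≠ q • x := mt (smul_left_cancel_iff q).1 qx
  have m : ∀ t ∈ ({x, q • x, q • q • x} : Set Ω), q • t ≠ t := by
    rintro _ (rfl | rfl | rfl); exacts [qx, n3, by rw [q3]; exact n2.symm]
  have k1 := modE Nat.prime_three (h.qr ho) i1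
  have E2 : E4 (Fx Ω U ∩ fixedBy Ω q) a b c d :=
    let e := E4_fb E.d4 hq; ⟨E.d4, ⟨E.ha, e.ha⟩, ⟨E.hb, e.hb⟩, ⟨E.hc, e.hc⟩, ⟨E.hd, e.hd⟩⟩
  have k2 := E2.le
  have s1 : Fx Ω U ∩ fixedBy Ω q ⊆ Fx Ω U \ {x, q • x, q • q • x} := fun t ht => ⟨ht.1, fun e => m t e ht.2⟩
  have k3 : (Fx Ω U \ {x, q • x, q • q • x}).ncard = 5 := by
    rw [Set.ncard_diff (by rintro _ (rfl | rfl | rfl); exacts [hx, i1 _ hx, i1 _ (i1 _ hx)]),
      Set.ncard_eq_three.2 ⟨_, _, _, qx.symm, n2.symm, n3.symm, rfl⟩, h.g8 v E]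
  have k4 := Set.ncard_le_ncard s1
  rw [h.g8 v E, Nat.ModEq] at k1
  have k5 := Set.eq_of_subset_of_ncard_le s1 (by omega)
  have E3 : E4 (Fx Ω U) x (q • x) (q • q • x) a := ⟨⟨qx.symm, n2.symm, fun e => (s1 E2.ha).2 (by simp [← e]),
    n3.symm, fun e => (s1 E2.ha).2 (by simp [← e]), fun e => (s1 E2.ha).2 (by simp [← e])⟩, hx, i1 _ hx,
    i1 _ (i1 _ hx), E.ha⟩
  obtain ⟨g, hg, g1, g2, g3, -⟩ := (h.lv_t4 v.toLv le_rfl (h.lvN v.toLv)).ex E3 E3.s12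
  obtain ⟨k, hk, kn⟩ := real3 ho pg qn (h.gker v E (mul_mem (conj_mem_of_norm
    (norm_le_norm_norm _ hg) qn) qn) fun t ht => by
      simp only [mul_smul]
      by_cases e : t ∈ ({x, q • x, q • q • x} : Set Ω)
      · rcases e with rfl | rfl | rfl
        · rw [inv_smul_eq_iff.2 g1.symm, g2]
        · rw [inv_smul_eq_iff.2 g3.symm, q3, g1]
        · rw [q3, inv_smul_eq_iff.2 g2.symm, g3]
      have k6 : g⁻¹ • t ∈ Fx Ω U ∩ fixedBy Ω q := k5 ▸ ⟨Fx_norm (inv_mem hg) ht, fun e' => e (by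
        simp only [Set.mem_insert_iff, Set.mem_singleton_iff, inv_smul_eq_iff] at e' ⊢
        rcases e' with rfl | rfl | rfl <;> simp [g1, g2, g3])⟩
      rw [show q • t = t from (k5 ▸ ⟨ht, e⟩ : t ∈ Fx Ω U ∩ fixedBy Ω q).2, k6.2, smul_inv_smul])
  have k6 : ¬ 6 ≤ (fixedBy Ω q).ncard := fun e => n2 (by
    have := congrArg (· • x) (mem_cent1.1 (h.big ho e kn))
    simp only [mul_smul] at this
    rw [g1, g2, mem_Fx.1 hx k hk, mem_Fx.1 (i1 _ hx) k hk] at this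
    exact this.symm)
  have k7 := Set.eq_of_subset_of_ncard_le (Set.inter_subset_right (s := Fx Ω U) (t := fixedBy Ω q))
    (by omega)
  exact ⟨Set.inter_eq_right.1 k7, by rw [← k7]; omega⟩

theorem gH : St4 G a b c d ≤ N(U) := fun k hk => by
  obtain ⟨q, hq, ho⟩ := h.exq E.d4
  obtain ⟨k1, k2⟩ := h.g5 v E hq ho
  obtain ⟨x, hx, x1, x2, x3, x4⟩ := (E4_fb E.d4 hq).five (by omega)
  obtain ⟨e1, e2, e3, e4⟩ := mem_St4.1 hk
  have i : ∀ {t : Ω}, k • t = t → x ≠ t → k • x ≠ t := fun e n e' =>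
    n ((smul_left_cancel_iff k).1 (e'.trans e.symm))
  refine mem_norm_of_cj_le fun _ hu0 => ?_
  obtain ⟨u, hu, rfl⟩ := mem_cj'.1 hu0
  exact v.max E _ ((Fit_normal _).conj_mem hk (v.le E hu)) (k • x) ((h.g5 v E (mul_mem (mul_mem hk hq)
    (inv_mem hk)) ((H19.orderOf_conj' k q).trans ho)).1 (fb_conj.2 hx))
    (fb_conj.2 (mem_Fx.1 (k1 hx) u hu)) (i e1 x1) (i e2 x2) (i e3 x3) (i e4 x4)

theorem gS : Stn Set.univ {B | ∃ g : G, B = Fx Ω (cj g U)} 8 := by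
  have k : ∀ {g : G} {a b c d : Ω}, E4 (Fx Ω (cj g U)) a b c d →
      E4 (Fx Ω U) (g⁻¹ • a) (g⁻¹ • b) (g⁻¹ • c) (g⁻¹ • d) := fun {g _ _ _ _} e =>
    have i : ∀ {x : Ω}, x ∈ Fx Ω (cj g U) → g⁻¹ • x ∈ Fx Ω U := fun hx =>
      (Fx_cj (g := g)).1 (by rwa [smul_inv_smul])
    ⟨D4_smul e.d4 _, i e.ha, i e.hb, i e.hc, i e.hd⟩
  refine ⟨fun _ _ => Set.subset_univ _, ?_, fun e => ?_, ?_⟩
  · rintro _ ⟨g, rfl⟩; rw [ncard_Fx_cj, h.g8 v E]
  · obtain ⟨g, rfl, rfl, rfl, rfl⟩ := mtex h.mt E.d4 e.d4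
    exact ⟨_, ⟨g, rfl⟩, e.d4, Fx_cj.2 E.ha, Fx_cj.2 E.hb, Fx_cj.2 E.hc, Fx_cj.2 E.hd⟩
  · rintro _ _ ⟨g, rfl⟩ ⟨g', rfl⟩ a b c d e e'
    obtain ⟨n, hn, n1, n2, n3, n4⟩ := (h.lv_t4 v.toLv le_rfl (h.lvN v.toLv)).ex (k e) (k e')
    have := h.gH v (k e) (show g⁻¹ * g' * n ∈ _ by simp only [mem_St4, mul_smul, smul_inv_smul, *, and_self])
    exact congrArg _ ((congrArg (cj g) (cj_of_mem_norm this)).symm.trans (by
      rw [cj_cj, mul_assoc, mul_inv_cancel_left, cj_mul, cj_of_mem_norm hn]))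

theorem b3 : Nat.card Ω = 8 := by
  by_contra n8
  obtain ⟨t, ht⟩ : ∃ t, t ∉ Fx Ω U := not_forall.1 fun e => n8 (by
    rw [← Set.ncard_univ, ← Set.eq_univ_of_forall e, h.g8 v E])
  obtain ⟨q, hq, ho⟩ := h.exq E.d4
  obtain ⟨k1, k2⟩ := h.g5 v E hq ho
  have st := h.gS v E
  have qt : q • t ≠ t := fun e => ht (k1 e)
  have q3 : q • q • q • t = t := by
    rw [smul_smul, smul_smul, ← pow_three', ← ho, pow_orderOf_eq_one, one_smul]
  have n2 : q • q • t ≠ t := fun e => qt ((congrArg (q • ·) e).symm.trans q3)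
  have n3 : q • q • t ≠ q • t := mt (smul_left_cancel_iff q).1 qt
  have := st.part3 qt.symm n2.symm n3.symm trivial trivial trivial (F := fixedBy Ω q) (e := 2)
    (fun x hx => ⟨trivial, by rintro rfl; exact qt hx, by rintro rfl; exact n3 hx, by
      rintro rfl; exact n2 (hx.symm.trans q3)⟩) fun B hB i hi e => by
      have k3 := modE Nat.prime_three (h.qr ho) (st.inv (w := q) (by
        rintro _ ⟨g, rfl⟩
        exact ⟨_, ⟨q * g, rfl⟩, fun x hx => by rw [cj_mul]; exact Fx_cj.2 hx⟩) hB e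
        (by rw [q3, hi]; exact e.s12.s23))
      have k4 : ¬ 4 ≤ (B ∩ fixedBy Ω q).ncard := fun z =>
        let ⟨_, _, _, _, E'⟩ := ex4 z
        ht (st.un hB ⟨1, by rw [cj_one]⟩ (E'.mono Set.inter_subset_left)
          (E'.mono (Set.inter_subset_right.trans k1)) ▸ e.ha)
      rw [st.card B hB, Nat.ModEq] at k3
      omega
  omega

end HR

end H15.FT
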