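import Cfsg.Agent.H15.FT.F14

/-! The kernel is a 2-group, `r = 3`: the centre of the kernel fixes exactly four points. -/

set_option autoImplicit false
set_option linter.unusedSectionVars false

namespace H15.FT
open MulAction Subgroup H19 H24 Equiv
open scoped commutatorElement

variable {G Ω : Type*} [Group G] [Finite G] [MulAction G Ω] [Finite Ω] {a b c d x : Ω} {g q u w z : G}
  {T : Subgroup G}

variable (G) in
/-- `Ω₁ Z` of the Sylow 2-subgroup of a four point stabilizer -/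
abbrev WS (a b c d : Ω) : Subgroup G := Ohm1 2 (ZS G a b c d)

theorem WS_Z : WS G a b c d ≤ ZS G a b c d := Ohm1_le _ _

theorem WS_P : WS G a b c d ≤ OS G {2} a b c d := WS_Z.trans inf_le_left

theorem WS_le : WS G a b c d ≤ St4 G a b c d := WS_Z.trans ZS_le

theorem WS_pg : PG 2 (WS G a b c d) := ZS_pg.of_le WS_Z

theorem WS_ab : Ab (WS G a b c d) := (abelem_Ohm1_center _ _).1

theorem WS_sq (hw : w ∈ WS G a b c d) : w * w = 1 := by rw [← sq]; exact (abelem_Ohm1_center _ _).2 w hw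

theorem WS_norm : N(St4 G a b c d) ≤ N(WS G a b c d) :=
  (norm_le_norm_Oc _ _).trans (norm_le_norm_Ohm1_center _ _)

variable (G Ω) in
/-- the centre fixes exactly four points -/
structure HZ : Prop extends HR G Ω 3 where
  fz : ∀ {a b c d : Ω}, D4 a b c d → ∀ x ∈ Fx Ω (ZS G a b c d), x ≠ a → x ≠ b → x ≠ c → x = d

variable (Ω) in
/-- maximal subgroups of `Ω₁ Z` with more than four fixed points -/
structure DD (T : Subgroup G) : Prop where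
  ne : T ≠ ⊥
  lt : 4 < (Fx Ω T).ncard
  le : ∀ {a b c d : Ω}, E4 (Fx Ω T) a b c d → T ≤ WS G a b c d
  mx : ∀ {a b c d : Ω}, E4 (Fx Ω T) a b c d → ∀ w ∈ WS G a b c d, ∀ x ∈ Fx Ω T, w • x = x → x ≠ a →
    x ≠ b → x ≠ c → x ≠ d → w ∈ T

namespace HZ
variable (h : HZ G Ω)
include h

theorem nc (D : D4 a b c d) {X : Subgroup G} (hP : OS G {2} a b c d ≤ X) (l : X ≤ St3 G a b c)
    (hH : ∀ g ∈ X, g • d = d → g ∈ OS G {2} a b c d) : Hall {2}ᶜ (Oc {2}ᶜ X) X := by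
  refine frobNC Nat.prime_two ((h.syl D).of_le hP l) fun Q hQ g hg hn go => ?_
  have hd : d ∈ Fx Ω Q := Fx_anti hQ (E4_OS D).hd
  obtain ⟨e, he, ed⟩ := H17.gleason_one Nat.prime_two (X ⊓ C(Q)) (Fx Ω Q ∩ {y | ∃ k ∈ X, k • d = y})
    (by rintro s hs _ ⟨h1, k, hk, rfl⟩
        exact ⟨Fx_norm (cent_le_norm _ hs.2) h1, s * k, mul_mem hs.1 hk, mul_smul _ _ _⟩)
    (by
      rintro _ ⟨h1, k, hk, rfl⟩
      obtain ⟨k1, k2, k3⟩ := St3_ne (l hk) D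
      obtain ⟨e1, e2, e3⟩ := mem_St3.1 (l hk)
      have D' := D4_of D k1 k2 k3
      have e := cj_OS k {2} a b c d
      rw [e1, e2, e3] at e
      refine ⟨ZS G a b c (k • d), le_inf (inf_le_left.trans (e ▸ cj_le_of_mem hk hP))
        (inf_le_right.trans (cent_mono (h.ok.le D' (fun s hs => ⟨l (hP (hQ hs)), mem_Fx.1 h1 s hs⟩)
          ((Oc_pi _ _).of_le hQ)))), ZS_pg.isPGroup, Set.eq_singleton_iff_unique_mem.2
        ⟨⟨⟨h1, k, hk, rfl⟩, (E4_St D' ZS_le).hd⟩, ?_⟩⟩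
      rintro _ ⟨⟨-, k', hk', rfl⟩, h2⟩
      obtain ⟨k1, k2, k3⟩ := St3_ne (l hk') D
      exact h.fz D' _ h2 k1 k2 k3)
    (a := d) (b := g • d) ⟨hd, 1, one_mem _, one_smul _ _⟩ ⟨Fx_norm hn hd, g, hg, rfl⟩
  refine mem_of_cop (π := {2}ᶜ) (s := e⁻¹ * g) (norm_le_norm_cent _ hn) (norm_le_norm_cent _
    (mul_mem (inv_mem (cent_le_norm _ he.2)) hn)) ?_ go ((Oc_pi _ _).elt (hH _
      (mul_mem (inv_mem he.1) hg) (by rw [mul_smul, ← ed, inv_smul_smul]))).compl_compl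
  rw [← mul_assoc]
  exact conj_mem_of_norm' (norm_le_norm_cent _ hn) (inv_mem he.2)

theorem zz (D : D4 a b c d) (hz : z ∈ ZS G a b c d) (zx : z • x = x) (k1 : x ≠ a) (k2 : x ≠ b)
    (k3 : x ≠ c) : z ∈ ZS G a b c x := by
  have D' := D4_of D k1 k2 k3
  have m := h.ok.mem D' ⟨(h.syl D).le hz.1, zx⟩ (ZS_pg.elt hz)
  have hP : OS G {2} a b c d ≤ St3 G a b c ⊓ C[z] := le_inf (h.syl D).le (le_cent1_iff.2 hz.2)
  obtain ⟨k, hk, l⟩ := ((h.syl D).of_le hP inf_le_left).sle_cj (le_inf (ZS_le.trans (St4_le a b c x))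
    (inf_le_right.trans (cent_le_cent1 m))) ZS_pg
  obtain ⟨e1, e2, e3⟩ := mem_St3.1 hk.1
  obtain ⟨k1, k2, k3⟩ := St3_ne hk.1 D
  have l2 := (cj_le_of_mem hk hP).trans inf_le_right
  rw [cj_OS, e1, e2, e3] at l l2
  rw [h.fz D' _ (Fx_anti l (E4_OS (D4_of D k1 k2 k3)).hd) k1 k2 k3] at l2
  exact ⟨m, le_cent1_iff.1 l2⟩

theorem exw (D : D4 a b c d) : ∃ w ∈ WS G a b c d, w ≠ 1 :=
  exists_ne_one ((Oc_pi _ _).Ohm1_center_ne_bot (h.ok.ne D))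

theorem fw (D : D4 a b c d) (hx : x ∈ Fx Ω (WS G a b c d)) (k1 : x ≠ a) (k2 : x ≠ b) (k3 : x ≠ c) :
    x = d := by
  have D' := D4_of D k1 k2 k3
  obtain ⟨w, hw, w1⟩ := h.exw D
  have hP : OS G {2} a b c d ≤ St3 G a b c ⊓ C(WS G a b c d) :=
    le_inf (h.syl D).le (cents_symm (WS_Z.trans inf_le_right))
  have hH : ∀ g ∈ St3 G a b c ⊓ C(WS G a b c d), g • d = d → g ∈ OS G {2} a b c d := fun g hg e =>
    h.cent D ⟨hg.1, e⟩ (WS_P hw) w1 (mem_cent.1 hg.2 w hw).symm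
  have := h.AA' D hP inf_le_left hH (norms_inf inf_le_left (norms_cent (JS_St4.trans WS_norm)))
    (h.nc D hP inf_le_left hH)
  exact (h.four D' d (Fx_anti (le_trans (le_inf (h.syl D').le (cents_symm fun w hw =>
    (h.zz D (WS_Z hw) (mem_Fx.1 hx w hw) k1 k2 k3).2)) this) (E4_OS D).hd) D.ad.symm D.bd.symm
    D.cd.symm).symm

theorem c1 (D : D4 a b c d) (f : ∀ a b c d : Ω, D4 a b c d → ∀ w ∈ WS G a b c d, ∀ x, w • x = x → x ≠ a →
    x ≠ b → x ≠ c → x ≠ d → w = 1) : Nat.card Ω = 8 := by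
  obtain ⟨U, v⟩ := h.exLv D (h.gt4 D)
  have k : ∀ {a b c d : Ω}, E4 (Fx Ω U) a b c d → ∀ w ∈ WS G a b c d, w ∈ C(U) ∧ (w ∈ U → w = 1) :=
    fun E w hw => ⟨cent_mono (h.kp E.d4 ▸ v.le E) (WS_Z hw).2, fun e =>
      let ⟨x, hx, k1, k2, k3, k4⟩ := E.five v.lt; f _ _ _ _ E.d4 w hw x (mem_Fx.1 hx w e) k1 k2 k3 k4⟩
  have k' : ∀ a b c d, E4 (Fx Ω U) a b c d → ∃ s ∈ OS G {2} a b c d, s ∈ C(U) ∧ s ∉ U := fun _ _ _ _ E =>
    let ⟨w, hw, w1⟩ := h.exw E.d4; ⟨w, WS_P hw, (k E w hw).1, mt (k E w hw).2 w1⟩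
  obtain ⟨X, φ, I⟩ := exists_img (h.lv_t4 v (cent_le_norm _) k').inv
  obtain ⟨k1, -, k3⟩ := h.lv v (cent_le_norm _) k' I
  obtain ⟨a, b, c, d, E⟩ := ex4 v.lt.le
  obtain ⟨q, hq, ho⟩ := h.exq E.d4
  obtain ⟨w, hw, w1⟩ := h.exw E.d4
  have hw' := conj_mem_of_norm (WS_norm (le_normalizer hq)) hw
  have inj : ∀ w (hw : w ∈ WS G a b c d), φ ⟨w, (k E w hw).1⟩ = 1 → w = 1 := fun w hw e =>
    (k E w hw).2 (v.triv E (h.ok.leK E.d4 (WS_P hw)) (I.eq_one.1 e))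
  have sq : ∀ w (hw : w ∈ WS G a b c d), φ ⟨w, (k E w hw).1⟩ * φ ⟨w, (k E w hw).1⟩ = 1 := fun w hw => by
    rw [← map_mul, ← map_one φ]; exact congrArg φ (Subtype.ext (WS_sq hw))
  obtain ⟨k4, y, hy, y1, yo⟩ := k1.N1 E.lift (I.mem_St4.2 (WS_le hw)) (sq w hw) (mt (inj w hw) w1)
    (I.mem_St4.2 (WS_le hw')) (sq _ hw') (mt (inj _ hw') (by simpa using w1)) fun e => by
      have := inj _ (mul_mem (inv_mem hw) hw') ((map_mul φ (⟨w, (k E w hw).1⟩)⁻¹ ⟨_, (k E _ hw').1⟩).trans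
        (by rw [← e, map_inv, inv_mul_cancel]))
      exact w1 (h.fpf E.d4 hq (h.qo ho) (h.q1 ho) w (WS_P hw)
        (mul_inv_eq_iff_eq_mul.1 (inv_mul_eq_one.1 this).symm))
  obtain ⟨g, rfl⟩ := I.surj y
  obtain rfl : U = ⊥ := eq_bot_iff.2 fun u hu => by_contra fun u1 => y1 (((Oc_pi _ _).elt
    ((k3 _ _ _ _ E.lift _).2 ⟨g, h.cent E.d4 (I.mem_St4.1 hy) (h.kp E.d4 ▸ v.le E hu) u1
      (mem_cent.1 g.2 u hu).symm, rfl⟩)).e_eq_one yo)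
  rwa [Nat.card_coe_set_eq, Set.eq_univ_of_forall (s := Fx Ω (⊥ : Subgroup G)) fun x => Fx_le.2 bot_le,
    Set.ncard_univ] at k4

theorem exDD (D : D4 a b c d) (hw : w ∈ WS G a b c d) (w1 : w ≠ 1) (wx : w • x = x) (k1 : x ≠ a)
    (k2 : x ≠ b) (k3 : x ≠ c) (k4 : x ≠ d) : ∃ T : Subgroup G, DD Ω T := by
  have l := zpowers_le.2 hw
  obtain ⟨T, l1, ⟨hT, a, b, c, d, D, l⟩, m⟩ := (Set.toFinite {T : Subgroup G | 4 < (Fx Ω T).ncard ∧
    ∃ a b c d : Ω, D4 a b c d ∧ T ≤ WS G a b c d}).exists_le_maximal (a := zpowers w)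
    ⟨(E4_St D (l.trans WS_le)).lt (by rwa [Fx_zp]) k1 k2 k3 k4, a, b, c, d, D, l⟩
  have le : ∀ {a b c d : Ω}, E4 (Fx Ω T) a b c d → T ≤ WS G a b c d := fun E' =>
    chain (R := fun a b c d => T ≤ WS G a b c d) (fun a b c d _ r => by rwa [WS, ZS, OS, St4_12])
      (fun a b c d _ r => by rwa [WS, ZS, OS, St4_23]) (fun a b c d _ r => by rwa [WS, ZS, OS, St4_34])
      (fun a b c d e E E' r z hz => mem_Ohm1 (h.zz E.d4 (WS_Z (r hz)) (mem_Fx.1 E'.hd z hz) E'.d4.ad.symm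
        E'.d4.bd.symm E'.d4.cd.symm) (by rw [sq, WS_sq (r hz)])) (E4_St D (l.trans WS_le)) E' l
  refine ⟨T, ne_bot_of_mem (l1 (mem_zpowers w)) w1, hT, le, fun E s hs x hx sx k1 k2 k3 k4 => ?_⟩
  have l2 := sup_le (le E) (zpowers_le.2 hs)
  exact zpowers_le.1 (le_sup_right.trans (m ⟨(E4_St E.d4 (l2.trans WS_le)).lt
    (by rw [Fx_sup, Fx_zp]; exact ⟨hx, sx⟩) k1 k2 k3 k4, _, _, _, _, E.d4, l2⟩ le_sup_left))

variable (v : DD Ω T)
include v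

theorem t4 : T4 C(T) (Fx Ω T) :=
  gleason4 Nat.prime_two (fun _ hg _ => Fx_norm (cent_le_norm _ hg)) v.lt fun _ _ _ _ E =>
    ⟨_, cents_of_comm WS_ab le_rfl (v.le E), WS_le, WS_pg, fun x _ hx => by
      have := h.fw E.d4 hx; tauto⟩

variable (E : E4 (Fx Ω T) a b c d)
include E

theorem cT (hg : g ∈ St4 G a b c d) (hc : g ∈ C(T)) : g ∈ OS G {2} a b c d :=
  let ⟨t, ht, t1⟩ := exists_ne_one v.ne; h.cent E.d4 hg (WS_P (v.le E ht)) t1 (mem_cent.1 hc t ht).symm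

theorem pX : OS G {2} a b c d ≤ St3 G a b c ⊓ C(T) :=
  le_inf (h.syl E.d4).le (cents_symm (((v.le E).trans WS_Z).trans inf_le_right))

theorem reg : Reg (Oc {2}ᶜ (St3 G a b c ⊓ C(T))) (Fx Ω T \ {a, b, c}) := by
  have nc := h.nc E.d4 (h.pX v E) inf_le_left fun g hg e => h.cT v E ⟨hg.1, e⟩ hg.2
  have k : ∀ x ∈ Fx Ω T \ {a, b, c}, E4 (Fx Ω T) a b c x := fun x hx => by
    have := hx.2
    simp only [Set.mem_insert_iff, Set.mem_singleton_iff, not_or] at this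
    exact E.rep hx.1 this.1 this.2.1 this.2.2
  refine ⟨fun g hg x hx => ⟨(h.t4 v).inv g (ocm hg).2 x hx.1, by
    simpa [not_or] using St3_ne (ocm hg).1 (k x hx).d4⟩, fun x hx y hy => ?_, fun x hx n hn e =>
    ((Oc_pi _ _).elt (h.cT v (k x hx) ⟨(ocm hn).1, e⟩ (ocm hn).2)).e_eq_one (nc.pi.elt hn)⟩
  obtain ⟨g, hg, g1, g2, g3, g4⟩ := (h.t4 v).ex (k x hx) (k y hy)
  have := (((h.syl (k x hx).d4).of_le (h.pX v (k x hx)) inf_le_left).sup_compl nc).ge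
    ⟨mem_St3.2 ⟨g1, g2, g3⟩, hg⟩
  rw [sup_comm] at this
  obtain ⟨o, ho, s, hs, rfl⟩ := (mem_sup_of_norm ((h.pX v (k x hx)).trans (Oc_norm _ _))).1 this
  exact ⟨o, ho, by rw [← g4, mul_smul, (mem_St4.1 (ocm hs)).2.2.2]⟩

omit h v in
theorem dm : d ∈ Fx Ω T \ {a, b, c} := ⟨E.hd, by simp [E.d4.ad.symm, E.d4.bd.symm, E.d4.cd.symm]⟩

theorem idx2 (hu : u ∈ WS G a b c d) (u1 : u ∉ T) (hw : w ∈ WS G a b c d) (w1 : w ∉ T) : u * w ∈ T := by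
  have R := h.reg v E
  have i : ∀ u ∈ WS G a b c d, u ∉ T → ∀ o ∈ Oc {2}ᶜ (St3 G a b c ⊓ C(T)), u * o * u⁻¹ = o⁻¹ :=
    fun u hu u1 o ho => inverts (Oc_norm _ _ (h.pX v E (WS_P hu))) (WS_sq hu) (fun o ho e => by
      obtain ⟨k1, k2, k3⟩ := St3_ne (ocm ho).1 E.d4
      exact R.one d (dm E) o ho (by_contra fun k4 => u1 (v.mx E u hu _ (R.inv o ho d (dm E)).1
        (fb_comm e.symm (mem_St4.1 (WS_le hu)).2.2.2) k1 k2 k3 k4))) ho
  obtain ⟨x, hx, k1, k2, k3, k4⟩ := E.five v.lt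
  obtain ⟨o, ho, rfl⟩ := R.tr d (dm E) x ⟨hx, by simp [*]⟩
  exact v.mx E _ (mul_mem hu hw) _ hx (fb_comm (mem_cent.1 (cent_of_inv (i u hu u1) (i w hw w1)) o ho)
    (mem_St4.1 (WS_le (mul_mem hu hw))).2.2.2) k1 k2 k3 k4

theorem exu : ∃ u ∈ WS G a b c d, u ∉ T := by
  obtain ⟨x, hx, k1, k2, k3, k4⟩ := E.five v.lt
  exact SetLike.not_le_iff_exists.1 fun e => k4 (h.fw E.d4 (Fx_anti e hx) k1 k2 k3)

theorem disj (hq : q ∈ St4 G a b c d) (ho : orderOf q = 3) (hx : x ∈ Fx Ω T \ {a, b, c, d}) :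
    q • x ∉ Fx Ω T := fun qx => by
  have n := WS_norm (le_normalizer hq)
  obtain ⟨u, hu, u1⟩ := h.exu v E
  have k := hx.2
  simp only [Set.mem_insert_iff, Set.mem_singleton_iff, not_or] at k
  obtain ⟨e1, e2, e3, e4⟩ := mem_St4.1 hq
  have i : ∀ {t : Ω}, q • t = t → x ≠ t → q • x ≠ t := fun e n e' =>
    n ((smul_left_cancel_iff q).1 (e'.trans e.symm))
  have qn : q ∈ N(T) := mem_norm_of_cj_le fun _ ht0 => by
    obtain ⟨t, ht, rfl⟩ := mem_cj'.1 ht0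
    exact v.mx E _ (conj_mem_of_norm n (v.le E ht)) _ qx (fb_conj.2 (mem_Fx.1 hx.1 t ht)) (i e1 k.1)
      (i e2 k.2.1) (i e3 k.2.2.1) (i e4 k.2.2.2)
  exact u1 (fpf_quo ((v.le E).trans WS_P) qn (h.fpf E.d4 hq (h.qo ho) (h.q1 ho)) (WS_P hu)
    (h.idx2 v E (inv_mem hu) (mt (inv_mem_iff.1) u1) (conj_mem_of_norm n hu) fun e =>
      u1 (by simpa [mul_assoc] using conj_mem_of_norm' qn e)))

theorem exu' : ∃ u ∈ C(T), u • a = b ∧ u • b = a ∧ u • c = c ∧ u • d = d ∧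
    3 ∣ (Fx Ω T \ {a, b, c}).ncard := by
  obtain ⟨u, hu, u1⟩ := h.exu v E
  obtain ⟨x, hx, k1, k2, k3, k4⟩ := E.five v.lt
  obtain ⟨ua, ub, uc, ud⟩ := mem_St4.1 (WS_le hu)
  have u2 := WS_sq hu
  have ux : u • x ≠ x := fun e => u1 (v.mx E u hu x hx e k1 k2 k3 k4)
  have uT : u ∈ C(T) := cents_of_comm WS_ab le_rfl (v.le E) hu
  have E' : E4 (Fx Ω T) c d x (u • x) := ⟨d4_inv u2 E.d4.cd uc ud ux, E.hc, E.hd, hx, (h.t4 v).inv u uT x hx⟩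
  obtain ⟨w, hw, w1⟩ := h.exu v E'
  obtain ⟨wc, wd, wx, wy⟩ := mem_St4.1 (WS_le hw)
  have w2 := WS_sq hw
  have wT : w ∈ C(T) := cents_of_comm WS_ab le_rfl (v.le E') hw
  have i : ∀ {t : Ω}, u • t = t → x ≠ t → t ≠ u • x := fun e n e' =>
    n ((smul_left_cancel_iff u).1 (e'.symm.trans e.symm))
  have wa : w • a = b := by
    have := mem_Fx.1 E.ha _ (h.idx2 v E' hw w1 (conj_mem_of_norm (WS_norm (norm_inv uc ud (inv2 u2 x))) hw)
      fun e => w1 (by simpa [mul_assoc] using conj_mem_of_norm' (cent_le_norm _ uT) e))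
    simp only [mul_smul] at this
    rw [inv_smul_eq_iff.2 ua.symm, ← smul_left_cancel_iff w, inv2 w2] at this
    have D := D4_smul E.d4 w
    rw [wc, wd] at D
    exact by_contra fun e => u1 (v.mx E u hu _ ((h.t4 v).inv w wT a E.ha) this (fun e => w1
      (v.mx E' w hw a E.ha e E.d4.ac E.d4.ad k1.symm (i ua k1))) e D.ac D.ad)
  have wb : w • b = a := by rw [← wa, inv2 w2]
  refine ⟨w, wT, wa, wb, wc, wd, ?_⟩
  have R := h.reg v E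
  have k := R.fix (norms_Oc _ (norms_inf (zpowers_le.2 (norm_St3 (by rw [wa, wb, wc, St3_12])))
    (norms_of_le (zpowers_le.2 wT))) (mem_zpowers w)) (dm E) wd
  rw [ncard3 (s := (Fx Ω T \ {a, b, c}) ∩ fixedBy Ω w) E'.d4.bc E'.d4.bd E'.d4.cd ⟨dm E, wd⟩
    ⟨⟨hx, by simp [*]⟩, wx⟩ ⟨⟨E'.hd, by simp [(i ua k1).symm, (i ub k2).symm, (i uc k3).symm]⟩, wy⟩
    fun t ht t1 t2 t3 => w1 (v.mx E' w hw t ht.1.1 ht.2 (fun e => ht.1.2 (by simp [e])) t1 t2 t3)] at k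
  rw [R.card (dm E), k]
  exact card_dvd inf_le_left

omit h v in
theorem fix2 (h3 : 3 ∣ (Fx Ω T \ {a, b, c}).ncard) (hz : z ∈ C(T)) (z3 : PiE {3} z) (z1 : z • a = c)
    (z2 : z • b = a) (z4 : z • c = b) (z5 : z • d = d) :
    2 ≤ ((Fx Ω T \ {a, b, c, d}) ∩ fixedBy Ω z).ncard := by
  have k1 := modE Nat.prime_three z3 (s := Fx Ω T \ {a, b, c}) fun x hx =>
    ⟨Fx_norm (cent_le_norm _ hz) hx.1, fun e => hx.2 (by
      rcases e with e | e | e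
      · simp [(smul_left_cancel_iff z).1 (e.trans z2.symm)]
      · simp [(smul_left_cancel_iff z).1 (e.trans z4.symm)]
      · simp [(smul_left_cancel_iff z).1 (e.trans z1.symm)])⟩
  have m : d ∈ (Fx Ω T \ {a, b, c}) ∩ fixedBy Ω z := ⟨dm E, z5⟩
  have k2 := (Set.ncard_pos (s := (Fx Ω T \ {a, b, c}) ∩ fixedBy Ω z)).2 ⟨d, m⟩
  rw [show (Fx Ω T \ {a, b, c, d}) ∩ fixedBy Ω z = ((Fx Ω T \ {a, b, c}) ∩ fixedBy Ω z) \ {d} by
    ext; simp only [Set.mem_inter_iff, Set.mem_diff, Set.mem_insert_iff, Set.mem_singleton_iff]; tauto,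
    Set.ncard_diff_singleton_of_mem m]
  rw [Nat.ModEq] at k1
  omega

theorem c2 : False := by
  obtain ⟨u, hu, ua, ub, uc, ud, h3⟩ := h.exu' v E
  obtain ⟨g, hg, g1, g2, g3, g4⟩ := (h.t4 v).ex E E.s23.s12
  obtain ⟨z, hz, z3, z1, z2, z4, z5⟩ := part3 g1 g2 g3 g4
  have zT := zpowers_le.2 hg hz
  have zJ : z ∈ JS G a b c d := ⟨norm_St3 (by rw [z1, z2, z4, ← St3_r]), z5⟩
  have zW := zpowers_le.2 (WS_norm (JS_St4 zJ))
  have zc : z ∈ C(WS G a b c d) := cents_of_stable ((WS_pg.of_le (v.le E)).coprime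
    (piG_zpowers.2 (z3.sing_ne (by norm_num)))) (zpowers_le.2 zT) (commutator_le.2 fun w hw t ht => by
      have n := cent_le_norm _ (zpowers_le.2 zT ht)
      rw [commutatorElement_def, mul_assoc, mul_assoc, ← mul_assoc t]
      by_cases e : w ∈ T
      · exact mul_mem e (conj_mem_of_norm n (inv_mem e))
      · exact h.idx2 v E hw e (conj_mem_of_norm (zW ht) (inv_mem hw)) fun e' =>
          e (by simpa [mul_assoc] using conj_mem_of_norm' n e')) (mem_zpowers z)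
  have ho : orderOf z = 3 := orderOf_of_pow Nat.prime_three (((Oc_pi _ _).elt (h.cT v E
    (by simp only [mem_St4, pow_three, mul_smul, *, and_self]) (pow_mem zT 3))).e_eq_one
      ((z3.sing_ne (by norm_num)).e_pow 3)) (by rintro rfl; exact E.d4.ac (by simpa using z1))
  obtain ⟨q, hq, qo⟩ := h.exq E.d4
  have key : ∀ s ∈ St4 G a b c d, ∃ A : Set Ω, 2 ≤ A.ncard ∧ A ⊆ fixedBy Ω z ∧
      ∀ t ∈ A, s⁻¹ • t ∈ Fx Ω T \ {a, b, c, d} := fun s hs => by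
    obtain ⟨s1, s2, s3, s4⟩ := mem_St4.1 hs
    refine ⟨(s • ·) '' ((Fx Ω T \ {a, b, c, d}) ∩ fixedBy Ω (s⁻¹ * z * s)), ?_, ?_, ?_⟩
    · rw [Set.ncard_image_of_injective _ (MulAction.injective s)]
      refine fix2 E h3 (cent_mono (v.le E) (conj_mem_of_norm' (norm_le_norm_cent _
        (WS_norm (le_normalizer hs))) zc)) (by simpa using z3.e_conj s⁻¹) ?_ ?_ ?_ ?_ <;>
        simp only [mul_smul, inv_smul_eq_iff, *]
    · rintro _ ⟨t, ht, rfl⟩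
      simpa [mul_smul, inv_smul_eq_iff] using ht.2
    · rintro _ ⟨t, ht, rfl⟩
      simpa using ht.1
  obtain ⟨A, a1, a2, a3⟩ := key 1 (one_mem _)
  obtain ⟨B, b1, b2, b3⟩ := key q hq
  obtain ⟨C, c1, c2, c3⟩ := key q⁻¹ (inv_mem hq)
  have q3 : ∀ t : Ω, q⁻¹ • t = q • q • t := fun t => by
    rw [inv_smul_eq_iff, smul_smul, smul_smul, ← pow_three', ← qo, pow_orderOf_eq_one, one_smul]
  simp only [inv_one, one_smul, inv_inv] at a3 c3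
  have k := Set.ncard_le_ncard (Set.union_subset (Set.union_subset a2 b2) c2)
  rw [Set.ncard_union_eq (Set.disjoint_left.2 (by
      rintro t (e | e) e'
      · exact h.disj v E hq qo (a3 t e) (c3 t e').1
      · exact h.disj v E hq qo (c3 t e') (q3 t ▸ (b3 t e).1))),
    Set.ncard_union_eq (Set.disjoint_left.2 fun t e e' =>
      h.disj v E hq qo (b3 t e') (by simpa using (a3 t e).1))] at k
  obtain ⟨k, hk, kn⟩ := real3 ho (Oc_pi {2} (St4 G a b c d)) (JS_OS zJ) (g := u) (h.cT v E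
    (by simp only [mem_St4, mul_smul, z1, z2, z4, z5, inv_smul_eq_iff.2 uc.symm, inv_smul_eq_iff.2 ua.symm,
      inv_smul_eq_iff.2 ub.symm, inv_smul_eq_iff.2 ud.symm, ua, ub, uc, ud, and_self])
    (mul_mem (mul_mem (mul_mem hu zT) (inv_mem hu)) zT))
  have := congrArg (· • a) (mem_cent1.1 (h.big ho (by omega) kn))
  obtain ⟨k1, k2, k3, -⟩ := mem_St4.1 (ocm hk)
  simp only [mul_smul] at this
  rw [z1, uc, k3, ua, k2, z2] at this
  exact E.d4.ac this.symm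

end HZ

theorem HT.eight (h : HT G Ω) (D : D4 a b c d) : Nat.card Ω = 8 := by
  obtain ⟨r, h⟩ := h.exr D
  obtain rfl := h.r3 D
  by_cases e : ∃ a b c d : Ω, D4 a b c d ∧ 4 < (Fx Ω (ZS G a b c d)).ncard
  · obtain ⟨a, b, c, d, D, e⟩ := e
    obtain ⟨U, v⟩ := h.exGd D e
    obtain ⟨_, _, _, _, E⟩ := ex4 v.lt.le
    exact h.b3 v E
  have h : HZ G Ω := ⟨h, fun D x hx k1 k2 k3 => by_contra fun k4 =>
    e ⟨_, _, _, _, D, (E4_St D ZS_le).lt hx k1 k2 k3 k4⟩⟩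
  refine h.c1 D fun a b c d D w hw x wx k1 k2 k3 k4 => by_contra fun w1 => ?_
  obtain ⟨T, v⟩ := h.exDD D hw w1 wx k1 k2 k3 k4
  obtain ⟨_, _, _, _, E⟩ := ex4 v.lt.le
  exact h.c2 v E

end H15.FT
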