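import Cfsg.Agent.H15.FT.F1

/-! Steiner system counts. -/

set_option autoImplicit false

namespace H15.FT
open MulAction Subgroup H19 H24

variable {G Ω : Type*} [Group G] [MulAction G Ω]

/-- a Steiner system `S(4, l, Γ)` -/
structure Stn (Γ : Set Ω) (𝔅 : Set (Set Ω)) (l : ℕ) : Prop where
  sub : ∀ B ∈ 𝔅, B ⊆ Γ
  card : ∀ B ∈ 𝔅, B.ncard = l
  ex : ∀ {a b c d : Ω}, E4 Γ a b c d → ∃ B ∈ 𝔅, E4 B a b c d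
  un : ∀ {B B' : Set Ω}, B ∈ 𝔅 → B' ∈ 𝔅 → ∀ {a b c d : Ω}, E4 B a b c d → E4 B' a b c d → B = B'

namespace Stn
variable {Γ : Set Ω} {𝔅 : Set (Set Ω)} {l : ℕ} (h : Stn Γ 𝔅 l)
include h

theorem blk : ∃ f : Ω → Ω → Ω → Ω → Set Ω, (∀ a b c d, E4 Γ a b c d → f a b c d ∈ 𝔅 ∧
    E4 (f a b c d) a b c d) ∧ ∀ B ∈ 𝔅, ∀ a b c d, E4 B a b c d → f a b c d = B := by
  classical
  have k : ∀ a b c d, ∃ B, E4 Γ a b c d → B ∈ 𝔅 ∧ E4 B a b c d := fun a b c d => by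
    by_cases e : E4 Γ a b c d
    · obtain ⟨B, h1, h2⟩ := h.ex e
      exact ⟨B, fun _ => ⟨h1, h2⟩⟩
    · exact ⟨∅, fun e' => absurd e' e⟩
  choose f hf using k
  exact ⟨f, hf, fun B hB a b c d e =>
    let ⟨h1, h2⟩ := hf a b c d (e.mono (h.sub B hB)); h.un h1 hB h2 e⟩

variable [Finite Ω]

theorem part3 {a b c : Ω} (ab : a ≠ b) (ac : a ≠ c) (bc : b ≠ c) (ha : a ∈ Γ) (hb : b ∈ Γ)
    (hc : c ∈ Γ) {F : Set Ω} (hF : ∀ x ∈ F, x ∈ Γ ∧ x ≠ a ∧ x ≠ b ∧ x ≠ c) {e : ℕ}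
    (he : ∀ B ∈ 𝔅, ∀ i ∈ F, E4 B a b c i → (B ∩ F).ncard = e) : e ∣ F.ncard := by
  obtain ⟨f, h1, h2⟩ := h.blk
  have E : ∀ x ∈ F, E4 Γ a b c x := fun x hx =>
    let ⟨k1, k2, k3, k4⟩ := hF x hx; ⟨⟨ab, ac, k2.symm, bc, k3.symm, k4.symm⟩, ha, hb, hc, k1⟩
  refine part_dvd (Set.toFinite F) (f a b c) fun x hx => ?_
  obtain ⟨k1, k2⟩ := h1 _ _ _ _ (E x hx)
  rw [← he _ k1 x hx k2]
  congr 1
  ext y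
  refine ⟨fun hy => ⟨hy.2 ▸ (h1 _ _ _ _ (E y hy.1)).2.hd, hy.1⟩, fun hy => ⟨hy.2, ?_⟩⟩
  exact h2 _ k1 _ _ _ _ ⟨(E y hy.2).d4, k2.ha, k2.hb, k2.hc, hy.1⟩

theorem dvd3 (h4 : 4 ≤ Γ.ncard) : l - 3 ∣ Γ.ncard - 3 := by
  obtain ⟨a, b, c, d, E⟩ := ex4 h4
  have k : ∀ B, E4 B a b c d ∨ (∃ i, E4 B a b c i) → (B \ {a, b, c}).ncard = B.ncard - 3 := by
    rintro B (e | ⟨_, e⟩) <;>
    rw [Set.ncard_diff (by rintro x (rfl | rfl | rfl); exacts [e.ha, e.hb, e.hc]),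
      Set.ncard_eq_three.2 ⟨a, b, c, e.d4.ab, e.d4.ac, e.d4.bc, rfl⟩]
  rw [← k Γ (Or.inl E)]
  refine h.part3 E.d4.ab E.d4.ac E.d4.bc E.ha E.hb E.hc (fun x hx => ⟨hx.1, by simpa [not_or] using hx.2⟩)
    fun B hB i hi e => ?_
  rw [← h.card B hB, ← k B (Or.inr ⟨i, e⟩)]
  congr 1
  ext y
  exact ⟨fun hy => ⟨hy.1, hy.2.2⟩, fun hy => ⟨hy.1, h.sub B hB hy.1, hy.2⟩⟩

/-- a block containing four points permuted by `w` is `w`-invariant -/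
theorem inv {w : G} (eq : ∀ B ∈ 𝔅, ∃ B' ∈ 𝔅, ∀ x ∈ B, w • x ∈ B') {B : Set Ω} (hB : B ∈ 𝔅)
    {a b c d : Ω} (e : E4 B a b c d) (e' : E4 B (w • a) (w • b) (w • c) (w • d)) :
    ∀ x ∈ B, w • x ∈ B := by
  obtain ⟨B', h1, h2⟩ := eq B hB
  rwa [← h.un hB h1 e' ⟨e'.d4, h2 _ e.ha, h2 _ e.hb, h2 _ e.hc, h2 _ e.hd⟩] at h2

variable {w : G} (hΓ : ∀ x ∈ Γ, w • x ∈ Γ) (hw : ∀ x ∈ Γ, w • w • x = x)
  (eq : ∀ B ∈ 𝔅, ∃ B' ∈ 𝔅, ∀ x ∈ B, w • x ∈ B') {a : Ω} (ha : a ∈ Γ) (wa : w • a ≠ a) {e : ℕ}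
  (he : ∀ B ∈ 𝔅, a ∈ B → (∀ x ∈ B, w • x ∈ B) → 2 ≤ (B ∩ fixedBy Ω w).ncard →
    (B ∩ fixedBy Ω w).ncard = e)
include hΓ hw eq ha wa he

omit h [Finite Ω] eq he in
theorem e4 {i j : Ω} (hi : i ∈ Γ ∩ fixedBy Ω w) (hj : j ∈ Γ ∩ fixedBy Ω w) (ij : i ≠ j) :
    E4 Γ a (w • a) i j := by
  have k : ∀ i ∈ Γ ∩ fixedBy Ω w, a ≠ i ∧ w • a ≠ i := fun i hi =>
    ⟨by rintro rfl; exact wa hi.2, fun e => wa (by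
      have := hi.2; rw [← e, mem_fixedBy, hw a ha] at this; exact this.symm)⟩
  exact ⟨⟨wa.symm, (k i hi).1, (k j hj).1, (k i hi).2, (k j hj).2, ij⟩, ha, hΓ a ha, hi.1, hj.1⟩

theorem line {B : Set Ω} (hB : B ∈ 𝔅) {i j : Ω} (hi : i ∈ fixedBy Ω w) (hj : j ∈ fixedBy Ω w)
    (E : E4 B a (w • a) i j) : (∀ x ∈ B, w • x ∈ B) ∧ (B ∩ fixedBy Ω w).ncard = e := by
  have k := h.inv eq hB E (by rw [hw a ha, hi, hj]; exact E.s12)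
  exact ⟨k, he B hB E.ha k (Set.one_lt_ncard (Set.toFinite _) |>.2
    ⟨i, ⟨E.hc, hi⟩, j, ⟨E.hd, hj⟩, E.d4.cd⟩)⟩

theorem sc1 (h2 : 2 ≤ (Γ ∩ fixedBy Ω w).ncard) : e - 1 ∣ (Γ ∩ fixedBy Ω w).ncard - 1 := by
  obtain ⟨i, hi, j, hj, ij⟩ := (Set.one_lt_ncard (Set.toFinite _)).1 h2
  have E := e4 hΓ hw ha wa hi hj ij
  rw [← Set.ncard_diff_singleton_of_mem hi]
  refine h.part3 E.d4.ab E.d4.ac E.d4.bc E.ha E.hb E.hc (fun x hx => ?_) fun B hB j hj E' => ?_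
  · have E' := e4 hΓ hw ha wa hi hx.1 (Ne.symm hx.2)
    exact ⟨hx.1.1, E'.d4.ad.symm, E'.d4.bd.symm, hx.2⟩
  · rw [← (h.line hΓ hw eq ha wa he hB hi.2 hj.1.2 E').2,
      ← Set.ncard_diff_singleton_of_mem (show i ∈ B ∩ fixedBy Ω w from ⟨E'.hc, hi.2⟩)]
    congr 1
    ext y
    exact ⟨fun hy => ⟨⟨hy.1, hy.2.1.2⟩, hy.2.2⟩, fun hy => ⟨hy.1.1, ⟨h.sub B hB hy.1.1, hy.1.2⟩, hy.2⟩⟩

theorem sc : ∃ t, (Γ ∩ fixedBy Ω w).ncard * ((Γ ∩ fixedBy Ω w).ncard - 1) = t * (e * (e - 1)) ∧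
    ((∀ B ∈ 𝔅, a ∈ B → (∀ x ∈ B, w • x ∈ B) → 2 ≤ (B ∩ fixedBy Ω w).ncard) →
      Γ.ncard - (Γ ∩ fixedBy Ω w).ncard - 2 = t * (l - e - 2)) := by
  obtain ⟨f, h1, h2⟩ := h.blk
  let T : Set (Set Ω) := {B ∈ 𝔅 | a ∈ B ∧ (∀ x ∈ B, w • x ∈ B) ∧ 2 ≤ (B ∩ fixedBy Ω w).ncard}
  have cnt : ∀ B : Set Ω, a ∈ B → w • a ∈ B → (B \ (fixedBy Ω w ∪ {a, w • a})).ncard =
      B.ncard - (B ∩ fixedBy Ω w).ncard - 2 := fun B k1 k2 => by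
    have k3 : w • a ∉ fixedBy Ω w := fun e => wa (by rw [mem_fixedBy, hw a ha] at e; exact e.symm)
    rw [← Set.diff_diff, Set.ncard_diff (by rintro x (rfl | rfl); exacts [⟨k1, wa⟩, ⟨k2, k3⟩]),
      Set.ncard_pair wa.symm, ← Set.diff_self_inter, Set.ncard_diff Set.inter_subset_left]
  refine ⟨T.ncard, ?_, fun h3 => ?_⟩
  · rw [← ncard_offDiag (Set.toFinite _)]
    refine fib (Set.toFinite _) (Set.toFinite _) (fun p => f a (w • a) p.1 p.2) (fun p hp => ?_)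
      fun B hB => ?_
    · obtain ⟨k1, k2⟩ := h1 _ _ _ _ (e4 hΓ hw ha wa hp.1 hp.2.1 hp.2.2)
      exact ⟨k1, k2.ha, (h.line hΓ hw eq ha wa he k1 hp.1.2 hp.2.1.2 k2).1,
        (Set.one_lt_ncard (Set.toFinite _)).2 ⟨_, ⟨k2.hc, hp.1.2⟩, _, ⟨k2.hd, hp.2.1.2⟩, hp.2.2⟩⟩
    · rw [← he B hB.1 hB.2.1 hB.2.2.1 hB.2.2.2, ← ncard_offDiag (Set.toFinite _)]
      congr 1
      ext p
      refine ⟨fun ⟨hp, e⟩ => ?_, fun hp => ?_⟩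
      · obtain ⟨k1, k2⟩ := h1 _ _ _ _ (e4 hΓ hw ha wa hp.1 hp.2.1 hp.2.2)
        rw [show f a (w • a) p.1 p.2 = B from e] at k2
        exact ⟨⟨k2.hc, hp.1.2⟩, ⟨k2.hd, hp.2.1.2⟩, hp.2.2⟩
      · have k1 : p ∈ (Γ ∩ fixedBy Ω w).offDiag :=
          ⟨⟨h.sub B hB.1 hp.1.1, hp.1.2⟩, ⟨h.sub B hB.1 hp.2.1.1, hp.2.1.2⟩, hp.2.2⟩
        exact ⟨k1, h2 B hB.1 _ _ _ _ ⟨(e4 hΓ hw ha wa k1.1 k1.2.1 k1.2.2).d4, hB.2.1,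
          hB.2.2.1 a hB.2.1, hp.1.1, hp.2.1.1⟩⟩
  · rw [← cnt Γ ha (hΓ a ha)]
    have E : ∀ c ∈ Γ \ (fixedBy Ω w ∪ {a, w • a}), E4 Γ a (w • a) c (w • c) := fun c hc => by
      have k := hc.2
      simp only [Set.mem_union, mem_fixedBy, Set.mem_insert_iff, Set.mem_singleton_iff, not_or] at k
      exact ⟨⟨wa.symm, Ne.symm k.2.1, fun e => k.2.2 (by rw [e, hw c hc.1]), Ne.symm k.2.2,
        fun e => k.2.1 ((smul_left_cancel_iff w).1 e).symm, Ne.symm k.1⟩, ha, hΓ a ha, hc.1, hΓ c hc.1⟩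
    refine fib (Set.toFinite _) (Set.toFinite _) (fun c => f a (w • a) c (w • c)) (fun c hc => ?_)
      fun B hB => ?_
    · obtain ⟨k1, k2⟩ := h1 _ _ _ _ (E c hc)
      have k3 := h.inv eq k1 k2 (by rw [hw a ha, hw c hc.1]; exact k2.s12.s34)
      exact ⟨k1, k2.ha, k3, h3 _ k1 k2.ha k3⟩
    · rw [← he B hB.1 hB.2.1 hB.2.2.1 hB.2.2.2, ← h.card B hB.1, ← cnt B hB.2.1 (hB.2.2.1 a hB.2.1)]
      congr 1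
      ext c
      refine ⟨fun ⟨hc, e⟩ => ⟨e ▸ (h1 _ _ _ _ (E c hc)).2.hc, hc.2⟩, fun hc => ?_⟩
      have k1 : c ∈ Γ \ (fixedBy Ω w ∪ {a, w • a}) := ⟨h.sub B hB.1 hc.1, hc.2⟩
      exact ⟨k1, h2 B hB.1 _ _ _ _ ⟨(E c k1).d4, hB.2.1, hB.2.2.1 a hB.2.1, hc.1, hB.2.2.1 c hc.1⟩⟩

end Stn

end H15.FT
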