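import Cfsg.Agent.H15.FT.F2
import Cfsg.Agent.S0698
import Cfsg.Agent.S0699

/-! Image groups, Hall's theorem and the theorems of Jordan and Wagner in relative form. -/

set_option autoImplicit false

namespace H15.FT
open MulAction Subgroup H19 H24 Equiv

variable {G Ω : Type*} [Group G] [MulAction G Ω]

theorem mtex (h : IsMultiplyPretransitive G Ω 4) {p q r s p' q' r' s' : Ω} (d : D4 p q r s)
    (d' : D4 p' q' r' s') : ∃ g : G, g • p = p' ∧ g • q = q' ∧ g • r = r' ∧ g • s = s' :=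
  H17.mt_four_iff.1 h _ _ _ _ _ _ _ _ d.1 d.2 d.3 d.4 d.5 d.6 d'.1 d'.2 d'.3 d'.4 d'.5 d'.6

theorem mt_of_ex (h : ∀ {p q r s p' q' r' s' : Ω}, D4 p q r s → D4 p' q' r' s' →
    ∃ g : G, g • p = p' ∧ g • q = q' ∧ g • r = r' ∧ g • s = s') : IsMultiplyPretransitive G Ω 4 :=
  H17.mt_four_iff.2 fun _ _ _ _ _ _ _ _ a b c d e f a' b' c' d' e' f' =>
    h ⟨a, b, c, d, e, f⟩ ⟨a', b', c', d', e', f'⟩

theorem E4u {a b c d : Ω} (h : D4 a b c d) : E4 Set.univ a b c d := ⟨h, trivial, trivial, trivial, trivial⟩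

theorem T4_top (h : IsMultiplyPretransitive G Ω 4) : T4 (⊤ : Subgroup G) (Set.univ : Set Ω) :=
  ⟨fun _ _ _ _ => trivial, fun e e' => let ⟨g, r⟩ := mtex h e.d4 e'.d4; ⟨g, trivial, r⟩⟩

/-- `φ` is the map of `L` onto the group induced on `Γ` -/
structure Img (L : Subgroup G) (Γ : Set Ω) (X : Subgroup (Perm Γ)) (φ : L →* X) : Prop where
  surj : Function.Surjective φ
  act : ∀ (g : L) (x : Γ), ((φ g • x : Γ) : Ω) = (g : G) • (x : Ω)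

theorem exists_img {L : Subgroup G} {Γ : Set Ω} (hi : ∀ g ∈ L, ∀ x ∈ Γ, g • x ∈ Γ) :
    ∃ X φ, Img L Γ X φ := by
  let ψ : L →* Perm Γ :=
    { toFun := fun g => (toPerm (g : G)).subtypePerm fun x =>
        ⟨fun h => by simpa using hi _ (inv_mem g.2) _ h, hi g g.2 x⟩
      map_one' := by ext; simp
      map_mul' := fun g k => Equiv.ext fun x => Subtype.ext (mul_smul (g : G) (k : G) (x : Ω)) }
  exact ⟨ψ.range, ψ.rangeRestrict, ψ.rangeRestrict_surjective, fun g x => rfl⟩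

theorem D4_coe {Γ : Set Ω} {a b c d : Γ} : D4 (a : Ω) b c d ↔ D4 a b c d :=
  have v := @Subtype.coe_ne_coe _ (· ∈ Γ)
  ⟨fun h => ⟨v.1 h.1, v.1 h.2, v.1 h.3, v.1 h.4, v.1 h.5, v.1 h.6⟩,
    fun h => ⟨v.2 h.1, v.2 h.2, v.2 h.3, v.2 h.4, v.2 h.5, v.2 h.6⟩⟩

theorem E4_coe {Γ : Set Ω} {a b c d : Γ} (h : D4 a b c d) : E4 Γ (a : Ω) b c d :=
  ⟨D4_coe.2 h, a.2, b.2, c.2, d.2⟩

theorem E4.lift {Γ : Set Ω} {a b c d : Ω} (h : E4 Γ a b c d) :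
    D4 (⟨a, h.ha⟩ : Γ) ⟨b, h.hb⟩ ⟨c, h.hc⟩ ⟨d, h.hd⟩ := D4_coe.1 h.d4

theorem ncard_coe {Γ : Set Ω} {s : Set Γ} {t : Set Ω} (h : ∀ x : Γ, x ∈ s ↔ (x : Ω) ∈ t) :
    s.ncard = (Γ ∩ t).ncard := by
  rw [← Set.ncard_image_of_injective s Subtype.val_injective]
  congr 1
  ext x
  exact ⟨by rintro ⟨y, hy, rfl⟩; exact ⟨y.2, (h y).1 hy⟩, fun hx => ⟨⟨x, hx.1⟩, (h _).2 hx.2, rfl⟩⟩

/-- `k`-transitivity of `L` on `Γ` -/
def MT (k : ℕ) (L : Subgroup G) (Γ : Set Ω) : Prop :=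
  ∀ x y : Fin k → Ω, Function.Injective x → Function.Injective y → (∀ i, x i ∈ Γ) → (∀ i, y i ∈ Γ) →
    ∃ g ∈ L, ∀ i, g • x i = y i

namespace Img
variable {L E : Subgroup G} {Γ : Set Ω} {X : Subgroup (Perm Γ)} {φ : L →* X} (h : Img L Γ X φ)
include h

theorem smul_eq {g : L} {x y : Γ} : φ g • x = y ↔ (g : G) • (x : Ω) = y := by
  rw [Subtype.ext_iff, h.act]

theorem eq_one {g : L} : φ g = 1 ↔ ∀ x ∈ Γ, (g : G) • x = x :=
  ⟨fun e x hx => (h.smul_eq (x := ⟨x, hx⟩) (y := ⟨x, hx⟩)).1 (by rw [e, one_smul]),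
    fun e => Subtype.ext (Equiv.ext fun x => h.smul_eq.2 (e x x.2))⟩

theorem mem_St4 {g : L} {a b c d : Γ} : φ g ∈ St4 X a b c d ↔ (g : G) ∈ St4 G (a : Ω) b c d := by
  simp only [H24.mem_St4, h.smul_eq]

theorem mem_St3 {g : L} {a b c : Γ} : φ g ∈ St3 X a b c ↔ (g : G) ∈ St3 G (a : Ω) b c := by
  simp only [FT.mem_St3, h.smul_eq]

theorem im_St4 (a b c d : Γ) : im φ (St4 G (a : Ω) b c d) = St4 X a b c d := by
  ext y
  obtain ⟨g, rfl⟩ := h.surj y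
  exact ⟨fun ⟨k, hk, e⟩ => e ▸ h.mem_St4.2 hk, fun e => ⟨g, h.mem_St4.1 e, rfl⟩⟩

theorem ncard_fb (g : L) : (fixedBy Γ (φ g)).ncard = (Γ ∩ fixedBy Ω (g : G)).ncard :=
  ncard_coe fun _ => h.smul_eq

theorem mem_Fx_im {S : Subgroup G} (hS : S ≤ L) {x : Γ} : x ∈ Fx Γ (im φ S) ↔ (x : Ω) ∈ Fx Ω S := by
  simp only [mem_Fx]
  exact ⟨fun e g hg => (h.smul_eq (g := ⟨g, hS hg⟩)).1 (e _ (mem_im_of hg)), by
    rintro e _ ⟨g, hg, rfl⟩; exact h.smul_eq.2 (e g hg)⟩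

theorem mt_iff {k : ℕ} : IsMultiplyPretransitive (im φ E) Γ k ↔ MT k (E ⊓ L) Γ := by
  rw [H17.mt_iff]
  refine ⟨fun H x y hx hy mx my => ?_, fun H x y hx hy => ?_⟩
  · obtain ⟨⟨_, g, hg, rfl⟩, e⟩ := H (fun i => ⟨x i, mx i⟩) (fun i => ⟨y i, my i⟩)
      (fun i j e => hx (congrArg Subtype.val e)) (fun i j e => hy (congrArg Subtype.val e))
    exact ⟨g, ⟨hg, g.2⟩, fun i => h.smul_eq.1 (e i)⟩
  · obtain ⟨g, hg, e⟩ := H (fun i => x i) (fun i => y i) (Subtype.val_injective.comp hx)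
      (Subtype.val_injective.comp hy) (fun i => (x i).2) (fun i => (y i).2)
    exact ⟨⟨φ ⟨g, hg.2⟩, mem_im_of hg.1⟩, fun i => h.smul_eq.2 (e i)⟩

theorem mt {k : ℕ} (H : MT k L Γ) : IsMultiplyPretransitive X Γ k :=
  H17.mt_iff.2 fun x y hx hy => by
    obtain ⟨g, hg, e⟩ := H (fun i => x i) (fun i => y i) (Subtype.val_injective.comp hx)
      (Subtype.val_injective.comp hy) (fun i => (x i).2) (fun i => (y i).2)
    exact ⟨φ ⟨g, hg⟩, fun i => h.smul_eq.2 (e i)⟩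

theorem normal (hE : E ⊴ L) : (im φ E).Normal := ⟨by
  rintro _ ⟨e, he, rfl⟩ g
  obtain ⟨g, rfl⟩ := h.surj g
  exact ⟨g * e * g⁻¹, hE.conj_mem g.2 he, by simp⟩⟩

theorem ne_bot (hE : E ≤ L) (hn : ∃ g ∈ E, ∃ x ∈ Γ, g • x ≠ x) : im φ E ≠ ⊥ := fun e => by
  obtain ⟨g, hg, x, hx, k⟩ := hn
  exact k (h.eq_one.1 (mem_bot.1 (e ▸ mem_im_of (x := ⟨g, hE hg⟩) hg)) x hx)

end Img

theorem T4.mt {L : Subgroup G} {Γ : Set Ω} (h : T4 L Γ) : MT 4 L Γ := fun x y hx hy mx my => by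
  obtain ⟨g, hg, e0, e1, e2, e3⟩ := h.ex (a := x 0) (b := x 1) (c := x 2) (d := x 3)
    (a' := y 0) (b' := y 1) (c' := y 2) (d' := y 3)
    ⟨by constructor <;> simp [hx.eq_iff], mx _, mx _, mx _, mx _⟩
    ⟨by constructor <;> simp [hy.eq_iff], my _, my _, my _, my _⟩
  exact ⟨g, hg, fun i => by fin_cases i <;> assumption⟩

theorem MT.ex3 {L : Subgroup G} {Γ : Set Ω} (h : MT 3 L Γ) {a b c a' b' c' : Ω} (ab : a ≠ b)
    (ac : a ≠ c) (bc : b ≠ c) (ab' : a' ≠ b') (ac' : a' ≠ c') (bc' : b' ≠ c') (ha : a ∈ Γ)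
    (hb : b ∈ Γ) (hc : c ∈ Γ) (ha' : a' ∈ Γ) (hb' : b' ∈ Γ) (hc' : c' ∈ Γ) :
    ∃ g ∈ L, g • a = a' ∧ g • b = b' ∧ g • c = c' := by
  obtain ⟨g, hg, e⟩ := h ![a, b, c] ![a', b', c'] (H17.inj3 ab ac bc) (H17.inj3 ab' ac' bc')
    (fun i => by fin_cases i <;> assumption) (fun i => by fin_cases i <;> assumption)
  exact ⟨g, hg, e 0, e 1, e 2⟩

theorem MT.t4 {L : Subgroup G} {Γ : Set Ω} (h : MT 4 L Γ) (hi : ∀ g ∈ L, ∀ x ∈ Γ, g • x ∈ Γ) :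
    T4 L Γ := ⟨hi, fun {a b c d a' b' c' d'} e e' => by
  obtain ⟨g, hg, k⟩ := h ![a, b, c, d] ![a', b', c', d']
    (H17.inj4 e.1.1 e.1.2 e.1.3 e.1.4 e.1.5 e.1.6) (H17.inj4 e'.1.1 e'.1.2 e'.1.3 e'.1.4 e'.1.5 e'.1.6)
    (fun i => by fin_cases i; exacts [e.ha, e.hb, e.hc, e.hd])
    (fun i => by fin_cases i; exacts [e'.ha, e'.hb, e'.hc, e'.hd])
  exact ⟨g, hg, k 0, k 1, k 2, k 3⟩⟩

variable [Finite Ω] {L E : Subgroup G} {Γ : Set Ω}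

omit [Finite Ω] in
theorem stab_inv (hi : ∀ g ∈ L, ∀ x ∈ Γ, g • x ∈ Γ) (a : Ω) :
    ∀ g ∈ L ⊓ stabilizer G a, ∀ x ∈ Γ \ {a}, g • x ∈ Γ \ {a} := fun g hg x hx =>
  ⟨hi g hg.1 x hx.1, fun e => hx.2 ((smul_left_cancel_iff g).1 (e.trans hg.2.symm))⟩

/-- Jordan and Wagner: normal subgroups of 4-transitive groups of even degree -/
theorem JW (h : T4 L Γ) (h6 : 6 ≤ Γ.ncard) (h2 : Even Γ.ncard) (hE : E ⊴ L)
    (hn : ∃ g ∈ E, ∃ x ∈ Γ, g • x ≠ x) : T4 E Γ := by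
  classical
  have := Fintype.ofFinite Γ
  have hc : Fintype.card Γ = Γ.ncard := by rw [← Nat.card_coe_set_eq, Nat.card_eq_fintype_card]
  obtain ⟨X, φ, I⟩ := exists_img h.inv
  have := I.normal hE
  have m3 : MT 3 E Γ := by
    have := (Cfsg.Agent.S0698.result X (k := 4) (by omega) (by omega) (I.mt h.mt) (im φ E)
      (I.ne_bot hE.le hn)).resolve_right (by omega)
    rwa [I.mt_iff, inf_eq_left.2 hE.le] at this
  have k : ∀ a ∈ Γ, MT 3 (E ⊓ stabilizer G a) (Γ \ {a}) := fun a ha => by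
    have := Fintype.ofFinite ↥(Γ \ {a})
    have hc : Fintype.card ↥(Γ \ {a}) = Γ.ncard - 1 := by
      rw [← Set.ncard_diff_singleton_of_mem ha, ← Nat.card_coe_set_eq, Nat.card_eq_fintype_card]
    obtain ⟨X, φ, I⟩ := exists_img (stab_inv h.inv a)
    have n : E ⊓ stabilizer G a ⊴ L ⊓ stabilizer G a := ⟨inf_le_inf_right _ hE.le,
      norms_inf (inf_le_left.trans hE.norm) (norms_of_le inf_le_right)⟩
    have := I.normal n
    obtain ⟨b, c, d, e⟩ := ex4_1 (by omega) ha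
    have := Cfsg.Agent.S0699.result X (by rw [hc]; obtain ⟨m, hm⟩ := h2; exact ⟨m - 1, by omega⟩)
      (by omega) (I.mt fun x y hx hy mx my => by
        obtain ⟨g, hg, e, e0, e1, e2⟩ := h.ex (a := a) (b := x 0) (c := x 1) (d := x 2)
          (a' := a) (b' := y 0) (c' := y 1) (d' := y 2)
          ⟨⟨Ne.symm (mx 0).2, Ne.symm (mx 1).2, Ne.symm (mx 2).2, by simp [hx.eq_iff],
            by simp [hx.eq_iff], by simp [hx.eq_iff]⟩, ha, (mx _).1, (mx _).1, (mx _).1⟩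
          ⟨⟨Ne.symm (my 0).2, Ne.symm (my 1).2, Ne.symm (my 2).2, by simp [hy.eq_iff],
            by simp [hy.eq_iff], by simp [hy.eq_iff]⟩, ha, (my _).1, (my _).1, (my _).1⟩
        exact ⟨g, ⟨hg, e⟩, fun i => by fin_cases i <;> assumption⟩) (im φ (E ⊓ stabilizer G a))
      (I.ne_bot n.le (by
        obtain ⟨g, hg, e1, e2, e3⟩ := m3.ex3 e.1.ab e.1.ac e.1.bc e.1.ac e.1.ab e.1.bc.symm ha e.hb
          e.hc ha e.hc e.hb
        exact ⟨g, ⟨hg, e1⟩, b, ⟨e.hb, e.1.ab.symm⟩, e2 ▸ e.1.bc.symm⟩))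
    rwa [I.mt_iff, inf_eq_left.2 n.le] at this
  refine ⟨fun g hg => h.inv g (hE.le hg), fun {a b c d a' b' c' d'} e e' => ?_⟩
  obtain ⟨g, hg, e1, -⟩ := m3.ex3 e.1.ab e.1.ac e.1.bc e'.1.ab e'.1.ac e'.1.bc e.ha e.hb e.hc e'.ha
    e'.hb e'.hc
  have d := D4_smul e.d4 g
  rw [e1] at d
  have i := h.inv g (hE.le hg)
  obtain ⟨k, hk, k1, k2, k3⟩ := (k a' e'.ha).ex3 d.bc d.bd d.cd e'.1.bc e'.1.bd e'.1.cd
    ⟨i _ e.hb, d.ab.symm⟩ ⟨i _ e.hc, d.ac.symm⟩ ⟨i _ e.hd, d.ad.symm⟩ ⟨e'.hb, e'.1.ab.symm⟩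
    ⟨e'.hc, e'.1.ac.symm⟩ ⟨e'.hd, e'.1.ad.symm⟩
  exact ⟨k * g, mul_mem hk.1 hg, by rw [mul_smul, e1]; exact hk.2, by rwa [mul_smul],
    by rwa [mul_smul], by rwa [mul_smul]⟩

/-- the hypothesis of M. Hall's theorem for the group induced by `L` on `Γ` -/
structure HL (L : Subgroup G) (Γ : Set Ω) : Prop where
  t4 : T4 L Γ
  one : ∀ g ∈ L, (∀ x ∈ Γ, g • g • x = x) → ∀ a b c d, E4 Γ a b c d → g ∈ St4 G a b c d →
    ∀ x ∈ Γ, g • x = x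

namespace HL
variable (h : HL L Γ)
include h

omit [Finite Ω] in
theorem h4 {X : Subgroup (Perm Γ)} {φ : L →* X} (I : Img L Γ X φ) : H4 X Γ :=
  ⟨I.mt h.t4.mt, fun t p q r s d tt ht => by
    obtain ⟨g, rfl⟩ := I.surj t
    refine I.eq_one.2 (h.one g g.2 (fun x hx => ?_) p q r s (E4_coe d) (I.mem_St4.1 ht))
    rw [← map_mul, I.eq_one] at tt
    rw [smul_smul]; exact tt x hx⟩

theorem hall (h4 : 4 ≤ Γ.ncard) {X : Subgroup (Perm Γ)} {φ : L →* X} (I : Img L Γ X φ) :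
    (Γ.ncard = 4 ∨ Γ.ncard = 5 ∨ Γ.ncard = 6 ∨ Γ.ncard = 7 ∨ Γ.ncard = 11) ∧
    (6 ≤ Γ.ncard → IsSimpleGroup X) ∧ ∀ a b c d : Γ, D4 a b c d →
      #(St4 X a b c d) = if Γ.ncard = 7 then 3 else 1 := by
  classical
  have := Fintype.ofFinite Γ
  have hc : Fintype.card Γ = Γ.ncard := by rw [← Nat.card_coe_set_eq, Nat.card_eq_fintype_card]
  have H := h.h4 I
  have k : ∀ a b c d : Γ, D4 a b c d → Nat.card X = Γ.ncard.descFactorial 4 * #(St4 X a b c d) :=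
    fun a b c d e => by
      rw [index_fix H.mt (D4_card e), Nat.card_coe_set_eq]
      congr 3
      ext g; simp [mem_St4, H17.mem_fix_iff]
  have hp : Nat.card (Perm Γ) = Γ.ncard.factorial := by rw [Nat.card_perm, Nat.card_coe_set_eq]
  rcases H.hall (by omega) with ⟨h1, e⟩ | ⟨h1, e⟩ | ⟨h1, e⟩
  · refine ⟨by omega, by omega, fun a b c d D => ?_⟩
    have := k a b c d D
    rw [show Nat.card X = Γ.ncard.factorial by rw [e, card_top, hp]] at this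
    rcases h1 with h1 | h1 <;> rw [hc] at h1 <;> rw [h1] at this ⊢ <;>
      simp [Nat.factorial, Nat.descFactorial] at this ⊢ <;> omega
  · refine ⟨by omega, fun _ => e ▸ alternatingGroup.isSimpleGroup (by rw [Nat.card_coe_set_eq]; omega),
      fun a b c d D => ?_⟩
    have := k a b c d D
    haveI nt : Nontrivial Γ := Fintype.one_lt_card_iff_nontrivial.1 (by omega)
    have k2 : 2 * Nat.card X = Γ.ncard.factorial := by rw [e, two_mul_nat_card_alternatingGroup, hp]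
    rcases h1 with h1 | h1 <;> rw [hc] at h1 <;> rw [h1] at this k2 ⊢ <;>
      simp [Nat.factorial, Nat.descFactorial] at this k2 ⊢ <;> omega
  · have k2 : ∀ a b c d : Γ, D4 a b c d → #(St4 X a b c d) = 1 := fun a b c d D => by
      have := k a b c d D
      rw [e, ← hc, h1] at this
      simp [Nat.descFactorial] at this ⊢; omega
    refine ⟨by omega, fun _ => (Sh.m11 ⟨H.mt, H17.sharp_four_iff.2 fun g a b c d a1 a2 a3 a4 a5 a6 b1 b2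
      b3 b4 => ?_⟩ (by rw [Nat.card_coe_set_eq]; omega)).1, fun a b c d D => ?_⟩
    · exact mem_bot.1 (card_eq_one.1 (k2 a b c d ⟨a1, a2, a3, a4, a5, a6⟩) ▸ mem_St4.2 ⟨b1, b2, b3, b4⟩)
    · rw [k2 a b c d D, if_neg (by omega)]

theorem card (h4 : 4 ≤ Γ.ncard) :
    Γ.ncard = 4 ∨ Γ.ncard = 5 ∨ Γ.ncard = 6 ∨ Γ.ncard = 7 ∨ Γ.ncard = 11 :=
  let ⟨_, _, I⟩ := exists_img h.t4.inv; (h.hall h4 I).1

theorem sharp (h7 : Γ.ncard ≠ 7) {a b c d : Ω} (e : E4 Γ a b c d) {g : G} (hg : g ∈ L)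
    (h1 : g ∈ St4 G a b c d) : ∀ x ∈ Γ, g • x = x := by
  obtain ⟨X, φ, I⟩ := exists_img h.t4.inv
  have := (h.hall e.le I).2.2 _ _ _ _ e.lift
  rw [if_neg h7] at this
  exact (I.eq_one (g := ⟨g, hg⟩)).1 (mem_bot.1 (card_eq_one.1 this ▸ I.mem_St4.2 h1))

theorem seven [Finite G] (h7 : Γ.ncard = 7) {a b c d : Ω} (e : E4 Γ a b c d) :
    3 ∣ #(L ⊓ St4 G a b c d) := by
  obtain ⟨X, φ, I⟩ := exists_img h.t4.inv
  have := (h.hall e.le I).2.2 _ _ _ _ e.lift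
  rw [if_pos h7, ← I.im_St4, ← im_inf_dom, inf_comm] at this
  exact this ▸ card_im_dvd _ _

theorem norm (h6 : 6 ≤ Γ.ncard) (hE : E ⊴ L) (hn : ∃ g ∈ E, ∃ x ∈ Γ, g • x ≠ x) {l : G} (hl : l ∈ L) :
    ∃ e ∈ E, ∀ x ∈ Γ, e • x = l • x := by
  obtain ⟨X, φ, I⟩ := exists_img h.t4.inv
  have := (h.hall (by omega) I).2.1 h6
  have k := (IsSimpleGroup.eq_bot_or_eq_top_of_normal _ (I.normal hE)).resolve_left (I.ne_bot hE.le hn)
  obtain ⟨e, he, k⟩ : φ ⟨l, hl⟩ ∈ im φ E := k ▸ mem_top _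
  exact ⟨e, he, fun x hx => by rw [← I.act e ⟨x, hx⟩, k, I.act]⟩

theorem fix {g : G} (hg : g ∈ L) (g2 : ∀ x ∈ Γ, g • g • x = x) {y : Ω} (hy : y ∈ Γ) (gy : g • y ≠ y) :
    (Γ ∩ fixedBy Ω g).ncard ≤ 3 ∧ (6 ≤ Γ.ncard → 2 ≤ (Γ ∩ fixedBy Ω g).ncard) := by
  obtain ⟨X, φ, I⟩ := exists_img h.t4.inv
  have H := h.h4 I
  have k1 : φ ⟨g, hg⟩ * φ ⟨g, hg⟩ = 1 := by
    rw [← map_mul, I.eq_one]; intro x hx; exact (mul_smul g g x).trans (g2 x hx)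
  have k2 : φ ⟨g, hg⟩ • (⟨y, hy⟩ : Γ) ≠ ⟨y, hy⟩ := mt I.smul_eq.1 gy
  rw [← I.ncard_fb ⟨g, hg⟩]
  refine ⟨H.fix_le k1 (by rintro e; rw [e] at k2; simp at k2), fun h6 => ?_⟩
  obtain ⟨a, b, c, d, e⟩ := ex4 (Γ := Γ) (by omega)
  obtain ⟨s, -, s2, -, -, s3, -, s4, s5, -⟩ := H.exists_pair e.lift
  rw [(H.conj_inv (by rwa [Nat.card_coe_set_eq]) k1 s2 k2 (s3 ▸ e.lift.ab.symm)).1]
  exact (Set.one_lt_ncard (Set.toFinite _)).2 ⟨_, s4, _, s5, e.lift.cd⟩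

end HL

end H15.FT
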