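import Cfsg.Agent.H15.FT.F3
import Cfsg.Agent.S0035
import Cfsg.Agent.S0039
import Cfsg.Agent.S0042

/-! Frobenius groups; the standing hypothesis; blocks. -/

set_option autoImplicit false

namespace H15.FT
open MulAction Subgroup H19 H24 Equiv

variable {G Ω : Type*} [Group G] [Finite G]

theorem fitm {H : Subgroup G} {k : G} (hk : k ∈ Fit H) : k ∈ H := Fit_le H hk

omit [Finite G] in
theorem ocm {π : Set ℕ} {H : Subgroup G} {k : G} (hk : k ∈ Oc π H) : k ∈ H := Oc_le π H hk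

/-- `H` is a Frobenius group with kernel `F(H)` -/
structure Fr (H : Subgroup G) : Prop where
  ne : Fit H ≠ ⊥
  nt : Fit H ≠ H
  f : ∀ h ∈ H, h ∉ Fit H → ∀ k ∈ Fit H, h * k = k * h → k = 1

theorem Fr.of {H K : Subgroup G} (n : K ⊴ H) (nil : Nil K) (h1 : K ≠ ⊥) (h2 : K ≠ H)
    (f : ∀ h ∈ H, h ∉ K → ∀ k ∈ K, h * k = k * h → k = 1) : Fr H ∧ Fit H = K := by
  have e : Fit H = K := le_antisymm (fun h hh => by
    by_contra hn
    obtain ⟨k, hk, k1⟩ := exists_ne_one (nil_meet_center (Fit_nil H)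
      (n.of_le (le_Fit n nil) (Fit_le H)) h1)
    exact k1 (f h (Fit_le H hh) hn k hk.1 (mem_cent.1 hk.2 h hh))) (le_Fit n nil)
  exact ⟨⟨e ▸ h1, e ▸ h2, e ▸ f⟩, e⟩

theorem Fr.of_compl {H : Subgroup G} {E : Subgroup H} (hE : Cfsg.IsFrobeniusComplement E) : Fr H := by
  obtain ⟨N, h1, hn, h2⟩ := Cfsg.Agent.S0035.result E hE
  obtain ⟨N', h3, -, h4⟩ := Cfsg.Agent.S0042.result E hE
  obtain rfl : N' = N := SetLike.coe_injective (h3.trans h1.symm)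
  have n1 : N' ≠ ⊥ := by rintro rfl; exact hE.2.1 (isComplement'_bot_left.1 h2)
  have n2 : N' ≠ ⊤ := by rintro rfl; exact hE.1 (isComplement'_top_left.1 h2)
  have k := (Cfsg.Agent.S0039.result N' E h2 n1 hE.1).1 hE
  refine (Fr.of (normalIn_map_subtype N') (Group.nilpotent_of_mulEquiv
    (equivMapOfInjective N' H.subtype H.subtype_injective)) (fun e => n1 ?_) (fun e => n2 ?_) ?_).1
  · exact (map_eq_bot_iff_of_injective _ H.subtype_injective).1 e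
  · exact map_injective H.subtype_injective (by rw [e, ← MonoidHom.range_eq_map, range_subtype])
  · rintro x hx h5 _ ⟨y, hy, rfl⟩ c
    have h6 : (⟨x, hx⟩ : H) ∉ Cfsg.frobeniusKernel E := fun e => h5 ⟨_, h1 ▸ e, rfl⟩
    simp only [Cfsg.frobeniusKernel, Set.mem_setOf_eq, not_or, not_forall, not_not] at h6
    obtain ⟨h6, g, e, he, h7⟩ := h6
    have h7 : g * e * g⁻¹ = ⟨x, hx⟩ := h7
    have c' : (⟨x, hx⟩ : H) * y = y * ⟨x, hx⟩ := Subtype.ext c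
    have : g⁻¹ * y * g ∈ N' ⊓ centralizer {e} := ⟨hn.conj_mem' y hy g, mem_cent1.2 (by
      calc g⁻¹ * y * g * e = g⁻¹ * (y * (g * e * g⁻¹)) * g := by group
        _ = _ := by rw [h7, ← c', ← h7]; group)⟩
    rw [k e he (by rintro rfl; exact h6 (by rw [← h7]; simp))] at this
    have h8 : g⁻¹ * y * g = 1 := this
    rw [show y = 1 by simpa [mul_assoc] using congrArg (fun z => g * z * g⁻¹) h8]; rfl

namespace Fr
variable {H : Subgroup G} (h : Fr H)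
include h

omit [Finite G] in
theorem cent {x k : G} (hx : x ∈ H) (hk : k ∈ Fit H) (k1 : k ≠ 1) (c : x * k = k * x) : x ∈ Fit H :=
  by_contra fun e => k1 (h.f x hx e k hk c)

theorem J (g : G) : Fr (cj g H) := by
  refine ⟨by rw [← cj_Fit]; simpa using h.ne, by rw [← cj_Fit]; simpa using h.nt, ?_⟩
  rw [← cj_Fit]
  intro x hx h1 k hk c
  obtain ⟨x, hx', rfl⟩ := mem_cj'.1 hx
  obtain ⟨k, hk', rfl⟩ := mem_cj'.1 hk
  rw [h.f x hx' (mt conj_mem_cj.2 h1) k hk' (by simpa [conj_mul] using c)]; simp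

theorem memO {p : ℕ} (hp : p.Prime) (hd : p ∣ #(Fit H)) {x : G} (hx : x ∈ H) (xp : PiE {p} x) :
    x ∈ Oc {p} H := by
  have z := piG_zpowers.2 xp
  refine zpowers_le.1 (z.le_Oc_of_le_Fit (zpowers_le.2 (by_contra fun e => ?_)))
  obtain ⟨k, hk, k1⟩ := exists_ne_one ((Oc_pi {p} H).meet_cent z
    ((zpowers_le.2 hx).trans (Oc_norm _ _)) ((Oc_Fit_syl p H).sne_bot hp hd))
  exact k1 (h.f x hx e k (Oc_le_Fit p H hk.1) (mem_cent.1 hk.2 x (mem_zpowers x)))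

theorem hall : Hall (primes #(Fit H)) (Fit H) H :=
  hall_of_syl (Fit_le H) piN_primes fun p hp hm _ =>
    let ⟨P, hP⟩ := exists_syl p H
    ⟨P, hP, fun _ hx => Oc_le_Fit p H (h.memO hp hm.2 (hP.le hx) (hP.pi.elt hx))⟩

theorem hallO {π : Set ℕ} (hπ : π ⊆ primes #(Fit H)) : Hall π (Oc π H) H ∧ Oc π H ≤ Fit H := by
  have k := h.hall.sub hπ (nil_Oc_hall (Fit_nil H) π)
  have n := ((Fit_normal H).Oc π).norm
  exact ⟨k.Oc_hall n, k.eq_Oc n ▸ Oc_le _ _⟩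

theorem eqO : Oc (primes #(Fit H)) H = Fit H := (h.hall.eq_Oc (Fit_norm H)).symm

/-- fixed-point-free action on sections of the kernel -/
theorem quo {U : Subgroup G} {x k : G} (hx : x ∈ H) (h1 : x ∉ Fit H) (hU : U ≤ Fit H) (hn : x ∈ N(U))
    (hk : k ∈ Fit H) (e : k⁻¹ * (x * k * x⁻¹) ∈ U) : k ∈ U :=
  fpf_quo hU hn (h.f x hx h1) hk e

theorem dich {N : Subgroup G} (n : N ⊴ H) : N ≤ Fit H ∨ Fit H ≤ N := by
  refine or_iff_not_imp_left.2 fun e k hk => ?_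
  obtain ⟨x, hx, h1⟩ := SetLike.not_le_iff_exists.1 e
  have hH := n.le hx
  refine (h.quo (U := N ⊓ Fit H) hH h1 inf_le_right ((n.inf (Fit_normal H)).norm hH) hk (mem_inf.2 ⟨?_,
    mul_mem (inv_mem hk) ((Fit_normal H).conj_mem hH hk)⟩)).1
  have := mul_mem (n.conj_mem (inv_mem (fitm hk)) hx) (inv_mem hx)
  simpa [mul_assoc] using this

theorem img {X : Type*} [Group X] [Finite X] {L : Subgroup G} (φ : L →* X) (hL : H ≤ L)
    (hn : ¬ Fit H ≤ pre φ ⊥) : Fr (im φ H) ∧ Fit (im φ H) = im φ (Fit H) := by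
  have hK := (Fit_le H).trans hL
  have n : pre φ ⊥ ⊓ H ⊴ H := inf_normal_of_norm (norms_pre hL (by rw [norm_bot]; exact le_top))
  have l := (h.dich n).resolve_right fun e => hn (e.trans inf_le_left)
  have key : ∀ x : L, (x : G) ∈ H → φ x ∈ im φ (Fit H) → (x : G) ∈ Fit H := by
    rintro x hx ⟨k, hk, e⟩
    have : (k : G)⁻¹ * x ∈ Fit H := l (mem_inf.2 ⟨(coe_mem_pre (x := k⁻¹ * x)).2 (by simp [e]),
      mul_mem (inv_mem (fitm hk)) hx⟩)
    exact (mul_mem_cancel_left (inv_mem hk)).1 this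
  refine Fr.of ((Fit_normal H).im φ) (nil_im (Fit_nil H) φ)
    (fun e => hn ((im_le_iff hK).1 e.le)) (fun e => h.nt (le_antisymm (Fit_le H) fun x hx =>
      key ⟨x, hL hx⟩ hx (e ▸ mem_im_of hx))) ?_
  rintro _ ⟨x, hx, rfl⟩ h1 _ ⟨k, hk, rfl⟩ c
  have := h.quo hx (fun e => h1 (mem_im_of e)) l (n.norm hx) hk (mem_inf.2 ⟨(coe_mem_pre
    (x := k⁻¹ * (x * k * x⁻¹))).2 (by simp [c]),
    mul_mem (inv_mem (fitm hk)) (mul_mem (mul_mem hx (fitm hk)) (inv_mem hx))⟩)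
  exact coe_mem_pre.1 this.1

end Fr

variable [MulAction G Ω]

variable (G Ω) in
/-- the standing hypothesis -/
structure Hy : Prop where
  ff : ∀ g : G, (∀ x : Ω, g • x = x) → g = 1
  mt : IsMultiplyPretransitive G Ω 4
  fr : ∀ {a b c d : Ω}, D4 a b c d → Fr (St4 G a b c d)

theorem Hy.of (ff : ∀ g : G, (∀ x : Ω, g • x = x) → g = 1) (mt : IsMultiplyPretransitive G Ω 4)
    {a b c d : Ω} (D : D4 a b c d) (h : Fr (St4 G a b c d)) : Hy G Ω :=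
  ⟨ff, mt, fun D' => by
    obtain ⟨g, rfl, rfl, rfl, rfl⟩ := mtex mt D D'
    exact cj_St4 g a b c d ▸ h.J g⟩

omit [Finite G] in
theorem Hy.faith (h : Hy G Ω) : FaithfulSMul G Ω :=
  ⟨fun {g k} e => inv_mul_eq_one.1 (h.ff _ fun x => by rw [mul_smul, ← e, inv_smul_smul])⟩

variable (G) in
/-- `O_π` of a four point stabilizer -/
abbrev OS (π : Set ℕ) (a b c d : Ω) : Subgroup G := Oc π (St4 G a b c d)

variable (G) in
/-- the Frobenius kernel of a four point stabilizer -/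
abbrev KS (a b c d : Ω) : Subgroup G := Fit (St4 G a b c d)

omit [Finite G] in
theorem cj_OS (g : G) (π : Set ℕ) (a b c d : Ω) :
    cj g (OS G π a b c d) = OS G π (g • a) (g • b) (g • c) (g • d) := by rw [cj_Oc, cj_St4]

theorem cj_KS (g : G) (a b c d : Ω) :
    cj g (KS G a b c d) = KS G (g • a) (g • b) (g • c) (g • d) := by rw [cj_Fit, cj_St4]

omit [Finite G] in
theorem E4_OS {π : Set ℕ} {a b c d : Ω} (D : D4 a b c d) : E4 (Fx Ω (OS G π a b c d)) a b c d :=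
  E4_St D (Oc_le _ _)

variable (G Ω) in
/-- `π` is a nonempty set of primes dividing the order of the kernel -/
structure Ok (π : Set ℕ) : Prop where
  mt : IsMultiplyPretransitive G Ω 4
  hall : ∀ {a b c d : Ω}, D4 a b c d → Hall π (OS G π a b c d) (St4 G a b c d)
  leK : ∀ {a b c d : Ω}, D4 a b c d → OS G π a b c d ≤ KS G a b c d
  ne : ∀ {a b c d : Ω}, D4 a b c d → OS G π a b c d ≠ ⊥

section
variable {a b c d a' b' c' d' : Ω} {π : Set ℕ}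

omit [Finite G] in
theorem cardH (h : IsMultiplyPretransitive G Ω 4) (D : D4 a b c d) (D' : D4 a' b' c' d') :
    #(St4 G a' b' c' d') = #(St4 G a b c d) := by
  obtain ⟨g, rfl, rfl, rfl, rfl⟩ := mtex h D D'
  rw [← cj_St4, card_cj]

theorem cardK (h : IsMultiplyPretransitive G Ω 4) (D : D4 a b c d) (D' : D4 a' b' c' d') :
    #(KS G a' b' c' d') = #(KS G a b c d) := by
  obtain ⟨g, rfl, rfl, rfl, rfl⟩ := mtex h D D'
  rw [← cj_KS, card_cj]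

omit [Finite G] in
theorem cardO (h : IsMultiplyPretransitive G Ω 4) (D : D4 a b c d) (D' : D4 a' b' c' d') :
    #(OS G π a' b' c' d') = #(OS G π a b c d) := by
  obtain ⟨g, rfl, rfl, rfl, rfl⟩ := mtex h D D'
  rw [← cj_OS, card_cj]

omit [Finite G] in
theorem ncardO (h : IsMultiplyPretransitive G Ω 4) (D : D4 a b c d) (D' : D4 a' b' c' d') :
    (Fx Ω (OS G π a' b' c' d')).ncard = (Fx Ω (OS G π a b c d)).ncard := by
  obtain ⟨g, rfl, rfl, rfl, rfl⟩ := mtex h D D'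
  rw [← cj_OS, ncard_Fx_cj]

theorem Hy.ok (h : Hy G Ω) (D : D4 a b c d) (h1 : π ⊆ primes #(KS G a b c d)) {p : ℕ} (hp : p ∈ π) :
    Ok G Ω π := by
  have k : ∀ {a' b' c' d' : Ω}, D4 a' b' c' d' → π ⊆ primes #(KS G a' b' c' d') := fun D' => by
    rwa [cardK h.mt D D']
  exact ⟨h.mt, fun D => ((h.fr D).hallO (k D)).1, fun D => ((h.fr D).hallO (k D)).2, fun D =>
    ((h.fr D).hallO (k D)).1.ne_bot (k D hp).1 hp ((k D hp).2.trans (card_dvd (Fit_le _)))⟩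

theorem Hy.ok1 (h : Hy G Ω) (D : D4 a b c d) {p : ℕ} (hp : p.Prime) (h1 : p ∣ #(KS G a b c d)) :
    Ok G Ω {p} := h.ok D (by rintro _ rfl; exact ⟨hp, h1⟩) rfl

theorem Hy.okK (h : Hy G Ω) (D : D4 a b c d) : Ok G Ω (primes #(KS G a b c d)) :=
  let ⟨_, hp⟩ := exists_prime_dvd_card (h.fr D).ne; h.ok D subset_rfl hp

theorem Hy.eqK (h : Hy G Ω) (D : D4 a b c d) (D' : D4 a' b' c' d') :
    OS G (primes #(KS G a b c d)) a' b' c' d' = KS G a' b' c' d' := by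
  rw [← cardK h.mt D D']; exact (h.fr D').eqO

variable (G) in
/-- the blocks -/
def Bl (π : Set ℕ) (Γ : Set Ω) : Set (Set Ω) :=
  {B | ∃ a b c d, E4 Γ a b c d ∧ B = Fx Ω (OS G π a b c d)}

namespace Ok
variable (h : Ok G Ω π)
include h

omit [Finite G] in
theorem le (D : D4 a b c d) {S : Subgroup G} (hS : S ≤ St4 G a b c d) (hp : PiG π S) :
    S ≤ OS G π a b c d := (h.hall D).le_of_normal (Oc_norm _ _) hS hp

omit [Finite G] in
theorem mem (D : D4 a b c d) {x : G} (hS : x ∈ St4 G a b c d) (hp : PiE π x) :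
    x ∈ OS G π a b c d := (h.hall D).mem_of_normal (Oc_norm _ _) hS hp

theorem eq (D : D4 a b c d) (e : E4 (Fx Ω (OS G π a b c d)) a' b' c' d') :
    OS G π a' b' c' d' = OS G π a b c d :=
  (eq_of_le_of_card_eq (h.le e.d4 e.St (Oc_pi _ _)) (cardO h.mt e.d4 D)).symm

theorem norm (D : D4 a b c d) {g : G}
    (e : E4 (Fx Ω (OS G π a b c d)) (g • a) (g • b) (g • c) (g • d)) : g ∈ N(OS G π a b c d) :=
  mem_norm_iff_cj.2 (by rw [cj_OS, h.eq D e])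

theorem norm' (D : D4 a b c d) {g : G} (e : ∀ x ∈ Fx Ω (OS G π a b c d), g • x ∈ Fx Ω (OS G π a b c d)) :
    g ∈ N(OS G π a b c d) :=
  have E := E4_OS (G := G) (π := π) D
  h.norm D ⟨D4_smul D g, e _ E.ha, e _ E.hb, e _ E.hc, e _ E.hd⟩

theorem t4 (D : D4 a b c d) : T4 N(OS G π a b c d) (Fx Ω (OS G π a b c d)) :=
  ⟨fun _ hg _ hx => Fx_norm hg hx, fun e e' => by
    obtain ⟨g, rfl, rfl, rfl, rfl⟩ := mtex h.mt e.d4 e'.d4
    refine ⟨g, ?_, rfl, rfl, rfl, rfl⟩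
    rw [← h.eq D e] at e' ⊢
    exact h.norm e.d4 e'⟩

theorem stn (D : D4 a b c d) {Γ : Set Ω}
    (hΓ : ∀ a b c d, E4 Γ a b c d → Fx Ω (OS G π a b c d) ⊆ Γ) :
    Stn Γ (Bl G π Γ) (Fx Ω (OS G π a b c d)).ncard :=
  ⟨by rintro _ ⟨_, _, _, _, e, rfl⟩; exact hΓ _ _ _ _ e,
    by rintro _ ⟨_, _, _, _, e, rfl⟩; exact ncardO h.mt D e.d4,
    fun e => ⟨_, ⟨_, _, _, _, e, rfl⟩, E4_OS e.d4⟩, by
    rintro _ _ ⟨_, _, _, _, e, rfl⟩ ⟨_, _, _, _, e', rfl⟩ _ _ _ _ k k'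
    rw [← h.eq e.d4 k, ← h.eq e'.d4 k']⟩

theorem stnU (D : D4 a b c d) : Stn Set.univ (Bl G π (Set.univ : Set Ω)) (Fx Ω (OS G π a b c d)).ncard :=
  h.stn D fun _ _ _ _ _ => Set.subset_univ _

theorem stnS (D : D4 a b c d) {S : Subgroup G} (hS : PiG π S) :
    Stn (Fx Ω S) (Bl G π (Fx Ω S)) (Fx Ω (OS G π a b c d)).ncard :=
  h.stn D fun _ _ _ _ e => Fx_anti (h.le e.d4 e.St hS)

theorem dvd3 [Finite Ω] (D : D4 a b c d) : (Fx Ω (OS G π a b c d)).ncard - 3 ∣ Nat.card Ω - 3 := by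
  rw [← Set.ncard_univ]; exact (h.stnU D).dvd3 (E4u D).le

end Ok

omit [Finite G] in
theorem Bl_eqv {Γ : Set Ω} {w : G} (hw : ∀ x ∈ Γ, w • x ∈ Γ) :
    ∀ B ∈ Bl G π Γ, ∃ B' ∈ Bl G π Γ, ∀ x ∈ B, w • x ∈ B' := by
  rintro _ ⟨a, b, c, d, e, rfl⟩
  exact ⟨_, ⟨_, _, _, _, ⟨D4_smul e.d4 w, hw _ e.ha, hw _ e.hb, hw _ e.hc, hw _ e.hd⟩, rfl⟩,
    fun x hx => by rw [← cj_OS]; exact Fx_cj.2 hx⟩

/-- passing to the group induced on an invariant set -/
theorem Hy.img [Finite Ω] (h : Hy G Ω) {L : Subgroup G} {Γ : Set Ω} {X : Subgroup (Perm Γ)}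
    {φ : L →* X} (I : Img L Γ X φ) (t : T4 L Γ) {a b c d : Γ} (D : D4 a b c d)
    (hL : St4 G (a : Ω) b c d ≤ L) (hn : ¬ Γ ⊆ Fx Ω (KS G (a : Ω) b c d)) :
    Hy X Γ ∧ KS X a b c d = im φ (KS G (a : Ω) b c d) := by
  have := (h.fr (D4_coe.2 D)).img φ hL fun e => hn fun x hx => mem_Fx.2 fun g hg => by
    obtain ⟨k1, k2⟩ := mem_pre.1 (e hg)
    exact I.eq_one.1 k2 x hx
  rw [I.im_St4] at this
  exact ⟨Hy.of (fun g e => Subtype.ext (Equiv.ext e)) (I.mt t.mt) D this.1, this.2⟩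

end

end H15.FT
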