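import Cfsg.Agent.H15.FT.F4
import Cfsg.Agent.S0205

/-! Case A: kernel of odd order, stabilizer of even order. -/

set_option autoImplicit false
set_option linter.unusedSectionVars false

namespace H15.FT
open MulAction Subgroup H19 H24 Equiv

variable {G Ω : Type*} [Group G] [Finite G]

theorem odd_of_pi {n : ℕ} (h : PiN {2}ᶜ n) : Odd n :=
  Nat.not_even_iff_odd.1 fun e => h.not_dvd Nat.prime_two rfl e.two_dvd

theorem pi_of_odd {n : ℕ} (h : Odd n) : PiN {2}ᶜ n :=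
  PiN.of_not_dvd fun e => Nat.not_even_iff_odd.2 h (even_iff_two_dvd.2 e)

theorem one_of_odd {K : Subgroup G} (h : Odd #K) {x : G} (hx : x ∈ K) (h2 : PiE {2} x) : x = 1 :=
  h2.e_eq_one ((pi_of_odd h).elt hx)

theorem sq_le {K S : Subgroup G} (h : Odd #K) (hs : ∀ k ∈ K, k * k ∈ S) : K ≤ S := fun k hk => by
  obtain ⟨j, hj⟩ := h
  have h1 : k ^ (2 * j + 1) = 1 := orderOf_dvd_iff_pow_eq_one.1 (hj ▸ orderOf_dvd_card' hk)
  have := hs _ (pow_mem hk (j + 1))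
  rwa [← pow_add, show j + 1 + (j + 1) = 2 * j + 1 + 1 by ring, pow_succ, h1, one_mul] at this

theorem exists_inv {H : Subgroup G} (h : 2 ∣ #H) : ∃ u ∈ H, u * u = 1 ∧ u ≠ 1 := by
  obtain ⟨u, hu, e⟩ := exists_orderOf_eq_prime Nat.prime_two h
  exact ⟨u, hu, by rw [← sq, ← e, pow_orderOf_eq_one], by rintro rfl; simp at e⟩

theorem exists_inv' {H : Subgroup G} (h : PG 2 H) (h1 : H ≠ ⊥) : ∃ u ∈ H, u * u = 1 ∧ u ≠ 1 :=
  exists_inv (h.dvd_of_ne_bot h1)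

theorem even_of_inv {H : Subgroup G} {u : G} (hu : u ∈ H) (h : u * u = 1) (h1 : u ≠ 1) : Even #H :=
  Nat.not_odd_iff_even.1 fun e => h1 (one_of_odd e hu (pi2 h))

theorem comm_inv_P {P : Subgroup G} (hP : PG 2 P) (h1 : P ≠ ⊥) {u : G} (hu : PiE {2} u)
    (hn : u ∈ N(P)) : ∃ v ∈ P, v * v = 1 ∧ v ≠ 1 ∧ u * v = v * u := by
  obtain ⟨v, hv, r⟩ := exists_inv' (hP.infl _) (hP.meet_cent (piG_zpowers.2 hu) (zpowers_le.2 hn) h1)
  exact ⟨v, hv.1, r.1, r.2, mem_cent.1 hv.2 u (mem_zpowers u)⟩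

theorem comm_inv {H : Subgroup G} (h : Even #H) {u : G} (hu : PiE {2} u) (hn : u ∈ N(H)) :
    ∃ v ∈ H, v * v = 1 ∧ v ≠ 1 ∧ u * v = v * u := by
  obtain ⟨T, hT, l⟩ := (piG_zpowers.2 hu).exists_syl (le_sup_right (a := H))
  have k := hT.inf_normal (left_normal_sup (zpowers_le.2 hn))
  obtain ⟨v, hv, r⟩ := comm_inv_P k.pi (k.sne_bot Nat.prime_two h.two_dvd) hu
    (norms_inf (norms_of_le l) (zpowers_le.2 hn) (mem_zpowers u))
  exact ⟨v, hv.2, r⟩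

theorem exists_root {g : G} (h : PiE {2} g) (h1 : g * g ≠ 1) :
    ∃ n, g ^ n * g ^ n ≠ 1 ∧ g ^ n * g ^ n * (g ^ n * g ^ n) = 1 := by
  obtain ⟨k, hk⟩ := h.exists_pow (orderOf_pos g).ne'
  rw [← sq, Ne, ← orderOf_dvd_iff_pow_eq_one, hk] at h1
  obtain ⟨k, rfl⟩ : ∃ j, k = j + 2 := ⟨k - 2, by
    rcases k with _ | _ | k <;> simp_all⟩
  refine ⟨2 ^ k, ?_, ?_⟩
  · rw [← pow_add, Ne, ← orderOf_dvd_iff_pow_eq_one, hk]
    exact fun e => by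
      have := Nat.le_of_dvd (by positivity) e
      have : 0 < 2 ^ k := by positivity
      rw [pow_add] at *; omega
  · rw [← pow_add, ← pow_add, ← orderOf_dvd_iff_pow_eq_one, hk]
    exact Dvd.intro 1 (by ring)

theorem sol_odd {O : Subgroup G} (h : Odd #O) : Sol O := Cfsg.Agent.S0205.result h

/-- `Ω₁ Z O_p` -/
abbrev AO (p : ℕ) (O : Subgroup G) : Subgroup G := Ohm1 p Z(Oc {p} O)

theorem cj_AO (g : G) (p : ℕ) (O : Subgroup G) : cj g (AO p O) = AO p (cj g O) := by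
  rw [cj_Ohm1, cj_inf, cj_cent, cj_Oc]

theorem AO_norm (p : ℕ) (O : Subgroup G) : N(O) ≤ N(AO p O) :=
  norm_le_norm_of_equivariant (AO p) (fun g H => cj_AO g p H) O

theorem AO_le (p : ℕ) (O : Subgroup G) : AO p O ≤ O :=
  (Ohm1_le _ _).trans (inf_le_left.trans (Oc_le _ _))

theorem AO_ab (p : ℕ) (O : Subgroup G) : Abelem p (AO p O) := abelem_Ohm1_center _ _

theorem exists_AO {O : Subgroup G} (h : Sol O) (h1 : O ≠ ⊥) : ∃ p, p.Prime ∧ AO p O ≠ ⊥ :=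
  let ⟨p, hp, k⟩ := exists_Oc_ne_bot h h1; ⟨p, hp, (Oc_pi _ _).Ohm1_center_ne_bot k⟩

theorem exists_AO' {O : Subgroup G} (h : Odd #O) (h1 : O ≠ ⊥) : ∃ p, p.Prime ∧ p ≠ 2 ∧ AO p O ≠ ⊥ := by
  obtain ⟨p, hp, k⟩ := exists_AO (sol_odd h) h1
  exact ⟨p, hp, odd_prime_ne_two h (((abelem_pg hp (AO_ab p O)).dvd_of_ne_bot k).trans
    (card_dvd (AO_le p O))), k⟩

omit [Finite G] in
theorem cent_of_inv {A : Subgroup G} {u v : G} (hu : ∀ a ∈ A, u * a * u⁻¹ = a⁻¹)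
    (hv : ∀ a ∈ A, v * a * v⁻¹ = a⁻¹) : u * v ∈ C(A) := mem_cent.2 fun a ha => by
  calc a * (u * v) = (u * a⁻¹ * u⁻¹) * (u * v) := by rw [hu _ (inv_mem ha), inv_inv]
    _ = u * (v * a * v⁻¹) * v := by rw [hv a ha]; group
    _ = _ := by group

variable [MulAction G Ω]

omit [Finite G] in
theorem two_pts [Finite Ω] {B : Set Ω} {a b c d : Ω} (e : E4 B a b c d) (h : B.ncard = 6) :
    ∃ y z, y ≠ z ∧ E4 B a b y z ∧ (∀ x ∈ B, x = a ∨ x = b ∨ x = c ∨ x = d ∨ x = y ∨ x = z) ∧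
    ∀ g : G, (∀ x ∈ B, g • x ∈ B) → g • a = a → g • b = b →
      (g • c = c ∧ g • d = d ∨ g • c = d ∧ g • d = c) →
      (g • y = y ∧ g • z = z ∨ g • y = z ∧ g • z = y) := by
  obtain ⟨y, z, yz, k⟩ := Set.ncard_eq_two.1 (show (B \ {a, b, c, d}).ncard = 2 by
    rw [Set.ncard_diff e.sub, D4_card e.d4, h])
  have k1 : ∀ x, x ∈ B ∧ x ≠ a ∧ x ≠ b ∧ x ≠ c ∧ x ≠ d ↔ x = y ∨ x = z := fun x => by
    simpa [not_or] using Set.ext_iff.1 k x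
  have ky := (k1 y).2 (Or.inl rfl)
  have kz := (k1 z).2 (Or.inr rfl)
  refine ⟨y, z, yz, ⟨⟨e.1.ab, ky.2.1.symm, kz.2.1.symm, ky.2.2.1.symm, kz.2.2.1.symm, yz⟩, e.ha, e.hb,
    ky.1, kz.1⟩, fun x hx => by have := (k1 x).1; tauto, fun g hg ga gb gc => ?_⟩
  have i : ∀ {u v w : Ω}, g • v = w → u ≠ v → g • u ≠ w := fun e n e' =>
    n ((smul_left_cancel_iff g).1 (e'.trans e.symm))
  have k2 : ∀ x, x = y ∨ x = z → g • x = y ∨ g • x = z := fun x hx => by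
    obtain ⟨k3, k4, k5, k6, k7⟩ := (k1 x).2 hx
    refine (k1 _).1 ⟨hg x k3, i ga k4, i gb k5, ?_⟩
    rcases gc with ⟨gc, gd⟩ | ⟨gc, gd⟩
    exacts [⟨i gc k6, i gd k7⟩, ⟨i gd k7, i gc k6⟩]
  rcases k2 y (Or.inl rfl) with h1 | h1
  · exact Or.inl ⟨h1, (k2 z (Or.inr rfl)).resolve_left (i h1 yz.symm)⟩
  · exact Or.inr ⟨h1, (k2 z (Or.inr rfl)).resolve_right (i h1 yz.symm)⟩

omit [Finite G] in
theorem d4_inv {u : G} (hu : u * u = 1) {i j x : Ω} (ij : i ≠ j) (hi : u • i = i) (hj : u • j = j)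
    (hx : u • x ≠ x) : D4 i j x (u • x) :=
  ⟨ij, by rintro rfl; exact hx hi, fun e => hx (by rw [← e, ← hi, e, inv2 hu]),
    by rintro rfl; exact hx hj, fun e => hx (by rw [← e, ← hj, e, inv2 hu]), hx.symm⟩

omit [Finite G] in
theorem norm_inv {u : G} {i j x : Ω} (hi : u • i = i) (hj : u • j = j) (hx : u • u • x = x) :
    u ∈ N(St4 G i j x (u • x)) := norm_St4 (by rw [hi, hj, hx, St4_34])

omit [Finite G] in
theorem Hy.moves (h : Hy G Ω) {u : G} (h1 : u ≠ 1) : ∃ x : Ω, u • x ≠ x :=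
  not_forall.1 fun e => h1 (h.ff u e)

omit [Finite G] in
theorem Hy.Fx_lt [Finite Ω] (h : Hy G Ω) {S : Subgroup G} (h1 : S ≠ ⊥) :
    (Fx Ω S).ncard < Nat.card Ω := by
  obtain ⟨u, hu, u1⟩ := exists_ne_one h1
  obtain ⟨x, hx⟩ := h.moves u1
  rw [← Set.ncard_univ]
  exact Set.ncard_lt_ncard ⟨Set.subset_univ _, fun e => hx (mem_Fx.1 (e (Set.mem_univ x)) u hu)⟩

omit [Finite G] in
/-- a normal subgroup of a three point stabilizer fixing a further point is trivial -/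
theorem triv3 (ff : ∀ g : G, (∀ x : Ω, g • x = x) → g = 1) (mt : IsMultiplyPretransitive G Ω 4)
    {a b c d : Ω} (D : D4 a b c d) {A : Subgroup G} (n : A ⊴ St3 G a b c) (hd : d ∈ Fx Ω A) :
    A = ⊥ := eq_bot_iff.2 fun g hg => ff g fun x => by
  obtain ⟨g1, g2, g3⟩ := mem_St3.1 (n.le hg)
  by_cases h1 : x = a; · rwa [h1]
  by_cases h2 : x = b; · rwa [h2]
  by_cases h3 : x = c; · rwa [h3]
  obtain ⟨k, k1, k2, k3, rfl⟩ := mtex mt D ((E4u D).rep (Set.mem_univ x) h1 h2 h3).d4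
  exact mem_Fx.1 (Fx_norm (n.norm (mem_St3.2 ⟨k1, k2, k3⟩)) hd) g hg

variable (G Ω) in
/-- case A -/
structure HA : Prop extends Hy G Ω where
  odd : ∀ {a b c d : Ω}, D4 a b c d → Odd #(KS G a b c d)
  ev : ∀ {a b c d : Ω}, D4 a b c d → Even #(St4 G a b c d)

namespace HA
variable (h : HA G Ω) {a b c d a' b' c' d' : Ω} {u v k : G}
include h

theorem exi (D : D4 a b c d) : ∃ u ∈ St4 G a b c d, u * u = 1 ∧ u ≠ 1 := exists_inv (h.ev D).two_dvd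

theorem inv (D : D4 a b c d) (hu : u ∈ St4 G a b c d) (u2 : u * u = 1) (u1 : u ≠ 1)
    (hk : k ∈ KS G a b c d) : u * k * u⁻¹ = k⁻¹ :=
  inverts (Fit_norm _ hu) u2 ((h.fr D).f u hu fun e => u1 (one_of_odd (h.odd D) e (pi2 u2))) hk

theorem one (D : D4 a b c d) (hu : u ∈ St4 G a b c d) (u2 : u * u = 1) (u1 : u ≠ 1)
    (hk : k ∈ KS G a b c d) (e : u * k = k * u) : k = 1 :=
  (h.fr D).f u hu (fun e => u1 (one_of_odd (h.odd D) e (pi2 u2))) k hk e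

theorem mulK (D : D4 a b c d) (hu : u ∈ St4 G a b c d) (u2 : u * u = 1) (u1 : u ≠ 1)
    (hv : v ∈ St4 G a b c d) (v2 : v * v = 1) (v1 : v ≠ 1) : u * v ∈ KS G a b c d :=
  let ⟨k, hk, k1⟩ := exists_ne_one (h.fr D).ne
  (h.fr D).cent (mul_mem hu hv) hk k1 (mem_cent.1 (cent_of_inv (fun _ => h.inv D hu u2 u1)
    (fun _ => h.inv D hv v2 v1)) k hk).symm

theorem uniq (D : D4 a b c d) (hu : u ∈ St4 G a b c d) (u2 : u * u = 1) (u1 : u ≠ 1)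
    (hv : v ∈ St4 G a b c d) (v2 : v * v = 1) (v1 : v ≠ 1) (e : u * v = v * u) : u = v := by
  have := one_of_odd (h.odd D) (h.mulK D hu u2 u1 hv v2 v1) ((pi2 u2).e_mul (pi2 v2) e)
  rw [← mul_one u, ← v2, ← mul_assoc, this, one_mul]

theorem conj (D : D4 a b c d) (hu : u ∈ St4 G a b c d) (u2 : u * u = 1) (u1 : u ≠ 1)
    (D' : D4 a' b' c' d') (hv : v ∈ St4 G a' b' c' d') (v2 : v * v = 1) (v1 : v ≠ 1) :
    ∃ g : G, g * u * g⁻¹ = v ∧ g • a = a' ∧ g • b = b' ∧ g • c = c' ∧ g • d = d' := by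
  obtain ⟨g, rfl, rfl, rfl, rfl⟩ := mtex h.mt D D'
  have s : g * u * g⁻¹ * (g * u * g⁻¹) = 1 := by rw [conj_mul, u2]; simp
  obtain ⟨w, hw, e⟩ := exists_conj_invol (h.odd D') v2 s (h.mulK D' hv v2 v1
    (cj_St4 g a b c d ▸ conj_mem_cj.2 hu) s (by simpa using u1))
  obtain ⟨w1, w2, w3, w4⟩ := mem_St4.1 (fitm hw)
  exact ⟨w * g, by rw [← e]; group, by simp only [mul_smul, *, and_self]⟩

theorem t4C (u2 : u * u = 1) (u1 : u ≠ 1) : T4 C[u] (fixedBy Ω u) :=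
  ⟨fun _ hg _ hx => fb_comm (mem_cent1.1 hg) hx, fun e e' => by
    obtain ⟨g, k, r⟩ := h.conj e.d4 e.st u2 u1 e'.d4 e'.st u2 u1
    exact ⟨g, mem_cent1.2 (mul_inv_eq_iff_eq_mul.1 k), r⟩⟩

theorem fcard (D : D4 a b c d) (hu : u ∈ St4 G a b c d) (u2 : u * u = 1) (u1 : u ≠ 1)
    (D' : D4 a' b' c' d') (hv : v ∈ St4 G a' b' c' d') (v2 : v * v = 1) (v1 : v ≠ 1) :
    (fixedBy Ω v).ncard = (fixedBy Ω u).ncard := by
  obtain ⟨g, rfl, -⟩ := h.conj D hu u2 u1 D' hv v2 v1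
  exact ncard_fb_conj g u

theorem genK (D : D4 a b c d) (hu : u ∈ St4 G a b c d) (u2 : u * u = 1) (u1 : u ≠ 1) {S : Subgroup G}
    (hS : ∀ k ∈ KS G a b c d, k * u * k⁻¹ * u⁻¹ ∈ S) : KS G a b c d ≤ S :=
  sq_le (h.odd D) fun k hk => by
    have := hS k hk
    rwa [mul_assoc, mul_assoc, ← mul_assoc u, h.inv D hu u2 u1 (inv_mem hk), inv_inv] at this

theorem step0 (u2 : u * u = 1) {i j x : Ω} (ij : i ≠ j) (hi : u • i = i) (hj : u • j = j)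
    (hx : u • x ≠ x) : ∃ v ∈ St4 G i j x (u • x), v * v = 1 ∧ v ≠ 1 ∧ u * v = v * u :=
  comm_inv (h.ev (d4_inv u2 ij hi hj hx)) (pi2 u2) (norm_inv hi hj (inv2 u2 x))

end HA

theorem ev_fb [Finite Ω] (he : Even (Nat.card Ω)) {u : G} (u2 : u * u = 1) :
    (fixedBy Ω u).ncard % 2 = 0 := by
  have := mod2 (t := u) (s := (Set.univ : Set Ω)) (fun _ _ => trivial) fun x _ => inv2 u2 x
  rw [Set.ncard_univ, Set.univ_inter] at this
  rw [← this]; exact Nat.even_iff.1 he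

theorem HA.R1 [Finite Ω] (h : HA G Ω) (he : Even (Nat.card Ω)) {u v : G} (u2 : u * u = 1) (u1 : u ≠ 1)
    (v2 : v * v = 1) (v1 : v ≠ 1) (e : u * v = v * u) {i j k : Ω} (ij : i ≠ j) (ik : i ≠ k) (jk : j ≠ k)
    (hu : u ∈ St3 G i j k) (hv : v ∈ St3 G i j k) : u = v := by
  have h1 := mod2 (t := v) (s := fixedBy Ω u) (fun _ hx => fb_comm e.symm hx) fun x _ => inv2 v2 x
  rw [ev_fb he u2] at h1
  obtain ⟨u3, u4, u5⟩ := mem_St3.1 hu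
  obtain ⟨v3, v4, v5⟩ := mem_St3.1 hv
  have h2 : 2 < (fixedBy Ω u ∩ fixedBy Ω v).ncard := (Set.two_lt_ncard (Set.toFinite _)).2
    ⟨i, ⟨u3, v3⟩, j, ⟨u4, v4⟩, k, ⟨u5, v5⟩, ij, ik, jk⟩
  obtain ⟨a, b, c, d, E⟩ := ex4 (Γ := fixedBy Ω u ∩ fixedBy Ω v) (by omega)
  exact h.uniq E.d4 (E.mono Set.inter_subset_left).st u2 u1 (E.mono Set.inter_subset_right).st v2 v1 e

end H15.FT
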