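import Cfsg.Agent.H15.FT.F5

/-! Case A, even degree: the configuration `S(4,6,n)` is impossible. -/

set_option autoImplicit false
set_option linter.unusedSectionVars false

namespace H15.FT
open MulAction Subgroup H19 H24 Equiv

variable {G Ω : Type*} [Group G] [Finite G] [MulAction G Ω] [Finite Ω]

variable (G Ω) in
/-- case A in even degree, with the consequence of the induction hypothesis -/
structure HE : Prop extends HA G Ω where
  he : Even (Nat.card Ω)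
  fixR : ∀ {a b c d : Ω}, D4 a b c d → ∀ p : ℕ, p.Prime → p ∣ #(KS G a b c d) →
    Fx Ω (OS G {p} a b c d) ⊆ Fx Ω (KS G a b c d)

theorem Ok.even {π : Set ℕ} (o : Ok G Ω π) (he : Even (Nat.card Ω)) {a b c d : Ω} (D : D4 a b c d) :
    (Fx Ω (OS G π a b c d)).ncard % 2 = 0 := by
  have h1 := o.dvd3 D
  have h2 := (E4_OS (G := G) (π := π) D).le
  have h3 := (E4u D).le
  rw [Set.ncard_univ] at h3
  by_contra e
  have : 2 ∣ Nat.card Ω - 3 := (show 2 ∣ _ by omega).trans h1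
  obtain ⟨m, hm⟩ := he
  omega

theorem HA.he (h : HA G Ω) (he : Even (Nat.card Ω))
    (ih : ∀ (Γ : Set Ω) (X : Subgroup (Perm Γ)), Γ.ncard < Nat.card Ω → Even Γ.ncard → 4 ≤ Γ.ncard →
      ¬ HA X Γ) : HE G Ω := ⟨h, he, fun {a b c d} D p hp hd => by
  by_contra hn
  have o := h.ok1 D hp hd
  have E := E4_OS (G := G) (π := {p}) D
  obtain ⟨X, φ, I⟩ := exists_img (o.t4 D).inv
  have hL : St4 G a b c d ≤ N(OS G {p} a b c d) := Oc_norm _ _
  obtain ⟨k1, k2⟩ := h.img I (o.t4 D) E.lift hL hn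
  refine ih _ X (h.Fx_lt (o.ne D)) (Nat.even_iff.2 (o.even he D)) E.le ⟨k1, fun D' => ?_, fun D' => ?_⟩
  · rw [cardK k1.mt E.lift D', k2]; exact (h.odd D).of_dvd_nat (card_im_dvd _ _)
  · obtain ⟨u, hu, u2, u1⟩ := h.exi D
    rw [cardH k1.mt E.lift D']
    refine even_of_inv (u := φ ⟨u, hL hu⟩) (I.mem_St4.2 hu) (by
      rw [← map_mul, ← map_one φ]; exact congrArg φ (Subtype.ext u2)) fun e => hn fun x hx => ?_
    have e := I.eq_one.1 e
    refine Fx_le.2 (h.genK D hu u2 u1 fun k hk => ?_)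
    rw [mem_stabilizer_iff, mul_smul, inv_smul_eq_iff.2 (e x hx).symm, mul_smul, mul_smul,
      e _ (Fx_norm (hL (inv_mem (fitm hk))) hx), smul_inv_smul]⟩

variable (G Ω) in
/-- the situation in which `C(R)` moves a point of `Fix R` -/
structure S6 (p : ℕ) : Prop extends HE G Ω where
  hp : p.Prime
  dv : ∀ {a b c d : Ω}, D4 a b c d → p ∣ #(KS G a b c d)
  six : ∀ {a b c d : Ω}, D4 a b c d → (Fx Ω (OS G {p} a b c d)).ncard = 6
  hl : ∀ {a b c d : Ω}, D4 a b c d → HL C(OS G {p} a b c d) (Fx Ω (OS G {p} a b c d))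

section
variable {a b c d a' b' c' d' : Ω} {p : ℕ} {u v w : G}

theorem Ok.cent {π : Set ℕ} (o : Ok G Ω π) (h : Hy G Ω) (D : D4 a b c d) {g : G}
    (hg : g ∈ St4 G a b c d) (hc : g ∈ C(OS G π a b c d)) : g ∈ KS G a b c d :=
  let ⟨k, hk, k1⟩ := exists_ne_one (o.ne D)
  (h.fr D).cent hg (o.leK D hk) k1 (mem_cent.1 hc k hk).symm

theorem HE.s6 (h : HE G Ω) (D : D4 a b c d) (hp : p.Prime) (hd : p ∣ #(KS G a b c d))
    (h4 : 4 < (Fx Ω (OS G {p} a b c d)).ncard) {g : G} (hg : g ∈ C(OS G {p} a b c d)) {x : Ω}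
    (hx : x ∈ Fx Ω (OS G {p} a b c d)) (gx : g • x ≠ x) : S6 G Ω p := by
  have o := h.ok1 D hp hd
  have dv : ∀ {a b c d : Ω}, D4 a b c d → p ∣ #(KS G a b c d) := fun D' => by rwa [cardK h.mt D D']
  have hl : ∀ {a b c d : Ω}, D4 a b c d → HL C(OS G {p} a b c d) (Fx Ω (OS G {p} a b c d)) := by
    intro a' b' c' d' D'
    have h5 := o.even h.he D'
    refine ⟨JW (o.t4 D') (by rw [ncardO h.mt D D'] at h5 ⊢; omega) (Nat.even_iff.2 h5)
      (cent_normal_norm _) ?_, fun g hg _ a b c d E k x hx => ?_⟩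
    · obtain ⟨k, rfl, rfl, rfl, rfl⟩ := mtex h.mt D D'
      rw [← cj_OS, ← cj_cent]
      exact ⟨_, conj_mem_cj.2 hg, _, Fx_cj.2 hx, mt fb_conj.1 gx⟩
    · rw [← o.eq D' E] at hg hx
      exact mem_Fx.1 (h.fixR E.d4 p hp (dv E.d4) hx) g (o.cent h.toHy E.d4 k hg)
  refine ⟨h, hp, dv, fun D' => ?_, hl⟩
  have h5 := o.even h.he D
  have := (hl D).card h4.le
  rw [ncardO h.mt D D']; omega

namespace S6
variable (h : S6 G Ω p)
include h

theorem ok (D : D4 a b c d) : Ok G Ω {p} := h.ok1 D h.hp (h.dv D)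

theorem fixK (D : D4 a b c d) {k : G} (hk : k ∈ KS G a b c d) {x : Ω}
    (hx : x ∈ Fx Ω (OS G {p} a b c d)) : k • x = x := mem_Fx.1 (h.fixR D p h.hp (h.dv D) hx) k hk

theorem p2 (D : D4 a b c d) : p ≠ 2 := odd_prime_ne_two (h.odd D) (h.dv D)

theorem caseT (T : ∀ a b c d : Ω, D4 a b c d → ∀ u ∈ St4 G a b c d, u * u = 1 →
    Fx Ω (OS G {p} a b c d) ⊆ fixedBy Ω u) (D : D4 a b c d) : False := by
  have o := h.ok D
  have e2 : ∀ (Γ : Set Ω) (w : G) (x : Ω), w * w = 1 → w • x ≠ x → ∀ B ∈ Bl G {p} Γ, x ∈ B →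
      (∀ x ∈ B, w • x ∈ B) → (B ∩ fixedBy Ω w).ncard = 2 := by
    rintro Γ w x w2 wx _ ⟨a, b, c, d, E, rfl⟩ hx hw
    have D := E.d4
    have E := E4_OS (G := G) (π := {p}) D
    have n := o.norm' D hw
    obtain ⟨g, hg, g1, g2, g3, g4⟩ := (h.hl D).t4.ex E ⟨D4_smul D w, hw _ E.ha, hw _ E.hb, hw _ E.hc,
      hw _ E.hd⟩
    have k1 : g⁻¹ * w ∈ St4 G a b c d := by simp [mem_St4, mul_smul, inv_smul_eq_iff, *]
    have k2 : ∀ r ∈ OS G {p} a b c d, g⁻¹ * w * r * (g⁻¹ * w)⁻¹ = w * r * w⁻¹ := fun r hr => by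
      calc _ = g⁻¹ * ((w * r * w⁻¹) * g) := by group
        _ = _ := by rw [mem_cent.1 hg _ (conj_mem_of_norm n hr)]; group
    have k3 : g⁻¹ * w * (g⁻¹ * w) ∈ KS G a b c d := o.cent h.toHy D (mul_mem k1 k1)
      (mem_cent.2 fun r hr => by
        have := k2 _ (conj_mem_of_norm n hr)
        rw [← k2 r hr] at this
        calc r * _ = (w * w) * r * (w * w)⁻¹ * (g⁻¹ * w * (g⁻¹ * w)) := by rw [w2]; group
          _ = w * (w * r * w⁻¹) * w⁻¹ * (g⁻¹ * w * (g⁻¹ * w)) := by group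
          _ = _ := by rw [← k2 _ (conj_mem_of_norm n hr), ← k2 r hr]; group)
    obtain ⟨m, hm⟩ := ppart Nat.prime_two (g⁻¹ * w)
    have k4 : ∀ y ∈ Fx Ω (OS G {p} a b c d), g • y = w • y := fun y hy => by
      have := T a b c d D _ (pow_mem k1 (2 * m + 1)) (one_of_odd (h.odd D)
        (by rw [← (Commute.refl _).mul_pow]; exact pow_mem k3 _) (hm.e_mul hm rfl)) hy
      rw [mem_fixedBy, pow_fix2 (by rw [smul_smul]; exact h.fixK D k3 hy), mul_smul,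
        inv_smul_eq_iff] at this
      exact this.symm
    have k5 := (h.hl D).fix hg (fun y hy => by rw [k4 y hy, k4 _ (hw y hy), inv2 w2]) hx
      (by rwa [k4 x hx])
    have k6 := mod2 hw fun y _ => inv2 w2 y
    rw [show Fx Ω (OS G {p} a b c d) ∩ fixedBy Ω g = Fx Ω (OS G {p} a b c d) ∩ fixedBy Ω w from
      Set.ext fun y => and_congr_right fun hy => by rw [mem_fixedBy, mem_fixedBy, k4 y hy],
      h.six D] at *
    omega
  obtain ⟨u, hu, u2, u1⟩ := h.exi D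
  obtain ⟨x, hx⟩ := h.moves u1
  obtain ⟨ua, ub, uc, ud⟩ := mem_St4.1 hu
  obtain ⟨v, hv, v2, v1, uv⟩ := h.step0 u2 D.ab ua ub hx
  obtain ⟨va, vb, vx, -⟩ := mem_St4.1 hv
  have k1 : fixedBy Ω u ∩ fixedBy Ω v = {a, b} := by
    ext y
    refine ⟨fun hy => by_contra fun e => ?_, by rintro (rfl | rfl); exacts [⟨ua, va⟩, ⟨ub, vb⟩]⟩
    simp only [Set.mem_insert_iff, Set.mem_singleton_iff, not_or] at e
    exact hx (h.R1 h.he u2 u1 v2 v1 uv D.ab (Ne.symm e.1) (Ne.symm e.2) (mem_St3.2 ⟨ua, ub, hy.1⟩)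
      (mem_St3.2 ⟨va, vb, hy.2⟩) ▸ vx)
  have vc : v • c ≠ c := fun e => by
    have : c ∈ ({a, b} : Set Ω) := k1 ▸ ⟨uc, e⟩
    simp [D.ac.symm, D.bc.symm] at this
  have i1 : ∀ y ∈ fixedBy Ω u, v • y ∈ fixedBy Ω u := fun y hy => fb_comm uv.symm hy
  obtain ⟨t, t1, t2⟩ := (o.stn D fun a b c d E => T a b c d E.d4 u E.st u2).sc i1
    (fun y _ => inv2 v2 y) (Bl_eqv i1) uc vc (e := 2) fun B hB k1 k2 _ => e2 _ v c v2 vc B hB k1 k2
  have t2 := t2 fun B hB k1 k2 => (e2 _ v c v2 vc B hB k1 k2).ge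
  obtain ⟨s, s1, s2⟩ := (o.stnU D).sc (w := u) (fun _ _ => trivial) (fun y _ => inv2 u2 y)
    (Bl_eqv fun _ _ => trivial) (Set.mem_univ x) hx (e := 2) fun B hB k1 k2 _ => e2 _ u x u2 hx B hB k1 k2
  have s2 := s2 fun B hB k1 k2 => (e2 _ u x u2 hx B hB k1 k2).ge
  have k3 := o.dvd3 D
  rw [k1, Set.ncard_pair D.ab] at t1 t2
  rw [Set.univ_inter] at s1 s2
  rw [Set.ncard_univ] at s2
  rw [h.six D] at *
  obtain rfl : t = 1 := by omega
  rw [show (fixedBy Ω u).ncard = 6 by omega] at s1 s2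
  omega

theorem caseS (S : ∀ a b c d : Ω, D4 a b c d → ∀ u ∈ St4 G a b c d, u * u = 1 → u ≠ 1 →
    ¬ Fx Ω (OS G {p} a b c d) ⊆ fixedBy Ω u) (D : D4 a b c d) : False := by
  have o := h.ok D
  obtain ⟨u, hu, u2, u1⟩ := h.exi D
  have E := E4_fb D hu
  have hl : HL C[u] (fixedBy Ω u) := ⟨h.t4C u2 u1, fun g hg g2 a b c d E k x hx => by
    obtain ⟨m, hm⟩ := ppart Nat.prime_two g
    rw [← pow_fix2 (g2 x hx) m]
    have k1 := pow_mem k (2 * m + 1)
    have k2 := pow_mem hg (2 * m + 1)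
    generalize g ^ (2 * m + 1) = s at *
    by_cases s2 : s * s = 1
    · by_cases s1 : s = 1
      · rw [s1, one_smul]
      · rwa [h.uniq E.d4 k1 s2 s1 E.st u2 u1 (mem_cent1.1 k2)]
    obtain ⟨n, n1, n2⟩ := exists_root hm s2
    have k3 := pow_mem k1 n
    have k4 := pow_mem k2 n
    generalize s ^ n = t at *
    refine absurd (fun y hy => ?_) (S a b c d E.d4 u E.st u2 u1)
    rw [← h.uniq E.d4 (mul_mem k3 k3) n2 n1 E.st u2 u1 (mem_cent1.1 (mul_mem k4 k4)), mem_fixedBy,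
      mul_smul]
    obtain ⟨y, z, -, -, k5, k6⟩ := two_pts (G := G) (E4_OS (G := G) (π := {p}) E.d4) (h.six E.d4)
    obtain ⟨t1, t2, t3, t4⟩ := mem_St4.1 k3
    rcases k6 t (fun _ => Fx_norm (Oc_norm _ _ k3)) t1 t2 (Or.inl ⟨t3, t4⟩) with k6 | k6 <;>
      rcases k5 _ hy with rfl | rfl | rfl | rfl | rfl | rfl <;> simp only [*]⟩
  have f1 := hl.card E.le
  have f2 := ev_fb h.he u2
  have e4 : ∀ x, u • x ≠ x → ∀ B ∈ Bl G {p} (Set.univ : Set Ω), x ∈ B → (∀ x ∈ B, u • x ∈ B) →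
      2 ≤ (B ∩ fixedBy Ω u).ncard → (B ∩ fixedBy Ω u).ncard = 4 := by
    rintro x hx _ ⟨a, b, c, d, E', rfl⟩ k1 k2 k3
    obtain ⟨i, hi, j, hj, ij⟩ := (Set.one_lt_ncard (Set.toFinite _)).1 k3
    have D' := d4_inv u2 ij hi.2 hj.2 hx
    have e0 := o.eq E'.d4 ⟨D', hi.1, hj.1, k1, k2 x k1⟩
    rw [← e0] at k2 ⊢
    clear k1 k3 e0
    replace hi : u • i = i := hi.2
    replace hj : u • j = j := hj.2
    obtain ⟨v, hv, v2, v1, uv⟩ := h.step0 u2 ij hi hj hx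
    obtain ⟨vi, vj, vx, vy⟩ := mem_St4.1 hv
    obtain ⟨y, z, yz, E2, k5, k6⟩ := two_pts (G := G) (E4_OS (G := G) (π := {p}) D') (h.six D')
    have ux : u • u • x ≠ u • x := by rw [inv2 u2]; exact hx.symm
    obtain ⟨vy, vz⟩ := (k6 v (fun _ => Fx_norm (Oc_norm _ _ hv)) vi vj (Or.inl ⟨vx, vy⟩)).resolve_left
      fun e => S _ _ _ _ D' v hv v2 v1 fun w hw => by
        rcases k5 _ hw with rfl | rfl | rfl | rfl | rfl | rfl <;> simp only [mem_fixedBy, *]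
    rcases k6 u k2 hi hj (Or.inr ⟨rfl, inv2 u2 x⟩) with ⟨uy, uz⟩ | ⟨uy, uz⟩
    · rw [← D4_card E2.d4]
      congr 1
      refine Set.Subset.antisymm (fun w hw => ?_) (Set.subset_inter E2.sub ?_)
      · rcases k5 _ hw.1 with rfl | rfl | rfl | rfl | rfl | rfl
        exacts [by simp, by simp, absurd hw.2 hx, absurd hw.2 ux, by simp, by simp]
      · rintro _ (rfl | rfl | rfl | rfl) <;> assumption
    exfalso
    have k7 : u * v * v ∈ C(OS G {p} i j x (u • x)) := cent_of_inv (fun r hr => h.inv E2.d4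
      (by simp only [mem_St4, mul_smul, *, and_self]) (by
        rw [mul_assoc, ← mul_assoc v, ← uv, mul_assoc, v2, mul_one, u2])
      (fun e => hx (by rw [← vx, ← mul_smul, e, one_smul, vx])) (o.leK E2.d4 (by rwa [o.eq D' E2])))
      fun r hr => h.inv D' hv v2 v1 (o.leK D' hr)
    rw [mul_assoc, v2, mul_one] at k7
    have k8 := modP h.hp (Oc_pi {p} (St4 G i j x (u • x))) (s := fixedBy Ω u)
      fun r hr _ hw => fb_comm (mem_cent.1 k7 r hr) hw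
    rw [show fixedBy Ω u ∩ Fx Ω (OS G {p} i j x (u • x)) = {i, j} by
      refine Set.Subset.antisymm (fun w hw => ?_) (by
        rintro _ (rfl | rfl); exacts [⟨hi, E2.ha⟩, ⟨hj, E2.hb⟩])
      rcases k5 _ hw.2 with rfl | rfl | rfl | rfl | rfl | rfl
      exacts [by simp, by simp, absurd hw.1 hx, absurd hw.1 ux, absurd (uy.symm.trans hw.1) yz.symm,
        absurd (uz.symm.trans hw.1) yz], Set.ncard_pair ij] at k8
    have k9 : p ∣ 2 ^ 2 := by
      have := (Nat.modEq_iff_dvd' (by omega)).1 k8.symm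
      rcases (by omega : (fixedBy Ω u).ncard = 4 ∨ (fixedBy Ω u).ncard = 6) with e | e <;> rw [e] at this
      exacts [this.trans (by norm_num), this]
    exact h.p2 D ((Nat.prime_dvd_prime_iff_eq h.hp Nat.prime_two).1 (h.hp.dvd_of_dvd_pow k9))
  obtain ⟨x, hx⟩ := h.moves u1
  have k1 := (o.stnU D).sc1 (w := u) (fun _ _ => trivial) (fun y _ => inv2 u2 y)
    (Bl_eqv fun _ _ => trivial) (Set.mem_univ x) hx (e4 x hx) (by rw [Set.univ_inter]; omega)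
  rw [Set.univ_inter] at k1
  have f4 : (fixedBy Ω u).ncard = 4 := by omega
  have k2 := h.Fx_lt (o.ne D)
  refine absurd (Set.ncard_univ Ω ▸ Set.ncard_le_ncard fun x _ => ?_) k2.not_ge
  by_cases hx : u • x = x
  · have E' := E4_OS (G := G) (π := {p}) D
    rcases E.eq f4.le hx with rfl | rfl | rfl | rfl
    exacts [E'.ha, E'.hb, E'.hc, E'.hd]
  have D' := d4_inv u2 D.ab E.ha E.hb hx
  have E' := E4_OS (G := G) (π := {p}) D'
  have k3 := e4 x hx _ ⟨_, _, _, _, E4u D', rfl⟩ E'.hc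
    (fun _ => Fx_norm (norm_le_norm_Oc _ _ (norm_inv E.ha E.hb (inv2 u2 x))))
    ((Set.one_lt_ncard (Set.toFinite _)).2 ⟨a, ⟨E'.ha, E.ha⟩, b, ⟨E'.hb, E.hb⟩, D.ab⟩)
  have k4 := Set.eq_of_subset_of_ncard_le Set.inter_subset_right (f4.trans k3.symm).le
  rw [o.eq D' (E.mono (Set.inter_eq_right.1 k4))]
  exact E'.hc

theorem false (D : D4 a b c d) : False := by
  refine h.caseS (fun a b c d D u hu u2 u1 e => h.caseT (fun a' b' c' d' D' v hv v2 x hx => ?_) D) D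
  by_cases v1 : v = 1
  · simp [v1]
  obtain ⟨g, rfl, rfl, rfl, rfl, rfl⟩ := h.conj D hu u2 u1 D' hv v2 v1
  rw [← cj_OS, ← smul_inv_smul g x, Fx_cj] at hx
  rw [← smul_inv_smul g x, fb_conj]
  exact e hx

end S6

theorem HE.st6 (h : HE G Ω) (D : D4 a b c d) (hp : p.Prime) (hd : p ∣ #(KS G a b c d))
    (h4 : 4 < (Fx Ω (OS G {p} a b c d)).ncard) {g : G} (hg : g ∈ C(OS G {p} a b c d)) {x : Ω}
    (hx : x ∈ Fx Ω (OS G {p} a b c d)) : g • x = x :=
  by_contra fun gx => (h.s6 D hp hd h4 hg hx gx).false D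

end

end H15.FT
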