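import Cfsg.Agent.H15.FT.F6
import Cfsg.Agent.S0215
import Cfsg.Agent.S4220

/-! Case A in even degree is impossible. -/

set_option autoImplicit false
set_option linter.unusedSectionVars false

namespace H15.FT
open MulAction Subgroup H19 H24 Equiv

variable {G Ω : Type*} [Group G] [Finite G]

theorem zstar {Y : Subgroup G} {u : G} (hu : u ∈ Y) (u2 : u * u = 1) (u1 : u ≠ 1)
    (h : ∀ v ∈ Y, v * v = 1 → v ≠ 1 → u * v = v * u → u = v) {g : G} (hg : g ∈ Y) :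
    u * g * u⁻¹ * g⁻¹ ∈ Oc {2}ᶜ Y := by
  haveI := Fact.mk Nat.prime_two
  obtain ⟨T, hT, l⟩ := (piG_zpowers.2 (pi2 u2)).exists_syl (zpowers_le.2 hu)
  have uT := l (mem_zpowers u)
  obtain ⟨z, hz, z2, z1⟩ := exists_inv' (hT.pi.infl _) (hT.pi.center_ne_bot (ne_bot_of_mem uT u1))
  obtain rfl := h z (hT.le hz.1) z2 z1 (mem_cent.1 hz.2 u uT)
  obtain ⟨S, rfl⟩ := hT.exists_sylow
  obtain ⟨N, hN, h1, h2⟩ := Cfsg.Agent.S0215.result S ⟨u, hu⟩ (orderOf_eq_prime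
    (Subtype.ext (by simpa [sq] using u2)) fun e => u1 (congrArg Subtype.val e))
    (by obtain ⟨x, hx, e⟩ := uT; rwa [show (⟨u, hu⟩ : Y) = x from Subtype.ext e.symm]) fun k hk =>
      Subtype.ext (h ((k : G) * u * (k : G)⁻¹) (mul_mem (mul_mem k.2 hu) (inv_mem k.2))
        (by simp [conj_mul, u2]) (by simpa using u1) (mem_cent.1 hz.2 _ ⟨_, hk, rfl⟩).symm).symm
  exact le_Oc (normalIn_map_subtype N) (pi_of_odd (by
    rwa [card_map_of_injective Y.subtype_injective])) ⟨_, h2 ⟨g, hg⟩, rfl⟩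

theorem dvd_of_mod {p a b k : ℕ} (h1 : a ≡ b [MOD p]) (h2 : a ≡ b + k [MOD p]) : p ∣ k := by
  simpa using (Nat.modEq_iff_dvd' (Nat.le_add_right b k)).1 (h1.symm.trans h2)

variable [MulAction G Ω] [Finite Ω]

variable (G) in
/-- the canonical elementary abelian normal subgroup of a three point stabilizer -/
abbrev AT (p : ℕ) (a b c : Ω) : Subgroup G := AO p (Oc {2}ᶜ (St3 G a b c))

theorem AT_norm (p : ℕ) (a b c : Ω) : N(St3 G a b c) ≤ N(AT G p a b c) :=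
  (norm_le_norm_Oc _ _).trans (AO_norm _ _)

theorem AT_le (p : ℕ) (a b c : Ω) : AT G p a b c ≤ St3 G a b c := (AO_le _ _).trans (Oc_le _ _)

theorem AT_normal (p : ℕ) (a b c : Ω) : AT G p a b c ⊴ St3 G a b c :=
  ⟨AT_le p a b c, le_normalizer.trans (AT_norm p a b c)⟩

theorem AT_ne (mt : IsMultiplyPretransitive G Ω 4) {p : ℕ} {a b c d a' b' c' d' : Ω} (D : D4 a b c d)
    (D' : D4 a' b' c' d') (h : AT G p a b c ≠ ⊥) : AT G p a' b' c' ≠ ⊥ := by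
  obtain ⟨g, rfl, rfl, rfl, -⟩ := mtex mt D D'
  rw [AT, ← cj_St3, ← cj_Oc, ← cj_AO]; simpa using h

theorem ncard3 {s : Set Ω} {a b c : Ω} (ab : a ≠ b) (ac : a ≠ c) (bc : b ≠ c) (ha : a ∈ s) (hb : b ∈ s)
    (hc : c ∈ s) (h : ∀ x ∈ s, x ≠ a → x ≠ b → x ≠ c → False) : s.ncard = 3 := by
  refine Set.ncard_eq_three.2 ⟨a, b, c, ab, ac, bc, Set.Subset.antisymm (fun x hx => by_contra fun e => ?_)
    (by rintro _ (rfl | rfl | rfl) <;> assumption)⟩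
  simp only [Set.mem_insert_iff, Set.mem_singleton_iff, not_or] at e
  exact h x hx e.1 e.2.1 e.2.2

theorem ncard2 {s : Set Ω} {a b : Ω} (ab : a ≠ b) (ha : a ∈ s) (hb : b ∈ s)
    (h : ∀ x ∈ s, x ≠ a → x ≠ b → False) : s.ncard = 2 := by
  refine Set.ncard_eq_two.2 ⟨a, b, ab, Set.Subset.antisymm (fun x hx => by_contra fun e => ?_)
    (by rintro _ (rfl | rfl) <;> assumption)⟩
  simp only [Set.mem_insert_iff, Set.mem_singleton_iff, not_or] at e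
  exact h x hx e.1 e.2

theorem D4_of {a b c d : Ω} (D : D4 a b c d) {x : Ω} (h1 : x ≠ a) (h2 : x ≠ b) (h3 : x ≠ c) :
    D4 a b c x := ((E4u D).rep (Set.mem_univ x) h1 h2 h3).d4

theorem St3_ne {g : G} {a b c d : Ω} (hg : g ∈ St3 G a b c) (D : D4 a b c d) :
    g • d ≠ a ∧ g • d ≠ b ∧ g • d ≠ c := by
  obtain ⟨g1, g2, g3⟩ := mem_St3.1 hg
  have := D4_smul D g
  rw [g1, g2, g3] at this
  exact ⟨this.ad.symm, this.bd.symm, this.cd.symm⟩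

theorem Hy.AK (h : Hy G Ω) {a b c d : Ω} (D : D4 a b c d) {p : ℕ} {A : Subgroup G} (hA : PG p A)
    (n : St4 G a b c d ≤ N(A)) : A ⊓ St4 G a b c d ≤ KS G a b c d :=
  le_Fit (inf_normal_of_norm n) (hA.infl _).nil

/-- `N` is regular on `Γ` -/
structure Reg (N : Subgroup G) (Γ : Set Ω) : Prop where
  inv : ∀ g ∈ N, ∀ x ∈ Γ, g • x ∈ Γ
  tr : ∀ x ∈ Γ, ∀ y ∈ Γ, ∃ n ∈ N, n • x = y
  one : ∀ x ∈ Γ, ∀ n ∈ N, n • x = x → n = 1

theorem Reg.fix {N : Subgroup G} {Γ : Set Ω} (h : Reg N Γ) {g : G} (hg : g ∈ N(N)) {x : Ω} (hx : x ∈ Γ)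
    (gx : g • x = x) : (Γ ∩ fixedBy Ω g).ncard = #(N ⊓ C[g]) :=
  reg_fix (fun y => ⟨h.tr x hx y, by rintro ⟨n, hn, rfl⟩; exact h.inv n hn x hx⟩) (h.one x hx) hg gx

theorem Reg.card {N : Subgroup G} {Γ : Set Ω} (h : Reg N Γ) {x : Ω} (hx : x ∈ Γ) : Γ.ncard = #N := by
  have := h.fix (one_mem _) hx (one_smul _ _)
  rwa [fixedBy_one_eq_univ, Set.inter_univ, inf_eq_left.2 fun g _ => mem_cent1.2 (by simp)] at this

theorem exact_perm [DecidableEq Ω] [Fintype Ω] (h : alternatingGroup Ω ≤ (toPermHom G Ω).range)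
    {σ : Perm Ω} (hs : Perm.sign σ = 1) : ∃ g : G, ∀ x, g • x = σ x := by
  obtain ⟨g, hg⟩ := h (Perm.mem_alternatingGroup.2 hs)
  exact ⟨g, fun x => by rw [← hg]; rfl⟩

theorem alt_dt [DecidableEq Ω] [Fintype Ω] (h : alternatingGroup Ω ≤ (toPermHom G Ω).range)
    {x y z w : Ω} (D : D4 x y z w) : ∃ u : G, u • x = y ∧ u • y = x ∧ u • z = w ∧ u • w = z ∧
      ∀ t, t ≠ x → t ≠ y → t ≠ z → t ≠ w → u • t = t := by
  obtain ⟨u, hu⟩ := exact_perm h (σ := swap x y * swap z w) (by simp [D.ab, D.cd])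
  obtain ⟨h1, h2, h3, h4, h5, h6⟩ := D
  refine ⟨u, ?_, ?_, ?_, ?_, fun t _ _ _ _ => ?_⟩ <;>
    simp only [hu, Perm.mul_apply, swap_apply_def] <;> grind

theorem alt_kp [DecidableEq Ω] [Fintype Ω] (mt : IsMultiplyPretransitive G Ω 4) {k : ℕ}
    (hk : k = 1 ∨ k = 2) (hn : Nat.card Ω = k * 5 + 3) : alternatingGroup Ω ≤ (toPermHom G Ω).range :=
  Cfsg.Agent.S4220.result _ (r := 3) Nat.prime_five (by rwa [← Nat.card_eq_fintype_card]) (by omega)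
    (by omega) (by omega) (by omega) (H17.range_mt_iff.2 mt)

theorem ncard_compl4 {a b c d : Ω} (D : D4 a b c d) : ({a, b, c, d}ᶜ : Set Ω).ncard = Nat.card Ω - 4 := by
  rw [Set.ncard_compl, D4_card D]

namespace HE
variable (h : HE G Ω) {a b c d : Ω} {p : ℕ} {u : G}
include h

theorem exA (D : D4 a b c d) : ∃ p, p.Prime ∧ p ≠ 2 ∧ AT G p a b c ≠ ⊥ := by
  refine exists_AO' (odd_of_pi (Oc_pi _ _)) fun e => ?_
  obtain ⟨u, hu, u2, u1⟩ := h.exi D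
  obtain ⟨k, hk, k1⟩ := exists_ne_one (h.fr D).ne
  have := zstar (St4_le _ _ _ _ hu) u2 u1 (fun v hv v2 v1 c => h.R1 h.he u2 u1 v2 v1 c D.ab D.ac D.bc
    (St4_le _ _ _ _ hu) hv) (St4_le _ _ _ _ (fitm hk))
  rw [e, mem_bot, mul_inv_eq_one, mul_inv_eq_iff_eq_mul] at this
  exact k1 (h.one D hu u2 u1 hk this)

theorem m1 (D : D4 a b c d) (hA : AT G p a b c ≠ ⊥) : ¬ KS G a b c d ≤ C(AT G p a b c) := fun e => by
  obtain ⟨r, hr, hd⟩ := exists_prime_dvd_card (h.fr D).ne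
  have o := h.ok1 D hr hd
  have E := E4_OS (G := G) (π := {r}) D
  refine hA (triv3 h.ff h.mt D (AT_normal _ _ _ _) (mem_Fx.2 fun g hg => by_contra fun gd => ?_))
  have k := cents_symm ((o.leK D).trans e) hg
  obtain ⟨k1, k2, k3⟩ := St3_ne (AT_le _ _ _ _ hg) D
  exact gd (h.st6 D hr hd (E.lt (Fx_norm (cent_le_norm _ k) E.hd) k1 k2 k3 gd) k E.hd)

theorem m2 (D : D4 a b c d) (hA : AT G p a b c ≠ ⊥) (hu : u ∈ St4 G a b c d) (u2 : u * u = 1)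
    (u1 : u ≠ 1) : u ∉ C(AT G p a b c) ∧ ∃ e ∈ AT G p a b c, e ≠ 1 ∧ u * e = e * u := by
  have n : St4 G a b c d ≤ N(AT G p a b c) := (St4_le _ _ _ _).trans (AT_normal _ _ _ _).norm
  refine ⟨fun e => h.m1 D hA (h.genK D hu u2 u1 fun k hk => mul_mem (conj_mem_of_norm
    (norm_le_norm_cent _ (n (fitm hk))) e) (inv_mem e)), by_contra fun e => ?_⟩
  push Not at e
  have i : ∀ x ∈ AT G p a b c, u * x * u⁻¹ = x⁻¹ := fun x hx =>
    inverts (n hu) u2 (fun y hy c => by_contra fun y1 => e y hy y1 c) hx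
  refine h.m1 D hA (h.genK D hu u2 u1 fun k hk => cent_of_inv (fun x hx => ?_) fun x hx => ?_)
  · calc _ = k * (u * (k⁻¹ * x * k) * u⁻¹) * k⁻¹ := by group
      _ = _ := by rw [i _ (conj_mem_of_norm' (n (fitm hk)) hx)]; group
  · rw [inv_eq_of_mul_eq_one_right u2, ← i x hx, inv_eq_of_mul_eq_one_right u2]

theorem m3 (D : D4 a b c d) (hp : p.Prime) (hA : AT G p a b c ≠ ⊥) (hu : u ∈ St4 G a b c d)
    (u2 : u * u = 1) (u1 : u ≠ 1) : (fixedBy Ω u).ncard ≡ 3 [MOD p] := by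
  obtain ⟨e, he, e1, q⟩ := (h.m2 D hA hu u2 u1).2
  have pg := abelem_pg hp (AO_ab p (Oc {2}ᶜ (St3 G a b c)))
  have := modE hp (pg.elt he) (s := fixedBy Ω u) fun x hx => fb_comm q.symm hx
  obtain ⟨u3, u4, u5, -⟩ := mem_St4.1 hu
  obtain ⟨e3, e4, e5⟩ := mem_St3.1 (AT_le _ _ _ _ he)
  rwa [ncard3 (s := fixedBy Ω u ∩ fixedBy Ω e) D.ab D.ac D.bc ⟨u3, e3⟩ ⟨u4, e4⟩ ⟨u5, e5⟩ fun x hx k1 k2 k3 => ?_] at this
  have D' := D4_of D k1 k2 k3
  exact e1 (h.one D' (mem_St4.2 ⟨u3, u4, u5, hx.1⟩) u2 u1 (h.AK D' pg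
    ((St4_le _ _ _ _).trans (AT_normal _ _ _ _).norm) ⟨he, mem_St4.2 ⟨e3, e4, e5, hx.2⟩⟩) q)

theorem false (D : D4 a b c d) : False := by
  obtain ⟨p, hp, p2, hA⟩ := h.exA D
  have hA : ∀ {a b c d : Ω}, D4 a b c d → AT G p a b c ≠ ⊥ := fun D' => AT_ne h.mt D D' hA
  have pg : ∀ a b c : Ω, PG p (AT G p a b c) := fun a b c => abelem_pg hp (AO_ab p _)
  have n2 : ¬ p ∣ 2 := fun e => p2 ((Nat.prime_dvd_prime_iff_eq hp Nat.prime_two).1 e)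
  have n1 : ¬ p ∣ 1 := hp.not_dvd_one
  have st : ∀ {a b c d : Ω}, D4 a b c d → ∃ u v : G, ∃ x : Ω, u ∈ St4 G a b c d ∧ u * u = 1 ∧ u ≠ 1 ∧
      u • x ≠ x ∧ v ∈ St4 G a b x (u • x) ∧ v * v = 1 ∧ v ≠ 1 ∧ u * v = v * u ∧
      ∀ y, u • y = y → y ≠ a → y ≠ b → D4 a b y (v • y) := fun {a b c d} D => by
    obtain ⟨u, hu, u2, u1⟩ := h.exi D
    obtain ⟨x, hx⟩ := h.moves u1
    obtain ⟨ua, ub, -⟩ := mem_St4.1 hu
    obtain ⟨v, hv, v2, v1, uv⟩ := h.step0 u2 D.ab ua ub hx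
    obtain ⟨va, vb, vx, -⟩ := mem_St4.1 hv
    exact ⟨u, v, x, hu, u2, u1, hx, hv, v2, v1, uv, fun y uy ya yb => d4_inv v2 D.ab va vb fun e =>
      hx (h.R1 h.he u2 u1 v2 v1 uv D.ab ya.symm yb.symm (mem_St3.2 ⟨ua, ub, uy⟩)
        (mem_St3.2 ⟨va, vb, e⟩) ▸ vx)⟩
  by_cases hs : ∃ a b c d : Ω, D4 a b c d ∧ AT G p a b c ⊓ St4 G a b c d ≠ ⊥
  · obtain ⟨a, b, c, d, D, hs⟩ := hs
    have n : St4 G a b c d ≤ N(AT G p a b c) := (St4_le _ _ _ _).trans (AT_normal _ _ _ _).norm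
    have hd : p ∣ #(KS G a b c d) := (((pg a b c).infl _).dvd_of_ne_bot hs).trans
      (card_dvd (h.AK D (pg a b c) n))
    have o := h.ok1 D hp hd
    have E := E4_OS (G := G) (π := {p}) D
    have q := (pg a b c).sup (Oc_pi {p} (St4 G a b c d)) ((Oc_le _ _).trans n)
    obtain ⟨g, hg, g1⟩ := SetLike.exists_of_lt (q.lt_norm (H := OS G {p} a b c d) (right_lt_sup.2 fun e =>
      hA D (triv3 h.ff h.mt D (AT_normal _ _ _ _) (Fx_anti e E.hd))))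
    have g3 : g ∈ St3 G a b c := sup_le (AT_le _ _ _ _) ((Oc_le _ _).trans (St4_le _ _ _ _)) hg.1
    obtain ⟨k1, k2, k3⟩ := St3_ne g3 D
    have h4 := E.lt (Fx_norm hg.2 E.hd) k1 k2 k3 fun e => g1 (o.mem D ⟨g3, e⟩ (q.elt hg.1))
    obtain ⟨u, v, x, hu, u2, u1, hx, hv, v2, v1, uv, k⟩ := st D
    obtain ⟨ua, ub, -⟩ := mem_St4.1 hu
    have D' := d4_inv u2 D.ab ua ub hx
    have f3 := h.m3 D hp (hA D) hu u2 u1
    have i : ∀ e ∈ OS G {p} a b x (u • x), v * e * v⁻¹ = e⁻¹ := fun e he =>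
      h.inv D' hv v2 v1 (o.leK D' he)
    have := h.st6 D' hp (by rwa [cardK h.mt D D']) (by rwa [ncardO h.mt D D'])
      (cent_of_inv (fun e he => inverts (norm_le_norm_Oc _ _ (norm_inv ua ub (inv2 u2 x))) u2
        (fun e he c => by_contra fun e1 => ?_) he) i) (E4_OS D').hc
    · rw [mul_smul, (mem_St4.1 hv).2.2.1] at this
      exact hx this
    have ep := (Oc_pi _ _).elt he
    have := modE hp ep (s := fixedBy Ω u) fun x hx => fb_comm c.symm hx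
    obtain ⟨ea, eb, -⟩ := mem_St4.1 (ocm he)
    rw [ncard2 (s := fixedBy Ω u ∩ fixedBy Ω e) D.ab ⟨ua, ea⟩ ⟨ub, eb⟩ fun y hy ya yb => ?_] at this
    · exact n1 (dvd_of_mod this f3)
    have D2 := k y hy.1 ya yb
    refine e1 (h.one D2 (mem_St4.2 ⟨ua, ub, hy.1, fb_comm uv.symm hy.1⟩) u2 u1 (o.leK D2 (o.mem D2
      (mem_St4.2 ⟨ea, eb, hy.2, ?_⟩) ep)) c)
    have : v • y ∈ fixedBy Ω (v * e * v⁻¹) := fb_conj.2 hy.2
    rwa [i e he, fixedBy_inv] at this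
  push Not at hs
  obtain ⟨u, v, x, hu, u2, u1, hx, hv, v2, v1, uv, k⟩ := st D
  obtain ⟨ua, ub, uc, -⟩ := mem_St4.1 hu
  obtain ⟨va, vb, vx, -⟩ := mem_St4.1 hv
  have D1 := (s23 (k c uc D.ac.symm D.bc.symm)).s34
  have uc' : u • v • c = v • c := fb_comm uv.symm uc
  have hu' : u ∈ St4 G a c (v • c) b := mem_St4.2 ⟨ua, uc, uc', ub⟩
  have f3 := h.m3 D1 hp (hA D1) hu' u2 u1
  have key : ∀ w : G, w * w = 1 → w ≠ 1 → w • a = a → w • b = b → w • c = v • c →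
      ∀ e ∈ AT G p a c (v • c), w * e * w⁻¹ = e⁻¹ := fun w w2 w1 wa wb wc e he => by
    have wc' : w • v • c = c := by rw [← wc, inv2 w2]
    refine inverts (AT_norm _ _ _ _ (norm_St3 (by rw [wa, wc', wc, St3_23]))) w2
      (fun e he q => by_contra fun e1 => ?_) he
    have k1 := modE hp ((pg _ _ _).elt he) (s := fixedBy Ω w) fun x hx => fb_comm q.symm hx
    obtain ⟨e3, e4, e5⟩ := mem_St3.1 (AT_le _ _ _ _ he)
    rw [show fixedBy Ω w ∩ fixedBy Ω e = {a} by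
      refine Set.eq_singleton_iff_unique_mem.2 ⟨⟨wa, e3⟩, fun y hy => by_contra fun ya => e1 ?_⟩
      refine mem_bot.1 (hs _ _ _ _ (D4_of D1 ya ?_ ?_) ▸ mem_inf.2 ⟨he, mem_St4.2 ⟨e3, e4, e5, hy.2⟩⟩)
      · rintro rfl; exact D1.bc (hy.1.symm.trans wc)
      · rintro rfl; exact D1.bc (wc'.symm.trans hy.1), Set.ncard_singleton] at k1
    by_cases h4 : 4 ≤ (fixedBy Ω w).ncard
    · obtain ⟨_, _, _, _, E⟩ := ex4 h4
      rw [h.fcard D hu u2 u1 E.d4 E.st w2 w1] at k1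
      exact n2 (dvd_of_mod k1 f3)
    have k2 := ev_fb h.he w2
    have k3 := (Set.one_lt_ncard (s := fixedBy Ω w) (Set.toFinite _)).2 ⟨a, wa, b, wb, D.ab⟩
    rw [show (fixedBy Ω w).ncard = 1 + 1 by omega] at k1
    exact n1 (dvd_of_mod k1 rfl)
  have := cent_of_inv (key (u * v) (by rw [mul_assoc, ← mul_assoc v, ← uv, mul_assoc, v2, mul_one, u2])
    (fun e => hx (by rw [← vx, ← mul_smul, e, one_smul, vx])) (by rw [mul_smul, va, ua])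
    (by rw [mul_smul, vb, ub]) (by rw [mul_smul, uc'])) (key v v2 v1 va vb rfl)
  rw [mul_assoc, v2, mul_one] at this
  exact (h.m2 D1 (hA D1) hu' u2 u1).1 this

end HE

universe v

theorem A2_aux (n : ℕ) : ∀ (α : Type v) [Finite α] (X : Subgroup (Perm α)), Nat.card α < n →
    Even (Nat.card α) → 4 ≤ Nat.card α → ¬ HA X α := by
  induction n with
  | zero => intro _ _ _ h; omega
  | succ n ih =>
    intro α _ X h1 h2 h3 h
    obtain ⟨a, b, c, d, E⟩ := ex4 (Γ := (Set.univ : Set α)) (by rwa [Set.ncard_univ])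
    exact (h.he h2 fun Γ Y k1 k2 k3 => ih Γ Y (by rw [Nat.card_coe_set_eq]; omega) k2 k3).false E.d4

theorem HA.A2 (h : HA G Ω) (he : Even (Nat.card Ω)) {a b c d : Ω} (D : D4 a b c d) : False :=
  (h.he he fun Γ Y k1 k2 k3 => A2_aux _ Γ Y k1 k2 k3).false D

end H15.FT
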