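import Cfsg.Agent.H15.FT.F7
import Cfsg.Agent.H15.Uniq3

/-! Case B with blocks of size greater than four: `G = M₂₃`. -/

set_option autoImplicit false
set_option linter.unusedSectionVars false

namespace H15.FT
open MulAction Subgroup H19 H24 Equiv
open scoped Pointwise

variable {G Ω : Type*} [Group G] [Finite G]

theorem exists_sq_mem {D : Subgroup G} {w : G} (h : PiE {2} w) (h1 : w ∉ D) :
    ∃ n, w ^ n ∉ D ∧ w ^ n * w ^ n ∈ D := by
  classical
  obtain ⟨k, hk⟩ := h.exists_pow (orderOf_pos w).ne'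
  have ex : ∃ k, w ^ 2 ^ k ∈ D := ⟨k, by rw [← hk, pow_orderOf_eq_one]; exact one_mem _⟩
  obtain ⟨j, hj⟩ : ∃ j, Nat.find ex = j + 1 := Nat.exists_eq_add_one.2 (Nat.pos_of_ne_zero fun e =>
    h1 (by simpa [e] using Nat.find_spec ex))
  refine ⟨2 ^ j, Nat.find_min ex (by omega), ?_⟩
  have := Nat.find_spec ex
  rwa [hj, pow_succ, mul_two, pow_add] at this

theorem exists_sq_norm {D P : Subgroup G} (hP : PG 2 P) (h : D < P) :
    ∃ w ∈ P, w ∈ N(D) ∧ w ∉ D ∧ w * w ∈ D := by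
  obtain ⟨w, hw, w1⟩ := SetLike.exists_of_lt (hP.lt_norm h)
  obtain ⟨n, h1, h2⟩ := exists_sq_mem (hP.elt hw.1) w1
  exact ⟨_, pow_mem hw.1 n, pow_mem hw.2 n, h1, h2⟩

theorem top_of_index {M : Type*} [Group M] [Finite M] [IsSimpleGroup M] {A : Subgroup M}
    (h : A.index.factorial < Nat.card M) : A = ⊤ := by
  rcases A.normalCore_normal.eq_bot_or_eq_top with e | e
  · have : FaithfulSMul M (M ⧸ A) := ⟨fun {g k} q => (toPermHom M (M ⧸ A)).ker_eq_bot_iff.1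
      (A.normalCore_eq_ker ▸ e) (Equiv.ext q)⟩
    exact absurd (Nat.le_of_dvd (Nat.factorial_pos _) (H17.card_dvd_factorial (G := M) (α := M ⧸ A)))
      h.not_ge
  · exact top_le_iff.1 (e ▸ A.normalCore_le)

variable [MulAction G Ω] [Finite Ω] {a b c d : Ω}

theorem card_G (mt : IsMultiplyPretransitive G Ω 4) (D : D4 a b c d) :
    Nat.card G = (Nat.card Ω).descFactorial 4 * #(St4 G a b c d) := by
  rw [index_fix mt (D4_card D)]
  congr 3
  ext g; simp [mem_St4, H17.mem_fix_iff]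

theorem Ok.hl (o : Ok G Ω {2}) (D : D4 a b c d) : HL N(OS G {2} a b c d) (Fx Ω (OS G {2} a b c d)) :=
  ⟨o.t4 D, fun g _ g2 _ _ _ _ E k x hx => by
    obtain ⟨m, hm⟩ := ppart Nat.prime_two g
    rw [← pow_fix2 (g2 x hx) m]
    exact mem_Fx.1 hx _ (o.eq D E ▸ o.mem E.d4 (pow_mem k _) hm)⟩

theorem Ok.down (o : Ok G Ω {2}) (D : D4 a b c d) (h4 : 4 < (Fx Ω (OS G {2} a b c d)).ncard)
    (S : Subgroup G) : PG 2 S → 4 ≤ (Fx Ω S).ncard → (Fx Ω S).ncard = (Fx Ω (OS G {2} a b c d)).ncard ∨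
      (Fx Ω (OS G {2} a b c d)).ncard = 7 ∧ (Fx Ω S).ncard = 23 := by
  induction S using WellFoundedGT.induction with
  | _ S ih =>
  intro pg h
  obtain ⟨a', b', c', d', E⟩ := ex4 h
  rcases (o.le E.d4 E.St pg).eq_or_lt with e | e
  · exact Or.inl (by rw [e, ncardO o.mt D E.d4])
  obtain ⟨w, hw, wn, w1, w2⟩ := exists_sq_norm (Oc_pi _ _) e
  have l : S ⊔ zpowers w ≤ OS G {2} a' b' c' d' := sup_le e.le (zpowers_le.2 hw)
  have k := ih (S ⊔ zpowers w) (left_lt_sup.2 fun e => w1 (zpowers_le.1 e)) ((Oc_pi _ _).of_le l)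
    ((E4_OS E.d4).mono (Fx_anti l)).le
  rw [Fx_sup, Fx_zp] at k
  by_cases hx : Fx Ω S ⊆ fixedBy Ω w
  · rwa [Set.inter_eq_left.2 hx] at k
  obtain ⟨x, hx, wx⟩ := Set.not_subset.1 hx
  have i1 : ∀ x ∈ Fx Ω S, w • x ∈ Fx Ω S := fun _ => Fx_norm wn
  have i2 : ∀ x ∈ Fx Ω S, w • w • x = x := fun x hx => by rw [smul_smul]; exact mem_Fx.1 hx _ w2
  have st := o.stnS D pg
  have key : ∀ B ∈ Bl G {2} (Fx Ω S), x ∈ B → (∀ y ∈ B, w • y ∈ B) → (B ∩ fixedBy Ω w).ncard ≤ 3 ∧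
      (6 ≤ B.ncard → 2 ≤ (B ∩ fixedBy Ω w).ncard) ∧ B.ncard % 2 = (B ∩ fixedBy Ω w).ncard % 2 := by
    intro B hB k1 k2
    have k3 : ∀ y ∈ B, w • w • y = y := fun y hy => i2 y (st.sub B hB hy)
    obtain ⟨_, _, _, _, E', rfl⟩ := hB
    have := (o.hl E'.d4).fix (o.norm' E'.d4 k2) k3 k1 wx
    exact ⟨this.1, this.2, mod2 k2 k3⟩
  obtain ⟨t, t1, t2⟩ := st.sc i1 i2 (Bl_eqv i1) hx wx (e := 2 + (Fx Ω (OS G {2} a b c d)).ncard % 2)
    fun B hB k1 k2 k3 => by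
      have := key B hB k1 k2
      rw [st.card B hB] at this
      omega
  replace t2 := fun h6 : 6 ≤ (Fx Ω (OS G {2} a b c d)).ncard => t2 fun B hB k1 k2 =>
    (key B hB k1 k2).2.1 (by rwa [st.card B hB])
  have k1 := (o.hl D).card h4.le
  have k2 := st.dvd3 h
  generalize (Fx Ω (OS G {2} a b c d)).ncard = l at *
  generalize (Fx Ω S ∩ fixedBy Ω w).ncard = f at *
  rcases k1 with rfl | rfl | rfl | rfl | rfl <;> rcases k with rfl | ⟨k, rfl⟩ <;>
    simp only [Nat.reduceMod, Nat.reduceAdd, Nat.reduceSub, Nat.reduceMul] at t1 t2 k2 <;> omega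

theorem Hy.m23 (h : Hy G Ω) (o : Ok G Ω {2}) (D : D4 a b c d)
    (h4 : 4 < (Fx Ω (OS G {2} a b c d)).ncard) : Cfsg.Spor.IsoM23 G := by
  classical
  have := Fintype.ofFinite Ω
  have := h.faith
  have k0 : Fx Ω (⊥ : Subgroup G) = Set.univ := Set.eq_univ_of_forall fun x => Fx_le.2 bot_le
  have k := o.down D h4 ⊥ PiN.bot (k0 ▸ (E4u D).le)
  have k1 := h.Fx_lt (o.ne D)
  rw [k0, Set.ncard_univ] at k
  obtain ⟨k2, k3⟩ := k.resolve_left k1.ne'
  have st := o.stnU D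
  let B : Set (Finset Ω) := {s | (s : Set Ω) ∈ Bl G {2} Set.univ}
  obtain ⟨e⟩ := steiner_aut_M23 (B := B) (by rwa [← Nat.card_eq_fintype_card]) ⟨fun s hs => by
    rw [← Set.ncard_coe_finset, st.card _ hs, k2], fun s hs => by
      obtain ⟨a, b, c, d, h1, h2, h3, h4, h5, h6, rfl⟩ := Finset.card_eq_four.1 hs
      have D : D4 a b c d := ⟨h1, h2, h3, h4, h5, h6⟩
      obtain ⟨T, hT, E⟩ := st.ex (E4u D)
      lift T to Finset Ω using Set.toFinite T
      refine ⟨T, ⟨hT, fun x hx => E.sub (by simpa using hx)⟩, fun U hU => Finset.coe_injective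
        (st.un hU.1 hT ⟨D, hU.2 (by simp), hU.2 (by simp), hU.2 (by simp), hU.2 (by simp)⟩ E)⟩⟩
  have m : ∀ g : G, ∀ s ∈ B, toPermHom G Ω g • s ∈ B := by
    rintro g s ⟨a, b, c, d, E, hs⟩
    refine ⟨_, _, _, _, E4u (D4_smul E.d4 g), ?_⟩
    ext x
    rw [← cj_OS, ← smul_inv_smul g x, Fx_cj, ← hs, Finset.mem_coe, Finset.mem_coe]
    exact Finset.smul_mem_smul_finset_iff (toPermHom G Ω g)
  let f : G →* Cfsg.setSystemAut B := (toPermHom G Ω).codRestrict _ fun g => by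
    rw [mem_stabilizer_iff]
    ext s
    rw [Set.mem_smul_set_iff_inv_smul_mem]
    exact ⟨fun q => by simpa using m g _ q, fun q => map_inv (toPermHom G Ω) g ▸ m g⁻¹ _ q⟩
  have inj : Function.Injective (e.toMonoidHom.comp f) :=
    e.injective.comp fun x y q => toPerm_injective (α := G) (β := Ω) (congrArg Subtype.val q)
  haveI := simple_M23
  have c1 := (e.toMonoidHom.comp f).range.index_mul_card
  rw [card_M23, ← Nat.card_congr (MonoidHom.ofInjective inj).toEquiv, card_G h.mt D, k3] at c1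
  have c2 : 3 ∣ #(St4 G a b c d) := ((o.hl D).seven k2 (E4_OS D)).trans (card_dvd inf_le_right)
  have c3 : 2 ∣ #(St4 G a b c d) := ((Oc_pi _ _).dvd_of_ne_bot (o.ne D)).trans (card_dvd (Oc_le _ _))
  have c4 := card_pos (St4 G a b c d)
  have c5 : (e.toMonoidHom.comp f).range.index ≤ 8 := by
    have : 6 ≤ #(St4 G a b c d) := by omega
    simp only [Nat.descFactorial] at c1
    nlinarith
  exact ⟨MulEquiv.ofBijective _ ⟨inj, MonoidHom.range_eq_top.1 (top_of_index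
    ((Nat.factorial_le c5).trans_lt (by rw [card_M23]; decide)))⟩⟩

end H15.FT
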